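import Cfsg.Agent.MinSimple.Basic
import Cfsg.Agent.Lib.SylowNormalInf
import Cfsg.Agent.ThreePrime.SzDataExists
import Cfsg.Agent.Mrg.Omega.NatPair.Pair
import Cfsg.Agent.Omega.NatPair.Mod

section


/-!
# THEOREM 2F4: Sylow 2-subgroups of subgroups, elementwise tools

`Syl2 Q L` : `Q` is a Sylow 2-subgroup of the subgroup `L`.
-/

set_option autoImplicit false
set_option linter.unusedSectionVars false

namespace Cfsg.Agent.Omega.TwoFFour

open Subgroup Cfsg.Agent.MinSimple.VModule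

variable {G : Type*} [Group G]

instance : Fact (Nat.Prime 2) := ⟨Nat.prime_two⟩

/-- `Q` is a Sylow 2-subgroup of `L` -/
structure Syl2 (Q L : Subgroup G) : Prop where
  le : Q ≤ L
  two : IsPGroup 2 Q
  odd : ¬ 2 ∣ Q.relIndex L

namespace Syl2

variable [Finite G] {Q Q' L L' K R : Subgroup G}

theorem of_sylow (S : Sylow 2 G) (h : (S : Subgroup G) ≤ L) : Syl2 (S : Subgroup G) L :=
  ⟨h, S.isPGroup', Cfsg.Agent.MinSimple.Basic.not_dvd_relIndex S h⟩

theorem mono (h : Syl2 Q L) (hQ : Q ≤ L') (hL : L' ≤ L) : Syl2 Q L' := by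
  refine ⟨hQ, h.two, fun h2 => h.odd ?_⟩
  rw [← relIndex_mul_relIndex Q L' L hQ hL]
  exact h2.mul_right _

/-- the Sylow 2-subgroup of the group `L` -/
def syl (h : Syl2 Q L) : Sylow 2 L :=
  (h.two.comap_of_injective _ L.subtype_injective : IsPGroup 2 (Q.subgroupOf L)).toSylow h.odd

theorem coe_syl (h : Syl2 Q L) : (h.syl : Subgroup L) = Q.subgroupOf L := rfl

/-- the intersection with a normal subgroup -/
theorem inf (h : Syl2 Q L) (hK : K ≤ L) (hn : L ≤ normalizer (K : Set G)) : Syl2 (Q ⊓ K) K := by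
  refine ⟨inf_le_right, h.two.to_le inf_le_left, ?_⟩
  have h1 : (K.subgroupOf L).Normal := normal_subgroupOf_of_le_normalizer hn
  have h2 := Lib.SylowNormalInf.not_dvd_relIndex h.syl (K.subgroupOf L)
  rw [coe_syl, relIndex_subgroupOf hK] at h2
  rwa [inf_relIndex_right]

/-- a normal 2-subgroup lies in every Sylow 2-subgroup -/
theorem le_of_normal (h : Syl2 Q L) (hR : R ≤ L) (hn : L ≤ normalizer (R : Set G)) (h2 : IsPGroup 2 R) : R ≤ Q :=
  (le_o2 hR h2 hn).trans (o2_le_of_sylow h.two h.odd)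

/-- every 2-subgroup of `L` is conjugate to a subgroup of `Q` -/
theorem exists_conj_le (h : Syl2 Q L) (hR : R ≤ L) (h2 : IsPGroup 2 R) :
    ∃ x ∈ L, ∀ r ∈ R, x * r * x⁻¹ ∈ Q := by
  obtain ⟨P, hP⟩ := (h2.comap_of_injective _ L.subtype_injective : IsPGroup 2 (R.subgroupOf L)).exists_le_sylow
  obtain ⟨x, hx⟩ := MulAction.exists_smul_eq L P h.syl
  refine ⟨x, x.2, fun r hr => ?_⟩
  have h3 : (⟨r, hR hr⟩ : L) ∈ P := hP (mem_subgroupOf.2 hr)
  have h4 : x * ⟨r, hR hr⟩ * x⁻¹ ∈ (h.syl : Subgroup L) := by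
    rw [← hx]
    have : x * ⟨r, hR hr⟩ * x⁻¹ = MulAut.conj x • (⟨r, hR hr⟩ : L) := rfl
    rw [this, Sylow.coe_subgroup_smul]
    exact smul_mem_pointwise_smul _ _ _ h3
  exact mem_subgroupOf.1 h4

/-- Sylow's theorem -/
theorem exists_conj (h : Syl2 Q L) (h' : Syl2 Q' L) :
    ∃ x ∈ L, (∀ g, g ∈ Q → x * g * x⁻¹ ∈ Q') ∧ ∀ g, g ∈ Q' → x⁻¹ * g * x ∈ Q := by
  obtain ⟨x, hx⟩ := MulAction.exists_smul_eq L h.syl h'.syl
  have key : ∀ g : L, g ∈ h.syl ↔ x * g * x⁻¹ ∈ h'.syl := by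
    intro g
    rw [← hx]
    have : x * g * x⁻¹ = MulAut.conj x • g := rfl
    rw [this]
    show g ∈ (h.syl : Subgroup L) ↔ MulAut.conj x • g ∈ ((x • h.syl : Sylow 2 L) : Subgroup L)
    rw [Sylow.coe_subgroup_smul]
    exact (smul_mem_pointwise_smul_iff).symm
  refine ⟨x, x.2, fun g hg => ?_, fun g hg => ?_⟩
  · have h1 := (key ⟨g, h.le hg⟩).1 (mem_subgroupOf.2 hg)
    exact mem_subgroupOf.1 h1
  · have h1 : x * (x⁻¹ * ⟨g, h'.le hg⟩ * x) * x⁻¹ ∈ h'.syl := by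
      have e : x * (x⁻¹ * ⟨g, h'.le hg⟩ * x) * x⁻¹ = ⟨g, h'.le hg⟩ := by group
      rw [e]
      exact mem_subgroupOf.2 hg
    have h2 := (key _).2 h1
    exact mem_subgroupOf.1 h2

/-- a Sylow 2-subgroup covers every quotient that is a 2-group -/
theorem cover (h : Syl2 Q L) (hK : K ≤ L) (hn : L ≤ normalizer (K : Set G))
    (hq : ∀ g ∈ L, ∃ n : ℕ, g ^ 2 ^ n ∈ K) {g : G} (hg : g ∈ L) : ∃ s ∈ Q, s⁻¹ * g ∈ K := by
  have h1 : (K.subgroupOf L).Normal := normal_subgroupOf_of_le_normalizer hn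
  have h2 := Lib.SylowNormalInf.le_sup_inf h.syl ⊤ (K.subgroupOf L) (fun x _ => by
    obtain ⟨n, hn⟩ := hq x x.2
    exact ⟨n, mem_subgroupOf.2 hn⟩)
  have h3 : (⟨g, hg⟩ : L) ∈ K.subgroupOf L ⊔ ((h.syl : Subgroup L) ⊓ ⊤) := h2 (mem_top _)
  rw [inf_top_eq, sup_comm] at h3
  obtain ⟨s, hs, k, hk, e⟩ := (mem_sup_of_normal_right (t := K.subgroupOf L)).1 h3
  refine ⟨s, mem_subgroupOf.1 hs, ?_⟩
  have e' : (s : G) * k = g := congrArg Subtype.val e
  rw [← e', inv_mul_cancel_left]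
  exact mem_subgroupOf.1 hk

end Syl2

end Cfsg.Agent.Omega.TwoFFour

end

section


/-!
# The normaliser of `Sz(q)` in the additive automorphisms of its natural module `F⁴`

`mv A v` is the matrix action on `Fin 4 → F`. `Nrm H γ`: `γ` is an injective additive map normalising `Sz F e`.

* `Nrm.exists_semi`: `γ v = mu • A (σ v)` with `mu ∈ Fˣ`, `A ∈ Sz`, `σ` a field automorphism;
* `Nrm.exists_of_two`: if a power `γ ^ (2 ^ n)` is the identity then `γ ∈ Sz`;
* `fix_T`, `fix_Z`: fixed points of `T` and of the elements of `Z(T)`.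
-/

set_option autoImplicit false
set_option linter.unusedSectionVars false

namespace Cfsg.Agent.Omega.TwoFFour

open Matrix Cfsg.Agent.LieRecognition.SzMatrix Cfsg.Agent.ThreePrime.SzRel

variable {F : Type*} [Field F] {θ : F →+* F} {e : ℕ}

/-- the action of matrices on `F⁴` -/
def mv (A : GL (Fin 4) F) (v : Fin 4 → F) : Fin 4 → F := A.1 *ᵥ v

theorem mv_mul (A B : GL (Fin 4) F) (v : Fin 4 → F) : mv (A * B) v = mv A (mv B v) := by
  unfold mv
  rw [Units.val_mul, Matrix.mulVec_mulVec]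

theorem mv_one (v : Fin 4 → F) : mv 1 v = v := by
  unfold mv
  rw [Units.val_one, Matrix.one_mulVec]

theorem mv_inv_mv (A : GL (Fin 4) F) (v : Fin 4 → F) : mv A⁻¹ (mv A v) = v := by
  rw [← mv_mul, inv_mul_cancel, mv_one]

theorem mv_mv_inv (A : GL (Fin 4) F) (v : Fin 4 → F) : mv A (mv A⁻¹ v) = v := by
  rw [← mv_mul, mul_inv_cancel, mv_one]

theorem mv_add (A : GL (Fin 4) F) (v w : Fin 4 → F) : mv A (v + w) = mv A v + mv A w :=
  Matrix.mulVec_add _ _ _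

theorem mv_sub (A : GL (Fin 4) F) (v w : Fin 4 → F) : mv A (v - w) = mv A v - mv A w :=
  Matrix.mulVec_sub _ _ _

theorem mv_zero (A : GL (Fin 4) F) : mv A 0 = 0 := Matrix.mulVec_zero _

theorem mv_smul (A : GL (Fin 4) F) (c : F) (v : Fin 4 → F) : mv A (c • v) = c • mv A v :=
  Matrix.mulVec_smul _ _ _

theorem mv_inj {A B : GL (Fin 4) F} (h : ∀ v, mv A v = mv B v) : A = B := by
  apply Units.ext
  ext i j
  have h1 := congrFun (h (Pi.single j 1)) i
  unfold mv at h1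
  rw [Matrix.mulVec_single_one, Matrix.mulVec_single_one] at h1
  exact h1

theorem mv_injective (A : GL (Fin 4) F) : Function.Injective (mv A) := by
  intro v w h
  rw [← mv_inv_mv A v, h, mv_inv_mv]

theorem ext4 {v w : Fin 4 → F} (h0 : v 0 = w 0) (h1 : v 1 = w 1) (h2 : v 2 = w 2) (h3 : v 3 = w 3) : v = w := by
  funext i
  fin_cases i
  · exact h0
  · exact h1
  · exact h2
  · exact h3

theorem mv_U (H : Good F θ e) (a b : F) (v : Fin 4 → F) : mv (H.U a b) v =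
    ![v 0 + a * v 1 + b * v 2 + (a * b + a ^ 2 * θ a + θ b) * v 3,
      v 1 + θ a * v 2 + (b + a * θ a) * v 3, v 2 + a * v 3, v 3] := by
  unfold mv
  rw [H.U_val, Umat_def]
  apply ext4 <;> simp [Matrix.mulVec, dotProduct, Fin.sum_univ_four]

theorem mv_D (H : Good F θ e) (k : Fˣ) (v : Fin 4 → F) : mv (H.D k) v =
    ![k * v 0, θ k * (k : F)⁻¹ * v 1, k * (θ k)⁻¹ * v 2, (k : F)⁻¹ * v 3] := by
  unfold mv
  rw [H.D_val, Dmat_def]
  apply ext4 <;> simp [Matrix.mulVec, dotProduct, Fin.sum_univ_four]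

theorem mv_W (v : Fin 4 → F) : mv (W F) v = ![v 3, v 2, v 1, v 0] := by
  unfold mv
  rw [W_val]
  unfold Cfsg.Agent.LieRecognition.SzMatrix.J
  apply ext4 <;> simp [Matrix.mulVec, dotProduct, Fin.sum_univ_four]

/-- the fixed points of `T` -/
theorem fix_T (H : Good F θ e) {v : Fin 4 → F} : (∀ a b, mv (H.U a b) v = v) ↔ v 1 = 0 ∧ v 2 = 0 ∧ v 3 = 0 := by
  constructor
  · intro h
    have h3 := congrFun (h 1 0) 2
    rw [mv_U] at h3
    have h3 : v 2 + 1 * v 3 = v 2 := h3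
    have h3 : v 3 = 0 := by linear_combination h3
    have h2 := congrFun (h 0 1) 0
    rw [mv_U] at h2
    have h2 : v 0 + 0 * v 1 + 1 * v 2 + (0 * 1 + 0 ^ 2 * θ 0 + θ 1) * v 3 = v 0 := h2
    rw [h3] at h2
    have h2 : v 2 = 0 := by linear_combination h2
    have h1 := congrFun (h 1 0) 0
    rw [mv_U] at h1
    have h1 : v 0 + 1 * v 1 + 0 * v 2 + (1 * 0 + 1 ^ 2 * θ 1 + θ 0) * v 3 = v 0 := h1
    rw [h3] at h1
    have h1 : v 1 = 0 := by linear_combination h1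
    exact ⟨h1, h2, h3⟩
  · rintro ⟨h1, h2, h3⟩ a b
    rw [mv_U]
    apply ext4
    · show v 0 + a * v 1 + b * v 2 + (a * b + a ^ 2 * θ a + θ b) * v 3 = v 0
      rw [h1, h2, h3]; ring
    · show v 1 + θ a * v 2 + (b + a * θ a) * v 3 = v 1
      rw [h2, h3]; ring
    · show v 2 + a * v 3 = v 2
      rw [h3]; ring
    · rfl

/-- the fixed points of an involution of `T` -/
theorem fix_Z (H : Good F θ e) {b : F} (hb : b ≠ 0) {v : Fin 4 → F} :
    mv (H.U 0 b) v = v ↔ v 2 = 0 ∧ v 3 = 0 := by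
  constructor
  · intro h
    have h3 := congrFun h 1
    rw [mv_U] at h3
    have h3 : v 1 + θ 0 * v 2 + (b + 0 * θ 0) * v 3 = v 1 := h3
    rw [map_zero] at h3
    have h3 : b * v 3 = 0 := by linear_combination h3
    have h3 : v 3 = 0 := (mul_eq_zero.1 h3).resolve_left hb
    have h2 := congrFun h 0
    rw [mv_U] at h2
    have h2 : v 0 + 0 * v 1 + b * v 2 + (0 * b + 0 ^ 2 * θ 0 + θ b) * v 3 = v 0 := h2
    rw [h3] at h2
    have h2 : b * v 2 = 0 := by linear_combination h2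
    exact ⟨(mul_eq_zero.1 h2).resolve_left hb, h3⟩
  · rintro ⟨h2, h3⟩
    rw [mv_U]
    apply ext4
    · show v 0 + 0 * v 1 + b * v 2 + (0 * b + 0 ^ 2 * θ 0 + θ b) * v 3 = v 0
      rw [h2, h3]; ring
    · show v 1 + θ 0 * v 2 + (b + 0 * θ 0) * v 3 = v 1
      rw [h2, h3]; ring
    · show v 2 + 0 * v 3 = v 2
      ring
    · rfl

/-- `γ` is an injective additive map of `F⁴` normalising `Sz F e` -/
structure Nrm (H : Good F θ e) (γ : (Fin 4 → F) → (Fin 4 → F)) : Prop where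
  add : ∀ v w, γ (v + w) = γ v + γ w
  inj : Function.Injective γ
  nrm : ∀ A ∈ Cfsg.Lie.Sz F e, ∃ B ∈ Cfsg.Lie.Sz F e, ∀ v, γ (mv A v) = mv B (γ v)

namespace Nrm

variable {H : Good F θ e} {γ : (Fin 4 → F) → (Fin 4 → F)}

theorem zero (h : Nrm H γ) : γ 0 = 0 := by
  have := h.add 0 0
  rw [add_zero] at this
  exact left_eq_add.1 this

theorem mv_comp (h : Nrm H γ) {A : GL (Fin 4) F} (hA : A ∈ Cfsg.Lie.Sz F e) : Nrm H (fun v => mv A (γ v)) where
  add v w := by rw [h.add, mv_add]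
  inj := (mv_injective A).comp h.inj
  nrm X hX := by
    obtain ⟨B, hB, hXB⟩ := h.nrm X hX
    refine ⟨A * B * A⁻¹, mul_mem (mul_mem hA hB) (inv_mem hA), fun v => ?_⟩
    show mv A (γ (mv X v)) = mv (A * B * A⁻¹) (mv A (γ v))
    rw [hXB, mv_mul, mv_mul, mv_inv_mv]

/-- the automorphism induced on `Sz` -/
theorem exists_aut [Finite F] (h : Nrm H γ) : ∃ α : MulAut ↥(Cfsg.Lie.Sz F e),
    ∀ (A : ↥(Cfsg.Lie.Sz F e)) v, γ (mv A.1 v) = mv (α A).1 (γ v) := by
  have hsurj : Function.Surjective γ := Finite.surjective_of_injective h.inj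
  choose f hf hfv using fun A : ↥(Cfsg.Lie.Sz F e) => h.nrm A.1 A.2
  have huniq : ∀ (A B : ↥(Cfsg.Lie.Sz F e)), (∀ v, γ (mv A.1 v) = mv B.1 (γ v)) → B = ⟨f A, hf A⟩ := by
    intro A B hB
    apply Subtype.ext
    apply mv_inj
    intro v
    obtain ⟨w, rfl⟩ := hsurj v
    rw [← hB, hfv]
  let φ : ↥(Cfsg.Lie.Sz F e) →* ↥(Cfsg.Lie.Sz F e) :=
    { toFun := fun A => ⟨f A, hf A⟩
      map_one' := by
        refine (huniq 1 1 fun v => ?_).symm
        show γ (mv 1 v) = mv 1 (γ v)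
        rw [mv_one, mv_one]
      map_mul' := fun A B => by
        refine (huniq (A * B) (⟨f A, hf A⟩ * ⟨f B, hf B⟩) fun v => ?_).symm
        show γ (mv (A.1 * B.1) v) = mv (f A * f B) (γ v)
        rw [mv_mul, mv_mul, hfv, hfv] }
  have hinj : Function.Injective φ := by
    intro A B hAB
    have h1 : f A = f B := congrArg Subtype.val hAB
    apply Subtype.ext
    apply mv_inj
    intro v
    apply h.inj
    rw [hfv, hfv, h1]
  have : Finite ↥(Cfsg.Lie.Sz F e) := inferInstance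
  refine ⟨MulEquiv.ofBijective φ ⟨hinj, Finite.surjective_of_injective hinj⟩, fun A v => ?_⟩
  exact hfv A v

end Nrm

/-- `γ` normalises `Sz`, inducing `α`, which normalises `T` and `T^w` -/
structure Std (H : Good F θ e) (γ : (Fin 4 → F) → (Fin 4 → F)) (α : MulAut ↥(Cfsg.Lie.Sz F e)) : Prop where
  nrm : Nrm H γ
  eq : ∀ (A : ↥(Cfsg.Lie.Sz F e)) v, γ (mv A.1 v) = mv (α A).1 (γ v)
  T : ∀ a b, ∃ c d, α (H.u a b) = H.u c d
  w : ∃ a b k, α H.w = H.w * (H.u a b * H.d k)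

open scoped Pointwise in
theorem Nrm.exists_std [Fintype F] {m : ℕ} (hm : 1 ≤ m) (hF : Fintype.card F = 2 ^ (2 * m + 1))
    {H : Good F θ e} {γ : (Fin 4 → F) → (Fin 4 → F)} (h : Nrm H γ) :
    ∃ A : ↥(Cfsg.Lie.Sz F e), ∃ α, Std H (fun v => mv A.1 (γ v)) α := by
  classical
  have : Fact (Nat.Prime 2) := ⟨Nat.prime_two⟩
  have : Finite ↥(Cfsg.Lie.Sz F e) := inferInstance
  obtain ⟨α, hα⟩ := h.exists_aut
  let R := ofGood H
  obtain ⟨P, hP⟩ := R.exists_sylow_eq hm hF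
  obtain ⟨g, hg⟩ := MulAction.exists_smul_eq ↥(Cfsg.Lie.Sz F e) (α • P) P
  let β : MulAut ↥(Cfsg.Lie.Sz F e) := MulAut.conj g * α
  have hβP : β • P = P := by
    rw [show β • P = MulAut.conj g • (α • P) from mul_smul _ _ _]
    exact hg
  have hβT : ∀ x ∈ R.T, β x ∈ R.T := R.map_conj_T β P hP hβP
  have hwT : ¬ ∃ a b k, β H.w = H.u a b * H.d k := by
    rintro ⟨a, b, k, hw⟩
    -- `w` would normalise `T`
    have h1 : β H.w ∈ Subgroup.normalizer (R.T : Set ↥(Cfsg.Lie.Sz F e)) := by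
      rw [hw]; exact R.ud_mem_normalizer a b k
    have hbij : ∀ x ∈ R.T, ∃ y ∈ R.T, β y = x := by
      intro x hx
      have h2 : x ∈ (P : Subgroup ↥(Cfsg.Lie.Sz F e)) := by rw [hP]; exact hx
      rw [← hβP, Sylow.pointwise_smul_def, Subgroup.mem_smul_pointwise_iff_exists] at h2
      obtain ⟨y, hy, rfl⟩ := h2
      exact ⟨y, by rw [← hP]; exact hy, rfl⟩
    apply R.w_not_mem_normalizer
    refine R.ti (R.u_mem 0 1) (R.u_ne_one one_ne_zero) ?_
    obtain ⟨y, hy, hy'⟩ := hbij _ ((Subgroup.mem_normalizer_iff.1 h1 _).1 (hβT _ (R.u_mem 0 1)))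
    have h3 : β (R.w * R.u 0 1 * R.w⁻¹) = β y := by
      rw [hy', map_mul, map_mul, map_inv]
      rfl
    rw [β.injective h3]
    exact hy
  have hbr : ∃ (a b c d : F) (k : Fˣ), β H.w = H.u a b * H.w * (H.u c d * H.d k) := by
    rcases H.bruhat (β H.w).2 with ⟨a, b, k, h1⟩ | ⟨a, b, c, d, k, h1⟩
    · exact absurd ⟨a, b, k, Subtype.ext h1⟩ hwT
    · exact ⟨a, b, c, d, k, Subtype.ext h1⟩
  obtain ⟨a, b, c, d, k, hw⟩ := hbr
  refine ⟨(H.u a b)⁻¹ * g, MulAut.conj (H.u a b)⁻¹ * β, ?_, ?_, ?_, ?_⟩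
  · exact h.mv_comp ((H.u a b)⁻¹ * g).2
  · intro A v
    show mv ((H.u a b)⁻¹ * g).1 (γ (mv A.1 v)) = mv ((H.u a b)⁻¹ * (g * α A * g⁻¹) * (H.u a b)⁻¹⁻¹).1
      (mv ((H.u a b)⁻¹ * g).1 (γ v))
    rw [hα, ← mv_mul, ← mv_mul, ← Subgroup.coe_mul, ← Subgroup.coe_mul]
    congr 2
    group
  · intro x y
    have h1 := mul_mem (mul_mem (inv_mem (R.u_mem a b)) (hβT _ (R.u_mem x y))) (inv_mem (inv_mem (R.u_mem a b)))
    obtain ⟨c, d, h2⟩ := h1
    exact ⟨c, d, h2⟩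
  · obtain ⟨a', b', k', h2⟩ : ∃ (a' b' : F) (k' : Fˣ), H.u c d * H.d k * H.u a b = H.u a' b' * H.d k' := by
      have h3 := H.u_mul c d (a * k ^ 2 * (θ k)⁻¹) (b * θ k)
      exact ⟨_, _, k, by rw [mul_assoc, H.d_mul_u, ← mul_assoc, h3]⟩
    refine ⟨a', b', k', ?_⟩
    show (H.u a b)⁻¹ * β H.w * (H.u a b)⁻¹⁻¹ = _
    rw [hw, ← h2]
    group

namespace Std

variable {H : Good F θ e} {γ : (Fin 4 → F) → (Fin 4 → F)} {α : MulAut ↥(Cfsg.Lie.Sz F e)}

theorem T' [Finite F] (h : Std H γ α) (a b : F) : ∃ c d, α (H.u c d) = H.u a b := by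
  choose f g hfg using h.T
  have hinj : Function.Injective (fun p : F × F => (f p.1 p.2, g p.1 p.2)) := by
    rintro ⟨x, y⟩ ⟨x', y'⟩ hxy
    have h1 : f x y = f x' y' := congrArg Prod.fst hxy
    have h2 : g x y = g x' y' := congrArg Prod.snd hxy
    have h3 : H.u x y = H.u x' y' := by
      apply α.injective
      rw [hfg, hfg, h1, h2]
    obtain ⟨rfl, rfl⟩ := H.u_inj h3
    rfl
  obtain ⟨⟨c, d⟩, hcd⟩ := Finite.surjective_of_injective hinj (a, b)
  refine ⟨c, d, ?_⟩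
  rw [hfg]
  have h1 : f c d = a := congrArg Prod.fst hcd
  have h2 : g c d = b := congrArg Prod.snd hcd
  rw [h1, h2]

theorem sq_iff (H : Good F θ e) (a b : F) : H.u a b * H.u a b = 1 ↔ a = 0 :=
  (ofGood H).u_sq_iff a b

/-- `α` normalises `Z(T)` -/
theorem Z' (h : Std H γ α) (b : F) : ∃ d, α (H.u 0 b) = H.u 0 d := by
  obtain ⟨c, d, hcd⟩ := h.T 0 b
  have h1 : H.u c d * H.u c d = 1 := by
    rw [← hcd, ← map_mul, (sq_iff H 0 b).2 rfl, map_one]
  rw [sq_iff] at h1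
  subst h1
  exact ⟨d, hcd⟩

theorem ne_zero_of (h : Std H γ α) {b d : F} (hb : b ≠ 0) (hd : α (H.u 0 b) = H.u 0 d) : d ≠ 0 := by
  rintro rfl
  rw [H.u_zero] at hd
  have h1 : H.u 0 b = 1 := by
    apply α.injective
    rw [hd, map_one]
  rw [← H.u_zero] at h1
  exact hb (H.u_inj h1).2

theorem eqU (h : Std H γ α) {a b c d : F} (hcd : α (H.u a b) = H.u c d) (v : Fin 4 → F) :
    γ (mv (H.U a b) v) = mv (H.U c d) (γ v) := by
  have := h.eq (H.u a b) v
  rw [hcd] at this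
  exact this

/-- `C_M(T)` is invariant -/
theorem line0 [Finite F] (h : Std H γ α) {v : Fin 4 → F} (hv : v 1 = 0 ∧ v 2 = 0 ∧ v 3 = 0) :
    γ v 1 = 0 ∧ γ v 2 = 0 ∧ γ v 3 = 0 := by
  rw [← fix_T H] at hv ⊢
  intro a b
  obtain ⟨c, d, hcd⟩ := h.T' a b
  rw [← h.eqU hcd, hv]

/-- `C_M(Z(T))` is invariant -/
theorem plane (h : Std H γ α) {v : Fin 4 → F} (hv : v 2 = 0 ∧ v 3 = 0) : γ v 2 = 0 ∧ γ v 3 = 0 := by
  obtain ⟨d, hd⟩ := h.Z' 1
  have hd0 := h.ne_zero_of one_ne_zero hd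
  rw [← fix_Z H hd0, ← h.eqU hd, (fix_Z H one_ne_zero).2 hv]

theorem ud_inv (H : Good F θ e) (a b : F) (k : Fˣ) : ∃ c d l, (H.u a b * H.d k)⁻¹ = H.u c d * H.d l := by
  have h1 : (H.u a b * H.d k)⁻¹ ∈ H.borel := inv_mem ((H.mem_borel_iff' _).2 ⟨a, b, k, rfl⟩)
  exact (H.mem_borel_iff' _).1 h1

/-- conjugation with `w` -/
theorem flip (h : Std H γ α) :
    Std H (fun v => mv (W F) (γ (mv (W F) v))) (MulAut.conj H.w * α * MulAut.conj H.w) where
  nrm :=
    { add := fun v w => by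
        show mv (W F) (γ (mv (W F) (v + w))) = _
        rw [mv_add, h.nrm.add, mv_add]
      inj := (mv_injective _).comp (h.nrm.inj.comp (mv_injective _))
      nrm := fun A hA => by
        obtain ⟨B, hB, hAB⟩ := h.nrm.nrm (W F * A * W F) (mul_mem (mul_mem H.W_mem hA) H.W_mem)
        refine ⟨W F * B * W F, mul_mem (mul_mem H.W_mem hB) H.W_mem, fun v => ?_⟩
        show mv (W F) (γ (mv (W F) (mv A v))) = mv (W F * B * W F) (mv (W F) (γ (mv (W F) v)))
        have h1 : mv (W F) (mv A v) = mv (W F * A * W F) (mv (W F) v) := by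
          rw [← mv_mul, ← mv_mul, mul_assoc _ (W F) (W F), W_mul_W, mul_one]
        rw [h1, hAB, ← mv_mul, ← mv_mul, mul_assoc _ (W F) (W F), W_mul_W, mul_one] }
  eq A v := by
    show mv (W F) (γ (mv (W F) (mv A.1 v))) =
      mv (H.w * α (H.w * A * H.w⁻¹) * H.w⁻¹).1 (mv (W F) (γ (mv (W F) v)))
    have h1 : mv (W F) (mv A.1 v) = mv (H.w * A * H.w⁻¹).1 (mv (W F) v) := by
      rw [H.w_inv]
      show _ = mv (W F * A.1 * W F) (mv (W F) v)
      rw [← mv_mul, ← mv_mul, mul_assoc _ (W F) (W F), W_mul_W, mul_one]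
    rw [h1, h.eq, H.w_inv]
    show mv (W F) (mv (α (H.w * A * H.w)).1 (γ (mv (W F) v))) =
      mv (W F * (α (H.w * A * H.w)).1 * W F) (mv (W F) (γ (mv (W F) v)))
    rw [← mv_mul, ← mv_mul, mul_assoc _ (W F) (W F), W_mul_W, mul_one]
  T a b := by
    obtain ⟨x, y, k, hw⟩ := h.w
    obtain ⟨c, d, hcd⟩ := h.T a b
    have h1 : H.u x y * H.d k * H.u c d * (H.u x y * H.d k)⁻¹ ∈ H.unip :=
      H.borel_normalizes _ ((H.mem_borel_iff' _).2 ⟨x, y, k, rfl⟩) _ (H.u_mem_unip c d)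
    obtain ⟨c', d', h2⟩ := (H.mem_unip_iff _).1 h1
    refine ⟨c', d', ?_⟩
    show H.w * α (H.w * H.u a b * H.w⁻¹) * H.w⁻¹ = _
    rw [map_mul, map_mul, map_inv, hw, hcd, ← h2]
    have h3 := H.w_mul_w
    have h4 : H.w * (H.w * (H.u x y * H.d k) * H.u c d * (H.w * (H.u x y * H.d k))⁻¹) * H.w⁻¹ =
        (H.w * H.w) * (H.u x y * H.d k) * H.u c d * (H.u x y * H.d k)⁻¹ * (H.w * H.w)⁻¹ := by group
    rw [h4, h3]
    group
  w := by
    obtain ⟨x, y, k, hw⟩ := h.w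
    obtain ⟨c, d, l, hcd⟩ := ud_inv H x y k
    refine ⟨c, d, l, ?_⟩
    show H.w * α (H.w * H.w * H.w⁻¹) * H.w⁻¹ = _
    have h1 : α H.w = (α H.w)⁻¹ := by
      rw [← map_inv, H.w_inv]
    rw [mul_inv_cancel_right, h1, hw, ← hcd]
    have h4 : H.w * (H.w * (H.u x y * H.d k))⁻¹ * H.w⁻¹ =
        H.w * (H.u x y * H.d k)⁻¹ * (H.w * H.w)⁻¹ := by group
    rw [h4, H.w_mul_w]
    group

theorem α_flip (h : Std H γ α) (b : F) : ∃ d, α (H.w * H.u 0 b * H.w) = H.w * H.u 0 d * H.w := by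
  obtain ⟨d, hd⟩ := h.flip.Z' b
  refine ⟨d, ?_⟩
  rw [← hd]
  show _ = H.w * (H.w * α (H.w * H.u 0 b * H.w⁻¹) * H.w⁻¹) * H.w
  rw [H.w_inv]
  have h4 : H.w * (H.w * α (H.w * H.u 0 b * H.w) * H.w) * H.w =
      (H.w * H.w) * α (H.w * H.u 0 b * H.w) * (H.w * H.w) := by group
  rw [h4, H.w_mul_w, one_mul, mul_one]

theorem mv_wuw (H : Good F θ e) (b : F) (v : Fin 4 → F) : mv (H.w * H.u 0 b * H.w).1 v =
    ![v 0, v 1, v 2 + b * v 0, v 3 + b * v 1 + θ b * v 0] := by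
  show mv (W F * H.U 0 b * W F) v = _
  rw [mv_mul, mv_mul, mv_W v, mv_U, mv_W]
  apply ext4 <;> simp

/-- the line `F e₃` is invariant -/
theorem line3 [Finite F] (h : Std H γ α) {v : Fin 4 → F} (hv : v 0 = 0 ∧ v 1 = 0 ∧ v 2 = 0) :
    γ v 0 = 0 ∧ γ v 1 = 0 ∧ γ v 2 = 0 := by
  have h1 := h.flip.line0 (v := mv (W F) v) (by rw [mv_W]; exact ⟨hv.2.2, hv.2.1, hv.1⟩)
  have h2 : mv (W F) (mv (W F) v) = v := by rw [← mv_mul, W_mul_W, mv_one]
  simp only [h2] at h1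
  rw [mv_W] at h1
  exact ⟨h1.2.2, h1.2.1, h1.1⟩

/-- the line `F e₁` is invariant -/
theorem line1 [Finite F] (h : Std H γ α) {v : Fin 4 → F} (hv : v 0 = 0 ∧ v 2 = 0 ∧ v 3 = 0) :
    γ v 0 = 0 ∧ γ v 2 = 0 ∧ γ v 3 = 0 := by
  obtain ⟨h2, h3⟩ := h.plane hv.2
  refine ⟨?_, h2, h3⟩
  obtain ⟨d, hd⟩ := h.α_flip 1
  have hd0 : d ≠ 0 := by
    rintro rfl
    have h4 : H.w * H.u 0 1 * H.w = 1 := by
      apply α.injective
      rw [hd, map_one, H.u_zero, mul_one, H.w_mul_w]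
    have h5 : H.u 0 1 = H.u 0 0 := by
      have h6 : H.w * (H.w * H.u 0 1 * H.w) * H.w = 1 := by rw [h4, mul_one, H.w_mul_w]
      have h7 : H.w * (H.w * H.u 0 1 * H.w) * H.w = (H.w * H.w) * H.u 0 1 * (H.w * H.w) := by group
      rw [h7, H.w_mul_w, one_mul, mul_one] at h6
      rw [h6, H.u_zero]
    exact one_ne_zero (H.u_inj h5).2
  have h4 := h.eq (H.w * H.u 0 1 * H.w) v
  rw [hd, mv_wuw, mv_wuw] at h4
  have h5 : (![v 0, v 1, v 2 + 1 * v 0, v 3 + 1 * v 1 + θ 1 * v 0] : Fin 4 → F) = v + Pi.single 3 (v 1) := by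
    apply ext4 <;> simp [hv.1]
  rw [h5, h.nrm.add] at h4
  have h6 := h.line3 (v := Pi.single 3 (v 1)) (by simp)
  have h7 := congrFun h4 2
  rw [Pi.add_apply, h6.2.2, add_zero] at h7
  have h7 : γ v 2 = γ v 2 + d * γ v 0 := h7
  have h8 : d * γ v 0 = 0 := by linear_combination -h7
  exact (mul_eq_zero.1 h8).resolve_left hd0

/-- the line `F e₂` is invariant -/
theorem line2 [Finite F] (h : Std H γ α) {v : Fin 4 → F} (hv : v 0 = 0 ∧ v 1 = 0 ∧ v 3 = 0) :
    γ v 0 = 0 ∧ γ v 1 = 0 ∧ γ v 3 = 0 := by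
  have h1 := h.flip.line1 (v := mv (W F) v) (by rw [mv_W]; exact ⟨hv.2.2, hv.2.1, hv.1⟩)
  have h2 : mv (W F) (mv (W F) v) = v := by rw [← mv_mul, W_mul_W, mv_one]
  simp only [h2] at h1
  rw [mv_W] at h1
  exact ⟨h1.2.2, h1.2.1, h1.1⟩

theorem single_eq [Finite F] (h : Std H γ α) (i : Fin 4) (x : F) :
    γ (Pi.single i x) = Pi.single i (γ (Pi.single i x) i) := by
  fin_cases i
  · have h1 := h.line0 (v := Pi.single 0 x) (by simp)
    apply ext4
    · simp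
    · simpa using h1.1
    · simpa using h1.2.1
    · simpa using h1.2.2
  · have h1 := h.line1 (v := Pi.single 1 x) (by simp)
    apply ext4
    · simpa using h1.1
    · simp
    · simpa using h1.2.1
    · simpa using h1.2.2
  · have h1 := h.line2 (v := Pi.single 2 x) (by simp)
    apply ext4
    · simpa using h1.1
    · simpa using h1.2.1
    · simp
    · simpa using h1.2.2
  · have h1 := h.line3 (v := Pi.single 3 x) (by simp)
    apply ext4
    · simpa using h1.1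
    · simpa using h1.2.1
    · simpa using h1.2.2
    · simp

/-- the diagonal characters of the torus -/
def ch (θ : F →+* F) (k : Fˣ) : Fin 4 → F := ![k, θ k * (k : F)⁻¹, k * (θ k)⁻¹, (k : F)⁻¹]

theorem mv_D_single (H : Good F θ e) (k : Fˣ) (i : Fin 4) (x : F) :
    mv (H.D k) (Pi.single i x) = Pi.single i (ch θ k i * x) := by
  rw [mv_D]
  fin_cases i <;> apply ext4 <;> simp [ch]

theorem exists_d [Finite F] (h : Std H γ α) (k : Fˣ) : ∃ l, α (H.d k) = H.d l := by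
  let R := ofGood H
  have h1 : ∀ x ∈ R.T, α x ∈ R.T := by
    rintro _ ⟨a, b, rfl⟩
    obtain ⟨c, d, hcd⟩ := h.T a b
    exact ⟨c, d, hcd⟩
  have h2 : R.w * α R.w ∈ Subgroup.normalizer (R.T : Set ↥(Cfsg.Lie.Sz F e)) := by
    obtain ⟨a, b, l, hw⟩ := h.w
    show H.w * α H.w ∈ _
    rw [hw, ← mul_assoc, H.w_mul_w, one_mul]
    exact R.ud_mem_normalizer a b l
  obtain ⟨l, hl⟩ := R.map_D h1 h2 k
  exact ⟨l, hl⟩

theorem theta_comm (H : Good F θ e) (σ : F →+* F) (x : F) : σ (θ x) = θ (σ x) := by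
  rw [← H.pow, ← H.pow, map_pow]

theorem exists_div [Finite F] (H : Good F θ e) (x : Fˣ) : ∃ k : Fˣ, θ k * (k : F)⁻¹ = x := by
  let f : Fˣ →* Fˣ :=
    { toFun := fun k => Units.map (θ : F →* F) k * k⁻¹
      map_one' := by simp
      map_mul' := by
        intro k l
        rw [map_mul, _root_.mul_inv_rev, mul_comm l⁻¹]
        exact mul_mul_mul_comm _ _ _ _ }
  have hf : Function.Injective f := by
    rw [injective_iff_map_eq_one]
    intro k hk
    have h1 : θ k * (k : F)⁻¹ = 1 := by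
      have := congrArg Units.val hk
      simpa [f] using this
    rw [mul_inv_eq_one₀ k.ne_zero] at h1
    rcases (ofGood H).fix_theta h1 with h2 | h2
    · exact absurd h2 k.ne_zero
    · exact Units.ext h2
  obtain ⟨k, hk⟩ := Finite.surjective_of_injective hf x
  refine ⟨k, ?_⟩
  have := congrArg Units.val hk
  simpa [f] using this

/-- **The standard form**: `γ` is a scalar times a torus element times a field automorphism. -/
theorem exists_form [Finite F] (h : Std H γ α) : ∃ (mu k : Fˣ) (σ : F ≃+* F),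
    ∀ v, γ v = (mu : F) • mv (H.D k) (fun i => σ (v i)) := by
  choose κ hκ using h.exists_d
  -- coordinates
  have hγ : ∀ (i : Fin 4) (k : Fˣ) (x : F), γ (Pi.single i (ch θ k i * x)) i = ch θ (κ k) i * γ (Pi.single i x) i := by
    intro i k x
    have h1 := h.eq (H.d k) (Pi.single i x)
    rw [hκ] at h1
    have h2 : mv (H.d k).1 (Pi.single i x) = Pi.single i (ch θ k i * x) := mv_D_single H k i x
    rw [h2, h.single_eq i x] at h1
    have h3 : mv (H.d (κ k)).1 (Pi.single i (γ (Pi.single i x) i)) = Pi.single i (ch θ (κ k) i * γ (Pi.single i x) i) :=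
      mv_D_single H (κ k) i _
    rw [h3] at h1
    have h4 := congrFun h1 i
    rw [Pi.single_eq_same] at h4
    exact h4
  have hadd : ∀ (i : Fin 4) (x y : F), γ (Pi.single i (x + y)) i = γ (Pi.single i x) i + γ (Pi.single i y) i := by
    intro i x y
    rw [Pi.single_add, h.nrm.add]
    rfl
  have hne : ∀ (i : Fin 4) (x : F), x ≠ 0 → γ (Pi.single i x) i ≠ 0 := by
    intro i x hx h0
    have h1 := h.single_eq i x
    rw [h0, Pi.single_zero, ← h.nrm.zero] at h1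
    have h2 := h.nrm.inj h1
    exact hx (Pi.single_eq_zero_iff.1 h2)
  -- the field automorphism
  set c : Fin 4 → F := fun i => γ (Pi.single i 1) i with hc
  have hc0 : ∀ i, c i ≠ 0 := fun i => hne i 1 one_ne_zero
  let s : F → F := fun x => γ (Pi.single 0 x) 0 * (c 0)⁻¹
  have hs1 : s 1 = 1 := mul_inv_cancel₀ (hc0 0)
  have hsk : ∀ (k : Fˣ) (x : F), s (k * x) = κ k * s x := by
    intro k x
    show γ (Pi.single 0 (k * x)) 0 * (c 0)⁻¹ = κ k * (γ (Pi.single 0 x) 0 * (c 0)⁻¹)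
    have h1 : γ (Pi.single 0 (k * x)) 0 = κ k * γ (Pi.single 0 x) 0 := hγ 0 k x
    rw [h1]; ring
  have hsκ : ∀ k : Fˣ, s k = κ k := by
    intro k
    have := hsk k 1
    rw [mul_one, hs1, mul_one] at this
    exact this
  have hsadd : ∀ x y, s (x + y) = s x + s y := by
    intro x y
    show γ (Pi.single 0 (x + y)) 0 * (c 0)⁻¹ = _
    rw [hadd]; show _ = γ (Pi.single 0 x) 0 * (c 0)⁻¹ + γ (Pi.single 0 y) 0 * (c 0)⁻¹
    ring
  have hs0 : s 0 = 0 := by
    have := hsadd 0 0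
    rw [add_zero] at this
    exact left_eq_add.1 this
  have hsmul : ∀ x y, s (x * y) = s x * s y := by
    intro x y
    by_cases hx : x = 0
    · rw [hx, zero_mul, hs0, zero_mul]
    · have := hsk (Units.mk0 x hx) y
      rw [← hsκ] at this
      exact this
  let σ₀ : F →+* F := { toFun := s, map_one' := hs1, map_mul' := hsmul, map_zero' := hs0, map_add' := hsadd }
  let σ : F ≃+* F := RingEquiv.ofBijective σ₀ ⟨σ₀.injective, Finite.surjective_of_injective σ₀.injective⟩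
  have hσ : ∀ x, σ x = s x := fun _ => rfl
  have hσκ : ∀ k : Fˣ, σ k = κ k := hsκ
  have hσθ : ∀ x, σ (θ x) = θ (σ x) := theta_comm H (σ : F →+* F)
  have hch : ∀ (i : Fin 4) (k : Fˣ), σ (ch θ k i) = ch θ (κ k) i := by
    intro i k
    fin_cases i
    · exact hσκ k
    · show σ (θ k * (k : F)⁻¹) = θ (κ k) * (κ k : F)⁻¹
      rw [map_mul, map_inv₀, hσθ, hσκ]
    · show σ (k * (θ k : F)⁻¹) = (κ k) * (θ (κ k) : F)⁻¹
      rw [map_mul, map_inv₀, hσθ, hσκ]
    · show σ ((k : F)⁻¹) = (κ k : F)⁻¹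
      rw [map_inv₀, hσκ]
  have hchs : ∀ (i : Fin 4) (x : Fˣ), ∃ k : Fˣ, ch θ k i = x := by
    intro i x
    fin_cases i
    · exact ⟨x, rfl⟩
    · exact exists_div H x
    · obtain ⟨k, hk⟩ := exists_div H x⁻¹
      refine ⟨k, ?_⟩
      show (k : F) * (θ k : F)⁻¹ = x
      have h1 : ((x⁻¹ : Fˣ) : F) = (x : F)⁻¹ := Units.val_inv_eq_inv_val x
      rw [h1] at hk
      have h2 : (θ k * (k : F)⁻¹)⁻¹ = ((x : F)⁻¹)⁻¹ := by rw [hk]
      rw [inv_inv, _root_.mul_inv_rev, inv_inv] at h2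
      exact h2
    · refine ⟨x⁻¹, ?_⟩
      show ((x⁻¹ : Fˣ) : F)⁻¹ = x
      rw [Units.val_inv_eq_inv_val, inv_inv]
  have hform : ∀ (i : Fin 4) (x : F), γ (Pi.single i x) i = c i * σ x := by
    intro i x
    by_cases hx : x = 0
    · rw [hx, map_zero, mul_zero, Pi.single_zero, h.nrm.zero]
      rfl
    · obtain ⟨k, hk⟩ := hchs i (Units.mk0 x hx)
      have h1 := hγ i k 1
      rw [mul_one, hk, ← hch, hk] at h1
      rw [Units.val_mk0] at h1
      rw [h1, mul_comm]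
  have hv : ∀ v, γ v = fun i => c i * σ (v i) := by
    intro v
    have h1 : v = Pi.single 0 (v 0) + Pi.single 1 (v 1) + Pi.single 2 (v 2) + Pi.single 3 (v 3) := by
      apply ext4 <;> simp
    have h2 : γ v = Pi.single 0 (c 0 * σ (v 0)) + Pi.single 1 (c 1 * σ (v 1)) + Pi.single 2 (c 2 * σ (v 2)) +
        Pi.single 3 (c 3 * σ (v 3)) := by
      conv_lhs => rw [h1]
      rw [h.nrm.add, h.nrm.add, h.nrm.add, h.single_eq 0, h.single_eq 1, h.single_eq 2, h.single_eq 3, hform, hform,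
        hform, hform]
    rw [h2]
    apply ext4 <;> simp
  -- the scalars
  obtain ⟨a', b', hab⟩ := h.T 1 0
  have hE : ∀ v, γ (mv (H.U 1 0) v) = mv (H.U a' b') (γ v) := h.eqU hab
  have e01 : c 0 = a' * c 1 := by
    have h1 := congrFun (hE (Pi.single 1 1)) 0
    rw [hv, mv_U, hv, mv_U] at h1
    simpa using h1
  have e12 : c 1 = θ a' * c 2 := by
    have h1 := congrFun (hE (Pi.single 2 1)) 1
    rw [hv, mv_U, hv, mv_U] at h1
    simpa using h1
  have e23 : c 2 = a' * c 3 := by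
    have h1 := congrFun (hE (Pi.single 3 1)) 2
    rw [hv, mv_U, hv, mv_U] at h1
    simpa using h1
  have ha' : a' ≠ 0 := by
    rintro rfl
    rw [zero_mul] at e01
    exact hc0 0 e01
  obtain ⟨k, hk⟩ := (ofGood H).exists_sq_div (Units.mk0 a' ha')
  have hk : (k : F) ^ 2 * (θ k)⁻¹ = a' := hk
  have hθk := theta_ne_zero θ k
  have hk0 := k.ne_zero
  have hk1 : (k : F) ^ 2 = a' * θ k := by
    rw [← hk]; field_simp
  have hk2 : θ k = a' * θ a' := by
    have h1 : θ (k : F) ^ 2 = θ a' * θ (θ k) := by rw [← map_pow, hk1, map_mul]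
    rw [H.sq, hk1] at h1
    have h2 : θ (k : F) * θ k = θ k * (a' * θ a') := by linear_combination h1
    exact mul_left_cancel₀ hθk h2
  refine ⟨Units.mk0 (c 3) (hc0 3) * k, k, σ, fun v => ?_⟩
  rw [hv, mv_D, Units.val_mul, Units.val_mk0]
  apply ext4
  · show c 0 * σ (v 0) = c 3 * k * (k * σ (v 0))
    rw [e01, e12, e23]
    have : c 3 * k * (k * σ (v 0)) = c 3 * (k : F) ^ 2 * σ (v 0) := by ring
    rw [this, hk1, hk2]
    ring
  · show c 1 * σ (v 1) = c 3 * k * (θ k * (k : F)⁻¹ * σ (v 1))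
    rw [e12, e23]
    have : c 3 * k * (θ k * (k : F)⁻¹ * σ (v 1)) = c 3 * θ k * σ (v 1) := by field_simp
    rw [this, hk2]
    ring
  · show c 2 * σ (v 2) = c 3 * k * (k * (θ k)⁻¹ * σ (v 2))
    rw [e23]
    have : c 3 * k * (k * (θ k)⁻¹ * σ (v 2)) = c 3 * ((k : F) ^ 2 * (θ k)⁻¹) * σ (v 2) := by ring
    rw [this, hk]
    ring
  · show c 3 * σ (v 3) = c 3 * k * ((k : F)⁻¹ * σ (v 3))
    field_simp

end Std

/-- **Lemma N**: the normaliser of `Sz(q)` on the natural module is `(Fˣ × Sz(q)) . Aut(F)`. -/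
theorem Nrm.exists_semi [Fintype F] {m : ℕ} (hm : 1 ≤ m) (hF : Fintype.card F = 2 ^ (2 * m + 1))
    {H : Good F θ e} {γ : (Fin 4 → F) → (Fin 4 → F)} (h : Nrm H γ) :
    ∃ mu : Fˣ, ∃ A ∈ Cfsg.Lie.Sz F e, ∃ σ : F ≃+* F, ∀ v, γ v = (mu : F) • mv A (fun i => σ (v i)) := by
  obtain ⟨A, α, hS⟩ := h.exists_std hm hF
  obtain ⟨mu, k, σ, hv⟩ := hS.exists_form
  refine ⟨mu, A.1⁻¹ * H.D k, mul_mem (inv_mem A.2) (H.D_mem k), σ, fun v => ?_⟩
  have h1 := hv v
  have h2 : mv A.1⁻¹ (mv A.1 (γ v)) = mv A.1⁻¹ ((mu : F) • mv (H.D k) (fun i => σ (v i))) := by rw [← h1]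
  rw [mv_inv_mv, mv_smul, ← mv_mul] at h2
  exact h2

theorem eq_one_of_sq (H : Good F θ e) {s : F} (h : s ^ 2 = 1) : s = 1 := by
  have h1 : (s - 1) ^ 2 = 0 := by linear_combination h + (1 - s) * H.two
  exact sub_eq_zero.1 (pow_eq_zero_iff two_ne_zero |>.1 h1)

/-- `Sz` contains no scalars -/
theorem scalar_eq_one (H : Good F θ e) {A : GL (Fin 4) F} (hA : A ∈ Cfsg.Lie.Sz F e) {s : F}
    (h : ∀ v, mv A v = s • v) : s = 1 ∧ A = 1 := by
  have hs : s = 1 := by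
    apply eq_one_of_sq H
    have h1 := (H.mem_Sz.1 hA).1 (Pi.single 0 1) (Pi.single 3 1)
    have h2 : ∀ v, (Units.coeHom (Matrix (Fin 4) (Fin 4) F) A) *ᵥ v = s • v := h
    rw [h2, h2] at h1
    simp [Cfsg.Lie.altForm4] at h1
    linear_combination h1
  refine ⟨hs, mv_inj fun v => ?_⟩
  rw [h, hs, one_smul, mv_one]

theorem mv_ne (A : GL (Fin 4) F) {v : Fin 4 → F} (hv : v ≠ 0) : mv A v ≠ 0 := by
  intro h
  rw [← mv_zero A] at h
  exact hv (mv_injective A h)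

/-- uniqueness of the semilinear form -/
theorem semi_unique (H : Good F θ e) {mu mu' : Fˣ} {A A' : GL (Fin 4) F} (hA : A ∈ Cfsg.Lie.Sz F e)
    (hA' : A' ∈ Cfsg.Lie.Sz F e) {σ σ' : F ≃+* F}
    (h : ∀ v : Fin 4 → F, (mu : F) • mv A (fun i => σ (v i)) = (mu' : F) • mv A' (fun i => σ' (v i))) :
    mu = mu' ∧ A = A' ∧ σ = σ' := by
  have hσ : σ = σ' := by
    ext c
    have h1 := h (c • Pi.single 0 1)
    have h2 := h (Pi.single 0 1)
    have e1 : ∀ τ : F ≃+* F, (fun i => τ ((c • (Pi.single 0 1 : Fin 4 → F)) i)) =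
        τ c • (fun i => τ ((Pi.single 0 1 : Fin 4 → F) i)) := by
      intro τ
      funext i
      simp only [Pi.smul_apply, smul_eq_mul, map_mul]
    rw [e1, e1, mv_smul, mv_smul, smul_comm, h2, smul_comm (mu' : F)] at h1
    have h3 : (mu' : F) • mv A' (fun i => σ' ((Pi.single 0 1 : Fin 4 → F) i)) ≠ 0 := by
      apply smul_ne_zero mu'.ne_zero
      apply mv_ne
      intro h4
      have h5 := congrFun h4 0
      simp at h5
    have h4 : (σ c - σ' c) • ((mu' : F) • mv A' (fun i => σ' ((Pi.single 0 1 : Fin 4 → F) i))) = 0 := by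
      rw [sub_smul, h1, sub_self]
    rcases smul_eq_zero.1 h4 with h5 | h5
    · exact sub_eq_zero.1 h5
    · exact absurd h5 h3
  subst hσ
  have h1 : ∀ v, mv (A'⁻¹ * A) v = ((mu : F)⁻¹ * mu') • v := by
    intro v
    have h2 := h (fun i => σ.symm (v i))
    simp only [RingEquiv.apply_symm_apply] at h2
    have h3 : mv A v = ((mu : F)⁻¹ * mu') • mv A' v := by
      rw [mul_smul, ← h2, smul_smul, inv_mul_cancel₀ mu.ne_zero, one_smul]
    rw [mv_mul, h3, mv_smul, mv_inv_mv]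
  obtain ⟨h2, h3⟩ := scalar_eq_one H (mul_mem (inv_mem hA') hA) h1
  refine ⟨?_, ?_, rfl⟩
  · apply Units.ext
    have := mu.ne_zero
    field_simp at h2
    exact h2.symm
  · exact (inv_mul_eq_one.1 h3).symm

/-- **2-elements of the normaliser lie in `Sz`.** -/
theorem Nrm.exists_of_two [Fintype F] {m : ℕ} (hm : 1 ≤ m) (hF : Fintype.card F = 2 ^ (2 * m + 1))
    {H : Good F θ e} {γ : (Fin 4 → F) → (Fin 4 → F)} (h : Nrm H γ) {n : ℕ} (hn : ∀ v, γ^[2 ^ n] v = v) :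
    ∃ A ∈ Cfsg.Lie.Sz F e, ∀ v, γ v = mv A v := by
  obtain ⟨mu, A, hA, σ, hγ⟩ := h.exists_semi hm hF
  have hsm : ∀ (c : F) (v : Fin 4 → F), γ (c • v) = σ c • γ v := by
    intro c v
    have e1 : (fun i => σ ((c • v) i)) = σ c • (fun i => σ (v i)) := by
      funext i
      simp
    rw [hγ, hγ, e1, mv_smul, smul_comm]
  have hit : ∀ (N : ℕ) (c : F) (v : Fin 4 → F), γ^[N] (c • v) = σ^[N] c • γ^[N] v := by
    intro N
    induction N with
    | zero => intro c v; rfl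
    | succ N ih =>
      intro c v
      rw [Function.iterate_succ_apply, hsm, ih, Function.iterate_succ_apply, Function.iterate_succ_apply]
  have hσ : ∀ x, σ x = x := by
    intro x
    apply fieldAut_eq hF σ n
    intro c
    have h1 := hit (2 ^ n) c (Pi.single 0 1)
    rw [hn, hn] at h1
    have h2 := congrFun h1 0
    simp at h2
    exact h2.symm
  have hγ' : ∀ v, γ v = (mu : F) • mv A v := by
    intro v
    rw [hγ]
    simp only [hσ]
  have hit' : ∀ (N : ℕ) (v : Fin 4 → F), γ^[N] v = (mu : F) ^ N • mv (A ^ N) v := by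
    intro N
    induction N with
    | zero => intro v; simp [mv_one]
    | succ N ih =>
      intro v
      rw [Function.iterate_succ_apply', ih, hγ', mv_smul, ← mv_mul, ← pow_succ', smul_smul, ← pow_succ']
  have h1 : ∀ v, mv (A ^ 2 ^ n) v = ((mu : F) ^ 2 ^ n)⁻¹ • v := by
    intro v
    have h2 := hit' (2 ^ n) v
    rw [hn] at h2
    conv_rhs => rw [h2]
    rw [smul_smul, inv_mul_cancel₀ (pow_ne_zero _ mu.ne_zero), one_smul]
  have h2 := (scalar_eq_one H (pow_mem hA _) h1).1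
  have h3 : (mu : F) = 1 := (ofGood H).pow_two_eq_one (inv_eq_one.1 h2)
  exact ⟨A, hA, fun v => by rw [hγ', h3, one_smul]⟩

/-- an element of `Sz` fixing the line `F e₀` -/
theorem exists_ud (H : Good F θ e) {A : GL (Fin 4) F} (hA : A ∈ Cfsg.Lie.Sz F e)
    (h : mv A (Pi.single 0 1) 3 = 0) : ∃ (a b : F) (k : Fˣ), A = H.U a b * H.D k := by
  apply H.eq_U_mul_D hA
  unfold mv at h
  rw [Matrix.mulVec_single_one] at h
  exact h

theorem mv_ud_zero (H : Good F θ e) (a b : F) (k : Fˣ) (c : F) :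
    mv (H.U a b * H.D k) (Pi.single 0 c) = Pi.single 0 (k * c) := by
  rw [mv_mul, mv_D, mv_U]
  apply ext4 <;> simp

/-- **(m3')** -/
theorem Nrm.exists_borel [Fintype F] {m : ℕ} (hm : 1 ≤ m) (hF : Fintype.card F = 2 ^ (2 * m + 1))
    {H : Good F θ e} {γ : (Fin 4 → F) → (Fin 4 → F)} (h : Nrm H γ) (h3 : γ (Pi.single 0 1) 3 = 0) :
    ∃ (mu : Fˣ) (a b : F) (k : Fˣ) (σ : F ≃+* F), ∀ v, γ v = (mu : F) • mv (H.U a b * H.D k) (fun i => σ (v i)) := by
  obtain ⟨mu, A, hA, σ, hγ⟩ := h.exists_semi hm hF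
  obtain ⟨a, b, k, rfl⟩ := exists_ud H hA (by
    rw [hγ] at h3
    have h4 : (fun i => σ ((Pi.single 0 1 : Fin 4 → F) i)) = Pi.single 0 1 := by
      apply ext4 <;> simp
    rw [h4] at h3
    have h5 : (mu : F) * mv A (Pi.single 0 1) 3 = 0 := h3
    exact (mul_eq_zero.1 h5).resolve_left mu.ne_zero)
  exact ⟨mu, a, b, k, σ, hγ⟩

/-- **(m3)** -/
theorem Nrm.exists_fix [Fintype F] {m : ℕ} (hm : 1 ≤ m) (hF : Fintype.card F = 2 ^ (2 * m + 1))
    {H : Good F θ e} {γ : (Fin 4 → F) → (Fin 4 → F)} (h : Nrm H γ) (h3 : ∀ c, γ (Pi.single 0 c) = Pi.single 0 c) :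
    ∃ (mu : Fˣ) (a b : F) (k : Fˣ), mu * k = 1 ∧ ∀ v, γ v = (mu : F) • mv (H.U a b * H.D k) v := by
  obtain ⟨mu, a, b, k, σ, hγ⟩ := h.exists_borel hm hF (by rw [h3]; simp)
  have h4 : ∀ c, mu * (k * σ c) = c := by
    intro c
    have h5 : (fun i => σ ((Pi.single 0 c : Fin 4 → F) i)) = Pi.single 0 (σ c) := by
      apply ext4 <;> simp
    have h6 := h3 c
    rw [hγ, h5, mv_ud_zero] at h6
    have h7 := congrFun h6 0
    simpa using h7
  have h5 : (mu : F) * k = 1 := by simpa using h4 1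
  have h6 : ∀ c, σ c = c := by
    intro c
    have := h4 c
    rw [← mul_assoc, h5, one_mul] at this
    exact this
  refine ⟨mu, a, b, k, Units.ext h5, fun v => ?_⟩
  rw [hγ]
  simp only [h6]

theorem zmod_two (c : ZMod 2) : c = 0 ∨ c = 1 := by revert c; decide

/-- **Galois lemma** -/
theorem exists_galois {F F' : Type*} [Field F] [Field F'] [Finite F] [Finite F'] [CharP F 2] [CharP F' 2]
    (hc : Nat.card F = Nat.card F') {ψ : F → F'} (hadd : ∀ x y, ψ (x + y) = ψ x + ψ y)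
    (hinj : Function.Injective ψ) {k : F} {k' : F'} (hk : ∀ x, ψ (k * x) = k' * ψ x) :
    ∃ τ : F ≃+* F', τ k = k' := by
  let : Algebra (ZMod 2) F := ZMod.algebra F 2
  let : Algebra (ZMod 2) F' := ZMod.algebra F' 2
  have : Fact (Nat.Prime 2) := ⟨Nat.prime_two⟩
  have h0 : ψ 0 = 0 := by
    have := hadd 0 0
    rw [add_zero] at this
    exact left_eq_add.1 this
  have hpow : ∀ (n : ℕ) (x : F), ψ (k ^ n * x) = k' ^ n * ψ x := by
    intro n
    induction n with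
    | zero => intro x; simp
    | succ n ih =>
      intro x
      rw [pow_succ', mul_assoc, hk, ih, pow_succ', mul_assoc]
  have hz : ∀ (c : ZMod 2) (x : F), ψ (algebraMap (ZMod 2) F c * x) = algebraMap (ZMod 2) F' c * ψ x := by
    intro c x
    rcases zmod_two c with rfl | rfl
    · simp [h0]
    · simp
  have hpol : ∀ (p : Polynomial (ZMod 2)) (x : F), ψ (Polynomial.aeval k p * x) = Polynomial.aeval k' p * ψ x := by
    intro p
    induction p using Polynomial.induction_on' with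
    | add p q hp hq => intro x; rw [map_add, map_add, add_mul, add_mul, hadd, hp, hq]
    | monomial n c =>
      intro x
      rw [Polynomial.aeval_monomial, Polynomial.aeval_monomial, mul_assoc, hz, hpow, mul_assoc]
  obtain ⟨τ₀⟩ : Nonempty (F ≃ₐ[ZMod 2] F') := by
    refine ⟨?_⟩
    have : Fintype F := Fintype.ofFinite F
    have : Fintype F' := Fintype.ofFinite F'
    exact FiniteField.algEquivOfCardEq 2 (by rwa [Nat.card_eq_fintype_card, Nat.card_eq_fintype_card] at hc)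
  have hint : IsIntegral (ZMod 2) k := IsIntegral.of_finite _ _
  have hmin : minpoly (ZMod 2) (τ₀.symm k') = minpoly (ZMod 2) k := by
    have h1 : Polynomial.aeval k' (minpoly (ZMod 2) k) = 0 := by
      have h2 := hpol (minpoly (ZMod 2) k) 1
      rw [minpoly.aeval, zero_mul, h0] at h2
      have h3 : ψ 1 ≠ 0 := by
        intro h4
        rw [← h0] at h4
        exact one_ne_zero (hinj h4)
      exact (mul_eq_zero.1 h2.symm).resolve_right h3
    symm
    apply minpoly.eq_of_irreducible_of_monic (minpoly.irreducible hint) _ (minpoly.monic hint)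
    refine (Polynomial.aeval_algHom_apply (τ₀.symm : F' →ₐ[ZMod 2] F) k' _).trans ?_
    rw [h1, map_zero]
  have hconj : IsConjRoot (ZMod 2) k (τ₀.symm k') := hmin.symm
  obtain ⟨σ, hσ⟩ := isConjRoot_iff_exists_algEquiv.1 hconj
  refine ⟨(σ.symm.trans τ₀).toRingEquiv, ?_⟩
  show τ₀ (σ.symm k) = k'
  rw [← hσ, AlgEquiv.symm_apply_apply, AlgEquiv.apply_symm_apply]

/-- `F⁴` is generated by the images of `F e₀` under `Sz` -/
theorem span_lines (H : Good F θ e) (X : AddSubgroup (Fin 4 → F))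
    (h : ∀ A ∈ Cfsg.Lie.Sz F e, ∀ c : F, mv A (Pi.single 0 c) ∈ X) : X = ⊤ := by
  have h0 : ∀ c : F, Pi.single 0 c ∈ X := by
    intro c
    have := h 1 (one_mem _) c
    rwa [mv_one] at this
  have h3 : ∀ c : F, Pi.single 3 c ∈ X := by
    intro c
    have := h (W F) H.W_mem c
    rw [mv_W] at this
    convert this using 1
    apply ext4 <;> simp
  have hU : ∀ a b c : F, mv (H.U a b) (Pi.single 3 c) ∈ X := by
    intro a b c
    have := h (H.U a b * W F) (mul_mem (H.U_mem a b) H.W_mem) c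
    rw [mv_mul, mv_W] at this
    convert this using 2
    apply ext4 <;> simp
  have h1 : ∀ c : F, Pi.single 1 c ∈ X := by
    intro c
    have h4 := X.sub_mem (X.sub_mem (hU 0 1 c) (h3 c)) (h0 c)
    rw [mv_U] at h4
    convert h4 using 1
    apply ext4 <;> simp only [Pi.sub_apply] <;> simp
  have h2 : ∀ c : F, Pi.single 2 c ∈ X := by
    intro c
    have h4 := X.sub_mem (X.sub_mem (X.sub_mem (hU 1 0 c) (h3 c)) (h0 c)) (h1 c)
    rw [mv_U] at h4
    convert h4 using 1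
    apply ext4 <;> simp only [Pi.sub_apply] <;> simp
  rw [AddSubgroup.eq_top_iff']
  intro v
  have h4 : v = Pi.single 0 (v 0) + Pi.single 1 (v 1) + Pi.single 2 (v 2) + Pi.single 3 (v 3) := by
    apply ext4 <;> simp
  rw [h4]
  exact X.add_mem (X.add_mem (X.add_mem (h0 _) (h1 _)) (h2 _)) (h3 _)

end Cfsg.Agent.Omega.TwoFFour

end

section


/-!
# Natural `Sz(q)`-modules as sections of a group

`SzMod F H C W Z`: `W / Z` is identified with `F⁴` such that `C / C_C(W/Z)` has the normal subgroup `Sz F e`.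

* `act g`: the action of `g ∈ C` on `F⁴`; `K`: the kernel;
* `exists_semi`, `two`, `exists_borel`, `exists_fix`: Lemma N, (m3'), (m3) for the elements of `C`;
* `Ad S`: a 2-group `S ≤ C` acts as `T = {U a b}`; `exists_ad`: for a Sylow subgroup of `G` in `C` there are adapted
  coordinates.
-/

set_option autoImplicit false
set_option linter.unusedSectionVars false

namespace Cfsg.Agent.Omega.TwoFFour

open Subgroup Cfsg.Agent.LieRecognition.SzMatrix Cfsg.Agent.ThreePrime.SzRel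
open Cfsg.Agent.Omega.NatPair (cj mem_cj)

variable {G : Type*} [Group G] {F : Type*} [Field F] {θ : F →+* F} {e : ℕ}

/-- `W / Z` is the natural module of a normal subgroup `Sz F e` of `C / C_C(W/Z)` -/
structure SzMod (H : Good F θ e) (C W Z : Subgroup G) where
  f : G → (Fin 4 → F)
  f_mul : ∀ {x y : G}, x ∈ W → y ∈ W → f (x * y) = f x + f y
  f_surj : ∀ v, ∃ x ∈ W, f x = v
  f_ker : ∀ {x : G}, x ∈ W → (f x = 0 ↔ x ∈ Z)
  Z_le : Z ≤ W
  conjW : ∀ {g x : G}, g ∈ C → x ∈ W → g * x * g⁻¹ ∈ W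
  conjZ : ∀ {g x : G}, g ∈ C → x ∈ Z → g * x * g⁻¹ ∈ Z
  lift : ∀ A ∈ Cfsg.Lie.Sz F e, ∃ g ∈ C, ∀ x ∈ W, f (g * x * g⁻¹) = mv A (f x)
  norm : ∀ g ∈ C, ∀ h ∈ C, ∀ A ∈ Cfsg.Lie.Sz F e, (∀ x ∈ W, f (h * x * h⁻¹) = mv A (f x)) →
    ∃ B ∈ Cfsg.Lie.Sz F e, ∀ x ∈ W, f (g * h * g⁻¹ * x * (g * h * g⁻¹)⁻¹) = mv B (f x)

namespace SzMod

variable {H : Good F θ e} {C W Z : Subgroup G} (M : SzMod H C W Z)

theorem f_one : M.f 1 = 0 := (M.f_ker W.one_mem).2 Z.one_mem

theorem f_inv {x : G} (hx : x ∈ W) : M.f x⁻¹ = -M.f x := by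
  have h := M.f_mul (inv_mem hx) hx
  rw [inv_mul_cancel, M.f_one] at h
  exact eq_neg_of_add_eq_zero_left h.symm

theorem f_eq_iff {x y : G} (hx : x ∈ W) (hy : y ∈ W) : M.f x = M.f y ↔ x⁻¹ * y ∈ Z := by
  rw [← M.f_ker (mul_mem (inv_mem hx) hy), M.f_mul (inv_mem hx) hy, M.f_inv hx]
  constructor
  · intro h
    rw [h, neg_add_cancel]
  · intro h
    exact (neg_add_eq_zero.1 h)

/-- a preimage -/
noncomputable def r (v : Fin 4 → F) : G := (M.f_surj v).choose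

theorem r_mem (v : Fin 4 → F) : M.r v ∈ W := (M.f_surj v).choose_spec.1

theorem f_r (v : Fin 4 → F) : M.f (M.r v) = v := (M.f_surj v).choose_spec.2

/-- the action on `F⁴` -/
noncomputable def act (g : G) (v : Fin 4 → F) : Fin 4 → F := M.f (g * M.r v * g⁻¹)

theorem act_f {g x : G} (hg : g ∈ C) (hx : x ∈ W) : M.act g (M.f x) = M.f (g * x * g⁻¹) := by
  unfold act
  rw [M.f_eq_iff (M.conjW hg (M.r_mem _)) (M.conjW hg hx)]
  have h1 : (M.r (M.f x))⁻¹ * x ∈ Z := (M.f_eq_iff (M.r_mem _) hx).1 (M.f_r _)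
  have h2 := M.conjZ hg h1
  have e : (g * M.r (M.f x) * g⁻¹)⁻¹ * (g * x * g⁻¹) = g * ((M.r (M.f x))⁻¹ * x) * g⁻¹ := by group
  rw [e]
  exact h2

theorem act_mul {g h : G} (hg : g ∈ C) (hh : h ∈ C) (v : Fin 4 → F) : M.act (g * h) v = M.act g (M.act h v) := by
  obtain ⟨x, hx, rfl⟩ := M.f_surj v
  rw [M.act_f (mul_mem hg hh) hx, M.act_f hh hx, M.act_f hg (M.conjW hh hx)]
  congr 1
  group

theorem act_one (v : Fin 4 → F) : M.act 1 v = v := by
  obtain ⟨x, hx, rfl⟩ := M.f_surj v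
  rw [M.act_f (one_mem _) hx]
  simp

theorem act_inv_act {g : G} (hg : g ∈ C) (v : Fin 4 → F) : M.act g⁻¹ (M.act g v) = v := by
  rw [← M.act_mul (inv_mem hg) hg, inv_mul_cancel, M.act_one]

theorem act_act_inv {g : G} (hg : g ∈ C) (v : Fin 4 → F) : M.act g (M.act g⁻¹ v) = v := by
  rw [← M.act_mul hg (inv_mem hg), mul_inv_cancel, M.act_one]

theorem act_inj {g : G} (hg : g ∈ C) : Function.Injective (M.act g) := by
  intro v w h
  rw [← M.act_inv_act hg v, h, M.act_inv_act hg]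

theorem act_add {g : G} (hg : g ∈ C) (v w : Fin 4 → F) : M.act g (v + w) = M.act g v + M.act g w := by
  obtain ⟨x, hx, rfl⟩ := M.f_surj v
  obtain ⟨y, hy, rfl⟩ := M.f_surj w
  rw [← M.f_mul hx hy, M.act_f hg (mul_mem hx hy), M.act_f hg hx, M.act_f hg hy,
    ← M.f_mul (M.conjW hg hx) (M.conjW hg hy)]
  congr 1
  group

theorem act_zero {g : G} (hg : g ∈ C) : M.act g 0 = 0 := by
  have h := M.act_add hg 0 0
  rw [add_zero] at h
  exact left_eq_add.1 h

theorem act_neg {g : G} (hg : g ∈ C) (v : Fin 4 → F) : M.act g (-v) = -M.act g v := by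
  have h := M.act_add hg (-v) v
  rw [neg_add_cancel, M.act_zero hg] at h
  exact eq_neg_of_add_eq_zero_left h.symm

theorem act_sub {g : G} (hg : g ∈ C) (v w : Fin 4 → F) : M.act g (v - w) = M.act g v - M.act g w := by
  rw [sub_eq_add_neg, M.act_add hg, M.act_neg hg, ← sub_eq_add_neg]

theorem act_iterate {g : G} (hg : g ∈ C) (n : ℕ) (v : Fin 4 → F) : (M.act g)^[n] v = M.act (g ^ n) v := by
  induction n generalizing v with
  | zero => rw [pow_zero, M.act_one]; rfl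
  | succ n ih =>
    rw [Function.iterate_succ_apply, ih, pow_succ, M.act_mul (pow_mem hg n) hg]

/-- `g` acts as `A` -/
def Ind (g : G) (A : GL (Fin 4) F) : Prop := ∀ v, M.act g v = mv A v

theorem ind_iff {g : G} (hg : g ∈ C) {A : GL (Fin 4) F} : M.Ind g A ↔ ∀ x ∈ W, M.f (g * x * g⁻¹) = mv A (M.f x) := by
  constructor
  · intro h x hx
    rw [← M.act_f hg hx, h]
  · intro h v
    obtain ⟨x, hx, rfl⟩ := M.f_surj v
    rw [M.act_f hg hx, h x hx]

theorem exists_ind {A : GL (Fin 4) F} (hA : A ∈ Cfsg.Lie.Sz F e) : ∃ g ∈ C, M.Ind g A := by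
  obtain ⟨g, hg, h⟩ := M.lift A hA
  exact ⟨g, hg, (M.ind_iff hg).2 h⟩

theorem Ind.mul {M : SzMod H C W Z} {g h : G} {A B : GL (Fin 4) F} (hg : g ∈ C) (hh : h ∈ C) (hA : M.Ind g A)
    (hB : M.Ind h B) : M.Ind (g * h) (A * B) := by
  intro v
  rw [M.act_mul hg hh, hB, hA, mv_mul]

theorem Ind.inv {M : SzMod H C W Z} {g : G} {A : GL (Fin 4) F} (hg : g ∈ C) (hA : M.Ind g A) : M.Ind g⁻¹ A⁻¹ := by
  intro v
  apply M.act_inj hg
  rw [M.act_act_inv hg, hA, mv_mv_inv]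

theorem Ind.unique {M : SzMod H C W Z} {g : G} {A B : GL (Fin 4) F} (hA : M.Ind g A) (hB : M.Ind g B) : A = B :=
  mv_inj fun v => by rw [← hA, hB]

theorem ind_one : M.Ind 1 1 := fun v => by rw [M.act_one, mv_one]

/-- the elements of `C` normalise `Sz` -/
theorem nrm {g : G} (hg : g ∈ C) : Nrm H (M.act g) where
  add := M.act_add hg
  inj := M.act_inj hg
  nrm A hA := by
    obtain ⟨h, hh, hA'⟩ := M.exists_ind hA
    obtain ⟨B, hB, hB'⟩ := M.norm g hg h hh A hA ((M.ind_iff hh).1 hA')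
    refine ⟨B, hB, fun v => ?_⟩
    have h1 : M.Ind (g * h * g⁻¹) B := (M.ind_iff (mul_mem (mul_mem hg hh) (inv_mem hg))).2 hB'
    rw [← hA', ← h1, ← M.act_mul hg hh, ← M.act_mul (mul_mem (mul_mem hg hh) (inv_mem hg)) hg]
    congr 1
    group

/-- the kernel of the action -/
def K : Subgroup G where
  carrier := {g | g ∈ C ∧ ∀ v, M.act g v = v}
  mul_mem' := by
    rintro g h ⟨hg, hg'⟩ ⟨hh, hh'⟩
    exact ⟨mul_mem hg hh, fun v => by rw [M.act_mul hg hh, hh', hg']⟩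
  one_mem' := ⟨one_mem _, M.act_one⟩
  inv_mem' := by
    rintro g ⟨hg, hg'⟩
    refine ⟨inv_mem hg, fun v => ?_⟩
    conv_lhs => rw [← hg' v]
    rw [M.act_inv_act hg]

theorem mem_K {g : G} : g ∈ M.K ↔ g ∈ C ∧ ∀ v, M.act g v = v := Iff.rfl

theorem K_le : M.K ≤ C := fun _ h => h.1

theorem mem_K_iff {g : G} (hg : g ∈ C) : g ∈ M.K ↔ ∀ x ∈ W, g * x * g⁻¹ * x⁻¹ ∈ Z := by
  rw [mem_K]
  constructor
  · rintro ⟨-, h⟩ x hx
    have h1 := h (M.f x)
    rw [M.act_f hg hx, M.f_eq_iff (M.conjW hg hx) hx] at h1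
    -- `(gxg⁻¹)⁻¹ x ∈ Z`
    have h2 := M.conjZ hg h1
    have h3 : g * x * g⁻¹ ∈ W := M.conjW hg hx
    have h4 : M.f (g * x * g⁻¹ * x⁻¹) = 0 := by
      rw [M.f_mul h3 (inv_mem hx), M.f_inv hx, ← M.act_f hg hx, h, add_neg_cancel]
    exact (M.f_ker (mul_mem h3 (inv_mem hx))).1 h4
  · intro h
    refine ⟨hg, fun v => ?_⟩
    obtain ⟨x, hx, rfl⟩ := M.f_surj v
    rw [M.act_f hg hx]
    have h3 : g * x * g⁻¹ ∈ W := M.conjW hg hx
    have h4 := (M.f_ker (mul_mem h3 (inv_mem hx))).2 (h x hx)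
    rw [M.f_mul h3 (inv_mem hx), M.f_inv hx] at h4
    exact add_neg_eq_zero.1 h4

theorem ind_one_iff {g : G} (hg : g ∈ C) : M.Ind g 1 ↔ g ∈ M.K := by
  rw [mem_K]
  constructor
  · intro h
    exact ⟨hg, fun v => by rw [h, mv_one]⟩
  · rintro ⟨-, h⟩ v
    rw [h, mv_one]

theorem conj_mem_K {g k : G} (hg : g ∈ C) (hk : k ∈ M.K) : g * k * g⁻¹ ∈ M.K := by
  refine ⟨mul_mem (mul_mem hg hk.1) (inv_mem hg), fun v => ?_⟩
  rw [M.act_mul (mul_mem hg hk.1) (inv_mem hg), M.act_mul hg hk.1, hk.2, M.act_act_inv hg]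

section finite

variable [Fintype F] {m : ℕ} (hm : 1 ≤ m) (hF : Fintype.card F = 2 ^ (2 * m + 1))
include hm hF

/-- **Lemma N** -/
theorem exists_semi {g : G} (hg : g ∈ C) : ∃ mu : Fˣ, ∃ A ∈ Cfsg.Lie.Sz F e, ∃ σ : F ≃+* F,
    ∀ v, M.act g v = (mu : F) • mv A (fun i => σ (v i)) := (M.nrm hg).exists_semi hm hF

/-- 2-elements modulo `K` act as elements of `Sz` -/
theorem two {g : G} (hg : g ∈ C) {n : ℕ} (hn : g ^ 2 ^ n ∈ M.K) : ∃ A ∈ Cfsg.Lie.Sz F e, M.Ind g A := by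
  refine (M.nrm hg).exists_of_two hm hF (n := n) fun v => ?_
  rw [M.act_iterate hg, hn.2]

/-- **(m3')** -/
theorem exists_borel {g : G} (hg : g ∈ C) (h3 : M.act g (Pi.single 0 1) 3 = 0) :
    ∃ (mu : Fˣ) (a b : F) (k : Fˣ) (σ : F ≃+* F),
      ∀ v, M.act g v = (mu : F) • mv (H.U a b * H.D k) (fun i => σ (v i)) := (M.nrm hg).exists_borel hm hF h3

/-- **(m3)** -/
theorem exists_fix {g : G} (hg : g ∈ C) (h3 : ∀ c, M.act g (Pi.single 0 c) = Pi.single 0 c) :
    ∃ (mu : Fˣ) (a b : F) (k : Fˣ), mu * k = 1 ∧ ∀ v, M.act g v = (mu : F) • mv (H.U a b * H.D k) v :=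
  (M.nrm hg).exists_fix hm hF h3

end finite

/-- the elements of `C` acting as elements of `Sz` -/
def C0 : Subgroup G where
  carrier := {g | g ∈ C ∧ ∃ A ∈ Cfsg.Lie.Sz F e, M.Ind g A}
  mul_mem' := by
    rintro g h ⟨hg, A, hA, hA'⟩ ⟨hh, B, hB, hB'⟩
    exact ⟨mul_mem hg hh, A * B, mul_mem hA hB, hA'.mul hg hh hB'⟩
  one_mem' := ⟨one_mem _, 1, one_mem _, M.ind_one⟩
  inv_mem' := by
    rintro g ⟨hg, A, hA, hA'⟩
    exact ⟨inv_mem hg, A⁻¹, inv_mem hA, hA'.inv hg⟩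

theorem mem_C0 {g : G} : g ∈ M.C0 ↔ g ∈ C ∧ ∃ A ∈ Cfsg.Lie.Sz F e, M.Ind g A := Iff.rfl

/-- the projection to `Sz` -/
noncomputable def toSz : M.C0 →* ↥(Cfsg.Lie.Sz F e) where
  toFun g := ⟨g.2.2.choose, g.2.2.choose_spec.1⟩
  map_one' := Subtype.ext ((1 : M.C0).2.2.choose_spec.2.unique M.ind_one)
  map_mul' g h := Subtype.ext ((g * h).2.2.choose_spec.2.unique
    (g.2.2.choose_spec.2.mul g.2.1 h.2.1 h.2.2.choose_spec.2))

theorem toSz_ind (g : M.C0) : M.Ind g (M.toSz g).1 := g.2.2.choose_spec.2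

theorem toSz_eq {g : M.C0} {A : ↥(Cfsg.Lie.Sz F e)} (h : M.Ind g A.1) : M.toSz g = A :=
  Subtype.ext ((M.toSz_ind g).unique h)

theorem toSz_surj : Function.Surjective M.toSz := by
  intro A
  obtain ⟨g, hg, hA⟩ := M.exists_ind A.2
  exact ⟨⟨g, hg, A.1, A.2, hA⟩, M.toSz_eq hA⟩

/-- change of coordinates -/
def change (A : ↥(Cfsg.Lie.Sz F e)) : SzMod H C W Z where
  f x := mv A.1 (M.f x)
  f_mul hx hy := by rw [M.f_mul hx hy, mv_add]
  f_surj v := by
    obtain ⟨x, hx, h⟩ := M.f_surj (mv A.1⁻¹ v)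
    exact ⟨x, hx, by rw [h, mv_mv_inv]⟩
  f_ker := by
    intro x hx
    rw [← M.f_ker hx]
    constructor
    · intro h
      have h1 : mv A.1 (M.f x) = mv A.1 0 := by rw [h, mv_zero]
      exact mv_injective _ h1
    · intro h
      rw [h, mv_zero]
  Z_le := M.Z_le
  conjW := M.conjW
  conjZ := M.conjZ
  lift B hB := by
    obtain ⟨g, hg, h⟩ := M.lift (A.1⁻¹ * B * A.1) (mul_mem (mul_mem (inv_mem A.2) hB) A.2)
    refine ⟨g, hg, fun x hx => ?_⟩
    rw [h x hx, mv_mul, mv_mul, mv_mv_inv]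
  norm g hg h hh B hB hhB := by
    obtain ⟨B', hB', h2⟩ := M.norm g hg h hh (A.1⁻¹ * B * A.1) (mul_mem (mul_mem (inv_mem A.2) hB) A.2)
      (fun x hx => by
        have h1 := hhB x hx
        rw [mv_mul, mv_mul, ← h1, mv_inv_mv])
    refine ⟨A.1 * B' * A.1⁻¹, mul_mem (mul_mem A.2 hB') (inv_mem A.2), fun x hx => ?_⟩
    rw [h2 x hx, mv_mul, mv_mul, mv_inv_mv]

theorem change_f (A : ↥(Cfsg.Lie.Sz F e)) (x : G) : (M.change A).f x = mv A.1 (M.f x) := rfl

theorem change_act (A : ↥(Cfsg.Lie.Sz F e)) {g : G} (hg : g ∈ C) (v : Fin 4 → F) :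
    (M.change A).act g v = mv A.1 (M.act g (mv A.1⁻¹ v)) := by
  obtain ⟨x, hx, rfl⟩ := (M.change A).f_surj v
  rw [(M.change A).act_f hg hx, change_f, change_f, mv_inv_mv, M.act_f hg hx]

theorem change_ind (A : ↥(Cfsg.Lie.Sz F e)) {g : G} (hg : g ∈ C) {B : GL (Fin 4) F} (hB : M.Ind g B) :
    (M.change A).Ind g (A.1 * B * A.1⁻¹) := by
  intro v
  rw [M.change_act A hg, hB, mv_mul, mv_mul]

theorem change_K (A : ↥(Cfsg.Lie.Sz F e)) : (M.change A).K = M.K := by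
  ext g
  rw [mem_K, mem_K]
  constructor
  · rintro ⟨hg, h⟩
    refine ⟨hg, fun v => ?_⟩
    have h1 := h (mv A.1 v)
    rw [M.change_act A hg, mv_inv_mv] at h1
    exact mv_injective _ h1
  · rintro ⟨hg, h⟩
    refine ⟨hg, fun v => ?_⟩
    rw [M.change_act A hg, h, mv_mv_inv]

/-- the subgroup `S` acts as `T` -/
structure Ad (S : Subgroup G) : Prop where
  le : S ≤ C
  exists_U : ∀ s ∈ S, ∃ a b, M.Ind s (H.U a b)
  surj : ∀ a b, ∃ s ∈ S, M.Ind s (H.U a b)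

open scoped Pointwise in
/-- **Adapted coordinates** -/
theorem exists_ad [Finite G] [Fintype F] {m : ℕ} (hm : 1 ≤ m) (hF : Fintype.card F = 2 ^ (2 * m + 1))
    (S : Sylow 2 G) (hS : (S : Subgroup G) ≤ C) : ∃ M' : SzMod H C W Z, M'.Ad S ∧ M'.K = M.K := by
  classical
  have : Fact (Nat.Prime 2) := ⟨Nat.prime_two⟩
  have hS0 : (S : Subgroup G) ≤ M.C0 := by
    intro s hs
    refine ⟨hS hs, ?_⟩
    obtain ⟨n, hn⟩ := S.2 ⟨s, hs⟩
    have hn' : s ^ 2 ^ n = 1 := congrArg Subtype.val hn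
    exact M.two hm hF (hS hs) (n := n) (by rw [hn']; exact one_mem _)
  let S0 : Sylow 2 M.C0 := S.subtype hS0
  have hS0' : ∀ x : M.C0, x ∈ (S0 : Subgroup M.C0) ↔ (x : G) ∈ S := fun x => mem_subgroupOf
  let P1 : Sylow 2 ↥(Cfsg.Lie.Sz F e) := S0.mapSurjective M.toSz_surj
  have hP1 : (P1 : Subgroup ↥(Cfsg.Lie.Sz F e)) = (S0 : Subgroup M.C0).map M.toSz := rfl
  let R := ofGood H
  obtain ⟨P, hP⟩ := R.exists_sylow_eq hm hF
  obtain ⟨A, hA⟩ := MulAction.exists_smul_eq ↥(Cfsg.Lie.Sz F e) P1 P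
  have hconj : ∀ y, y ∈ (P1 : Subgroup ↥(Cfsg.Lie.Sz F e)) ↔ A * y * A⁻¹ ∈ R.T := by
    intro y
    rw [← hP, ← hA, Sylow.smul_def, Sylow.pointwise_smul_def, Subgroup.mem_pointwise_smul_iff_inv_smul_mem]
    have e1 : (MulAut.conj A)⁻¹ • (A * y * A⁻¹) = y := by
      rw [← map_inv, MulAut.smul_def, MulAut.conj_apply]
      group
    rw [e1]
  refine ⟨M.change A, ⟨hS, ?_, ?_⟩, M.change_K A⟩
  · intro s hs
    have h1 : M.toSz ⟨s, hS0 hs⟩ ∈ (P1 : Subgroup ↥(Cfsg.Lie.Sz F e)) := by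
      rw [hP1]
      exact mem_map_of_mem _ ((hS0' _).2 hs)
    obtain ⟨a, b, h2⟩ := (hconj _).1 h1
    refine ⟨a, b, ?_⟩
    have h3 := M.change_ind A (hS hs) (M.toSz_ind ⟨s, hS0 hs⟩)
    have h4 : A.1 * (M.toSz ⟨s, hS0 hs⟩).1 * A.1⁻¹ = H.U a b := congrArg Subtype.val h2
    rw [h4] at h3
    exact h3
  · intro a b
    have h1 : A⁻¹ * H.u a b * A ∈ (P1 : Subgroup ↥(Cfsg.Lie.Sz F e)) := by
      rw [hconj]
      have e1 : A * (A⁻¹ * H.u a b * A) * A⁻¹ = H.u a b := by group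
      rw [e1]
      exact R.u_mem a b
    rw [hP1] at h1
    obtain ⟨s, hs, h2⟩ := h1
    refine ⟨s, (hS0' _).1 hs, ?_⟩
    have h3 := M.change_ind A s.2.1 (M.toSz_ind s)
    rw [h2] at h3
    have e1 : A.1 * (A⁻¹ * H.u a b * A).1 * A.1⁻¹ = H.U a b := by
      show A.1 * (A.1⁻¹ * H.U a b * A.1) * A.1⁻¹ = _
      group
    rw [e1] at h3
    exact h3

end SzMod

end Cfsg.Agent.Omega.TwoFFour

end

section


/-!
# THEOREM 2F4 (helper279, #12906), the situation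

`Sit F H S V Z W` : the hypotheses (V), (W), (n = 1) of the theorem, in adapted coordinates:
`N : NatMod F V`, `Z` the line of `e₀` in `V`; `P : SzMod F H (N(Z)) W Z`, `V / Z` the line of `e₀` in `W / Z`.

* `Sw n` : `n` interchanges the two coordinates of `V`; `Up s a` : `s` acts on `V` as the transvection `up a`;
* `exists_up`, `exists_of_up` : `S` acts on `V` as the group of all `up a`;
* `decomp` : every `g ∈ N(V)` lies in `B` or in `S n B`, `B = N(V) ⊓ N(Z)`.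
-/

set_option autoImplicit false
set_option linter.unusedSectionVars false

namespace Cfsg.Agent.Omega.TwoFFour

open Subgroup Matrix
open Cfsg.Agent.ZN Cfsg.Agent.MinSimple.VModule Cfsg.Agent.Lib.SL2Mat
open Cfsg.Agent.LieRecognition.SzMatrix (Good)
open Cfsg.Agent.Omega.NatPair (NatMod ap ext2)

variable {G : Type*} [Group G]

/-- The hypotheses (V), (W), (n = 1) of THEOREM 2F4. -/
structure Sit (F : Type*) [Field F] {θ : F →+* F} {e : ℕ} (H : Good F θ e) (S : Sylow 2 G) (V Z W : Subgroup G) where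
  N : NatMod F V
  P : SzMod H (normalizer (Z : Set G)) W Z
  mf : ℕ
  cardF : Nat.card F = 2 ^ (2 * mf + 1)
  one_le : 1 ≤ mf
  memZ : ∀ g, g ∈ Z ↔ ∃ c, N.e ![c, 0] = g
  SV : (S : Subgroup G) ≤ normalizer (V : Set G)
  SZ : (S : Subgroup G) ≤ centralizer (Z : Set G)
  memV : ∀ g, g ∈ V ↔ g ∈ W ∧ ∃ c, P.f g = ![c, 0, 0, 0]
  ab : ∀ x ∈ W, ∀ y ∈ W, x * y = y * x
  sq : ∀ x ∈ W, x * x = 1
  Ad : P.Ad (S : Subgroup G)
  char2 : normalizer (Z : Set G) ⊓ centralizer (o2 (normalizer (Z : Set G)) : Set G) ≤ o2 (normalizer (Z : Set G))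
  nonloc : ∀ R ≤ normalizer (Z : Set G), IsPGroup 2 R → normalizer (V : Set G) ≤ normalizer (R : Set G) →
    normalizer (Z : Set G) ≤ normalizer (R : Set G) → R = ⊥
  ne : ∃ m ∈ normalizer (V : Set G), ∃ x ∈ W, ∃ y ∈ W, x * (m * y * m⁻¹) ≠ m * y * m⁻¹ * x

namespace Sit

variable {F : Type*} [Field F] {θ : F →+* F} {e : ℕ} {H : Good F θ e} {S : Sylow 2 G} {V Z W : Subgroup G}
variable (h : Sit F H S V Z W)

/-- `n` interchanges the coordinates of `V` -/
def Sw (n : G) : Prop := ∀ x y, n * h.N.e ![x, y] * n⁻¹ = h.N.e ![y, x]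

/-- `s` acts on `V` as the transvection `up a` -/
def Up (s : G) (a : F) : Prop := ∀ x y, s * h.N.e ![x, y] * s⁻¹ = h.N.e ![x + a * y, y]

include h

theorem char_two : CharP F 2 := by
  have h1 := H.two
  exact CharTwo.of_one_ne_zero_of_two_eq_zero one_ne_zero h1

theorem finF : Finite F := by
  refine Nat.finite_of_card_ne_zero ?_
  rw [h.cardF]
  positivity

theorem conj_mem_iff {X : Subgroup G} {g x : G} (hg : g ∈ normalizer (X : Set G)) : g * x * g⁻¹ ∈ X ↔ x ∈ X :=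
  (mem_normalizer_iff.1 hg x).symm

theorem conjZ {g z : G} (hg : g ∈ normalizer (Z : Set G)) (hz : z ∈ Z) : g * z * g⁻¹ ∈ Z :=
  (mem_normalizer_iff.1 hg z).1 hz

theorem conjV {g z : G} (hg : g ∈ normalizer (V : Set G)) (hz : z ∈ V) : g * z * g⁻¹ ∈ V :=
  (mem_normalizer_iff.1 hg z).1 hz

theorem e_surj {g : G} (hg : g ∈ V) : ∃ x y, h.N.e ![x, y] = g := by
  obtain ⟨v, hv⟩ := (h.N.mem_iff g).1 hg
  refine ⟨v 0, v 1, ?_⟩
  rw [← hv]
  congr 1
  exact ext2 rfl rfl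

theorem e_mem (x y : F) : h.N.e ![x, y] ∈ V := h.N.e_mem _

theorem e_mul (x y x' y' : F) : h.N.e ![x, y] * h.N.e ![x', y'] = h.N.e ![x + x', y + y'] := by
  rw [← h.N.e_add]
  congr 1
  exact ext2 rfl rfl

theorem e_inj {x y x' y' : F} (hh : h.N.e ![x, y] = h.N.e ![x', y']) : x = x' ∧ y = y' := by
  have h1 := h.N.e_inj hh
  exact ⟨congrFun h1 0, congrFun h1 1⟩

theorem e_zero : h.N.e ![0, 0] = 1 := by
  rw [← h.N.e_zero]
  congr 1
  exact ext2 rfl rfl

theorem e_memZ (x y : F) : h.N.e ![x, y] ∈ Z ↔ y = 0 := by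
  rw [h.memZ]
  constructor
  · rintro ⟨c, hc⟩
    exact (h.e_inj hc).2.symm
  · rintro rfl
    exact ⟨x, rfl⟩

theorem Z_le_V : Z ≤ V := by
  intro g hg
  obtain ⟨c, rfl⟩ := (h.memZ g).1 hg
  exact h.e_mem _ _

theorem V_le_W : V ≤ W := fun g hg => ((h.memV g).1 hg).1

theorem Z_le_W : Z ≤ W := h.Z_le_V.trans h.V_le_W

theorem W_le_cen : W ≤ centralizer (V : Set G) := by
  intro x hx
  rw [mem_centralizer_iff]
  intro y hy
  exact h.ab y (h.V_le_W hy) x hx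

theorem cen_le_M : centralizer (V : Set G) ≤ normalizer (V : Set G) := centralizer_le_normalizer _

theorem cen_le_cenZ : centralizer (V : Set G) ≤ centralizer (Z : Set G) := centralizer_le h.Z_le_V

theorem cen_le_C : centralizer (V : Set G) ≤ normalizer (Z : Set G) :=
  h.cen_le_cenZ.trans (centralizer_le_normalizer _)

theorem S_le_C : (S : Subgroup G) ≤ normalizer (Z : Set G) := h.SZ.trans (centralizer_le_normalizer _)

theorem W_le_C : W ≤ normalizer (Z : Set G) := h.W_le_cen.trans h.cen_le_C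

theorem W_le_M : W ≤ normalizer (V : Set G) := h.W_le_cen.trans h.cen_le_M

theorem cen_comm {c v : G} (hc : c ∈ centralizer (V : Set G)) (hv : v ∈ V) : c * v = v * c :=
  (mem_centralizer_iff.1 hc v hv).symm

theorem M_normC : normalizer (V : Set G) ≤ normalizer ((centralizer (V : Set G) : Subgroup G) : Set G) := by
  have key : ∀ g ∈ normalizer (V : Set G), ∀ x ∈ centralizer (V : Set G), g * x * g⁻¹ ∈ centralizer (V : Set G) := by
    intro g hg x hx
    rw [mem_centralizer_iff] at hx ⊢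
    intro v hv
    have h1 := hx _ (h.conjV (inv_mem hg) hv)
    rw [inv_inv] at h1
    calc v * (g * x * g⁻¹) = g * ((g⁻¹ * v * g) * x) * g⁻¹ := by group
      _ = g * (x * (g⁻¹ * v * g)) * g⁻¹ := by rw [h1]
      _ = g * x * g⁻¹ * v := by group
  intro g hg
  rw [mem_normalizer_iff]
  refine fun x => ⟨key g hg x, fun hx => ?_⟩
  have := key g⁻¹ (inv_mem hg) _ hx
  have e : g⁻¹ * (g * x * g⁻¹) * g⁻¹⁻¹ = x := by group
  rwa [e] at this

theorem conjC {g c : G} (hg : g ∈ normalizer (V : Set G)) (hc : c ∈ centralizer (V : Set G)) :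
    g * c * g⁻¹ ∈ centralizer (V : Set G) := (mem_normalizer_iff.1 (h.M_normC hg) c).1 hc

theorem mem_cen_of_e {c : G} (hc : ∀ x y, c * h.N.e ![x, y] * c⁻¹ = h.N.e ![x, y]) : c ∈ centralizer (V : Set G) := by
  rw [mem_centralizer_iff]
  intro v hv
  obtain ⟨x, y, rfl⟩ := h.e_surj hv
  exact (mul_inv_eq_iff_eq_mul.1 (hc x y)).symm

theorem e_of_mem_cen {c : G} (hc : c ∈ centralizer (V : Set G)) (x y : F) :
    c * h.N.e ![x, y] * c⁻¹ = h.N.e ![x, y] := by
  rw [h.cen_comm hc (h.e_mem x y), mul_inv_cancel_right]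

/-! ### The element `n` -/

theorem exists_sw : ∃ n, h.Sw n := by
  obtain ⟨n, hn⟩ := h.N.lift (wm 1 one_ne_zero)
  refine ⟨n, fun x y => ?_⟩
  rw [hn]
  congr 1
  have := H.neg_eq x
  apply ext2
  · simp [ap]
  · simp [ap, this]

theorem mem_M_of {n : G} {φ : F → F → Fin 2 → F} (hn : ∀ x y, n * h.N.e ![x, y] * n⁻¹ = h.N.e (φ x y)) [Finite G] :
    n ∈ normalizer (V : Set G) := by
  refine mem_normalizer_of_map_le ?_
  rintro _ ⟨v, hv, rfl⟩
  obtain ⟨x, y, rfl⟩ := h.e_surj hv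
  have : (MulAut.conj n).toMonoidHom (h.N.e ![x, y]) = n * h.N.e ![x, y] * n⁻¹ := rfl
  rw [this, hn]
  exact h.N.e_mem _

theorem mem_C_of [Finite G] {n : G} (hn : ∀ c, n * h.N.e ![c, 0] * n⁻¹ ∈ Z) : n ∈ normalizer (Z : Set G) := by
  refine mem_normalizer_of_map_le ?_
  rintro _ ⟨v, hv, rfl⟩
  obtain ⟨c, rfl⟩ := (h.memZ v).1 hv
  exact hn c

variable {n : G} (hn : h.Sw n)
include hn

theorem sw_inv : h.Sw n⁻¹ := by
  intro x y
  rw [← hn y x]; group

theorem sw_mem [Finite G] : n ∈ normalizer (V : Set G) := h.mem_M_of hn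

theorem sw_sq : n * n ∈ centralizer (V : Set G) := by
  apply h.mem_cen_of_e
  intro x y
  have : n * n * h.N.e ![x, y] * (n * n)⁻¹ = n * (n * h.N.e ![x, y] * n⁻¹) * n⁻¹ := by group
  rw [this, hn, hn]

theorem sw_notin : n ∉ normalizer (Z : Set G) := by
  intro hc
  have h1 := h.conjZ hc ((h.e_memZ 1 0).2 rfl)
  rw [hn, h.e_memZ] at h1
  exact one_ne_zero h1

omit hn

/-! ### `S` on `V` -/

theorem up_mul {s t : G} {a b : F} (hs : h.Up s a) (ht : h.Up t b) : h.Up (s * t) (a + b) := by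
  intro x y
  have : s * t * h.N.e ![x, y] * (s * t)⁻¹ = s * (t * h.N.e ![x, y] * t⁻¹) * s⁻¹ := by group
  rw [this, ht, hs]
  congr 2
  ring

theorem up_inv {s : G} {a : F} (hs : h.Up s a) : h.Up s⁻¹ a := by
  intro x y
  have h1 := hs (x + a * y) y
  have h2 : x + a * y + a * y = x := by
    have := H.add_self (a * y)
    linear_combination this
  rw [h2] at h1
  rw [← h1]; group

theorem up_one : h.Up 1 0 := by
  intro x y
  simp

theorem up_cen {c : G} (hc : c ∈ centralizer (V : Set G)) : h.Up c 0 := by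
  intro x y
  rw [h.e_of_mem_cen hc, zero_mul, add_zero]

theorem cen_of_up {c : G} (hc : h.Up c 0) : c ∈ centralizer (V : Set G) := by
  apply h.mem_cen_of_e
  intro x y
  rw [hc, zero_mul, add_zero]

theorem up_inj {s : G} {a b : F} (ha : h.Up s a) (hb : h.Up s b) : a = b := by
  have h1 := ha 0 1
  rw [hb 0 1] at h1
  have h2 := (h.e_inj h1).1
  rw [zero_add, zero_add, mul_one, mul_one] at h2
  exact h2.symm

theorem up_mem_M [Finite G] {s : G} {a : F} (hs : h.Up s a) : s ∈ normalizer (V : Set G) := h.mem_M_of hs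

theorem up_cenZ {s : G} {a : F} (hs : h.Up s a) : s ∈ centralizer (Z : Set G) := by
  rw [mem_centralizer_iff]
  intro z hz
  obtain ⟨c, rfl⟩ := (h.memZ z).1 hz
  have := hs c 0
  rw [mul_zero, add_zero] at this
  exact (mul_inv_eq_iff_eq_mul.1 this).symm

theorem up_mem_C {s : G} {a : F} (hs : h.Up s a) : s ∈ normalizer (Z : Set G) :=
  centralizer_le_normalizer _ (h.up_cenZ hs)

theorem odd_aut : Odd (Nat.card (F ≃+* F)) := by
  have := h.finF
  have : Fintype F := Fintype.ofFinite F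
  have h1 := Lib.FieldAutCard.card_ringAut (F := F) (p := 2) (f := 2 * h.mf + 1) (by omega)
    (by rw [← Nat.card_eq_fintype_card, h.cardF])
  rw [h1]
  exact ⟨h.mf, rfl⟩

/-- `S` acts on `V` by transvections with centre `Z` -/
theorem exists_up [Finite G] {s : G} (hs : s ∈ S) : ∃ a, h.Up s a := by
  have := h.finF
  have := h.char_two
  have hsM := h.SV hs
  have hsZ : ∀ c, s * h.N.e ![c, 0] = h.N.e ![c, 0] * s := fun c =>
    (mem_centralizer_iff.1 (h.SZ hs) _ ((h.e_memZ c 0).2 rfl)).symm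
  -- the field automorphism is trivial
  have hlin : h.N.sg ⟨s, hsM⟩ = 1 := by
    have h1 : (h.N.sgHom ⟨s, hsM⟩) = 1 := by
      obtain ⟨k, hk⟩ := S.isPGroup' ⟨s, hs⟩
      have hk' : s ^ 2 ^ k = 1 := congrArg Subtype.val hk
      have h2 : orderOf (h.N.sgHom ⟨s, hsM⟩) ∣ 2 ^ k := by
        rw [orderOf_dvd_iff_pow_eq_one, ← map_pow]
        have : (⟨s, hsM⟩ : normalizer (V : Set G)) ^ 2 ^ k = 1 := Subtype.ext hk'
        rw [this, map_one]
      have h3 : orderOf (h.N.sgHom ⟨s, hsM⟩) ∣ Nat.card (F ≃+* F) := orderOf_dvd_natCard _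
      have h4 : Nat.Coprime (2 ^ k) (Nat.card (F ≃+* F)) :=
        Nat.Coprime.pow_left k (Nat.coprime_two_left.2 h.odd_aut)
      exact orderOf_eq_one_iff.1 (Nat.eq_one_of_dvd_coprimes h4 h2 h3)
    exact h1
  have hsm : ∀ (c : F) x, h.N.act s (c • x) = c • h.N.act s x := by
    intro c x
    have := h.N.sg_spec ⟨s, hsM⟩ c x
    rw [hlin] at this
    exact this
  have h0 : h.N.act s ![1, 0] = ![1, 0] := (h.N.commute_e hsM).1 (hsZ 1)
  set v := h.N.act s ![0, 1] with hv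
  have hform : ∀ x y, h.N.act s ![x, y] = ![x + v 0 * y, v 1 * y] := by
    intro x y
    have e1 : (![x, y] : Fin 2 → F) = x • ![1, 0] + y • ![0, 1] := by apply ext2 <;> simp
    rw [e1, h.N.act_add hsM, hsm, hsm, h0, ← hv]
    apply ext2
    · simp [mul_comm]
    · simp [mul_comm]
  -- the second eigenvalue is 1
  have hpow : ∀ k : ℕ, ∃ t, h.N.act (s ^ k) ![0, 1] = ![t, v 1 ^ k] := by
    intro k
    induction k with
    | zero => exact ⟨0, by rw [pow_zero, h.N.act_one, pow_zero]⟩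
    | succ k ih =>
      obtain ⟨t, ht⟩ := ih
      refine ⟨t + v 0 * v 1 ^ k, ?_⟩
      rw [pow_succ', h.N.act_mul hsM (pow_mem hsM k), ht, hform, pow_succ']
  have hv1 : v 1 = 1 := by
    obtain ⟨k, hk⟩ := S.isPGroup' ⟨s, hs⟩
    have hk' : s ^ 2 ^ k = 1 := congrArg Subtype.val hk
    obtain ⟨t, ht⟩ := hpow (2 ^ k)
    rw [hk', h.N.act_one] at ht
    have h5 : v 1 ^ 2 ^ k = 1 := (congrFun ht 1).symm
    have h6 : (v 1 - 1) ^ 2 ^ k = 0 := by
      rw [sub_pow_char_pow, h5, one_pow, sub_self]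
    exact sub_eq_zero.1 (pow_eq_zero_iff (by positivity) |>.1 h6)
  refine ⟨v 0, fun x y => ?_⟩
  rw [← h.N.e_act hsM, hform, hv1, one_mul]

/-- the transvections in `N(V)` -/
def upGrp : Subgroup G where
  carrier := {g | ∃ a, h.Up g a}
  mul_mem' := by
    rintro s t ⟨a, ha⟩ ⟨b, hb⟩
    exact ⟨_, h.up_mul ha hb⟩
  one_mem' := ⟨0, h.up_one⟩
  inv_mem' := by
    rintro s ⟨a, ha⟩
    exact ⟨a, h.up_inv ha⟩

theorem mem_upGrp {g : G} : g ∈ h.upGrp ↔ ∃ a, h.Up g a := Iff.rfl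

theorem S_le_upGrp [Finite G] : (S : Subgroup G) ≤ h.upGrp := fun _ hs => h.exists_up hs

theorem cen_le_upGrp : centralizer (V : Set G) ≤ h.upGrp := fun _ hc => ⟨0, h.up_cen hc⟩

theorem upGrp_le_M [Finite G] : h.upGrp ≤ normalizer (V : Set G) := fun _ ⟨_, ha⟩ => h.up_mem_M ha

theorem upGrp_sq {g : G} (hg : g ∈ h.upGrp) : g ^ 2 ^ 1 ∈ centralizer (V : Set G) := by
  obtain ⟨a, ha⟩ := hg
  apply h.cen_of_up
  have h1 := h.up_mul ha ha
  rw [H.add_self] at h1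
  rwa [pow_one, pow_two]

/-- every transvection is induced by an element of a Sylow 2-subgroup -/
theorem exists_of_up' [Finite G] {Q L : Subgroup G} (hQ : Syl2 Q L) (hL : L ≤ h.upGrp) {g : G}
    (hg : g ∈ L) {a : F} (ha : h.Up g a) : ∃ s ∈ Q, h.Up s a ∧ s⁻¹ * g ∈ centralizer (V : Set G) := by
  have h1 : L ≤ normalizer ((centralizer (V : Set G) ⊓ L : Subgroup G) : Set G) := by
    intro x hx
    have h2 := h.M_normC (h.upGrp_le_M (hL hx))
    have h3 := le_normalizer (H := L) hx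
    rw [mem_normalizer_iff] at h2 h3 ⊢
    intro y
    rw [mem_inf, mem_inf, h2 y, h3 y]
  obtain ⟨s, hs, hsc⟩ := hQ.cover (K := centralizer (V : Set G) ⊓ L) inf_le_right h1
    (fun g hg => ⟨1, h.upGrp_sq (hL hg), L.pow_mem hg _⟩) hg
  refine ⟨s, hs, ?_, hsc.1⟩
  have h4 := h.up_mul ha (h.up_inv (h.up_cen hsc.1))
  have : g * (s⁻¹ * g)⁻¹ = s := by group
  rwa [this, add_zero] at h4

theorem exists_of_up [Finite G] (a : F) : ∃ s ∈ S, h.Up s a := by
  obtain ⟨g, hg⟩ := h.N.lift (up a)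
  have hga : h.Up g a := by
    intro x y
    rw [hg]
    congr 1
    apply ext2 <;> simp [ap]
  obtain ⟨s, hs, hsa, -⟩ := h.exists_of_up' (Syl2.of_sylow S h.S_le_upGrp) le_rfl ⟨a, hga⟩ hga
  exact ⟨s, hs, hsa⟩

/-! ### The decomposition `N(V) = B ∪ S n B` -/

theorem decomp [Finite G] (hn : h.Sw n) {g : G} (hg : g ∈ normalizer (V : Set G)) (hgC : g ∉ normalizer (Z : Set G)) :
    ∃ s ∈ S, ∃ b ∈ normalizer (V : Set G) ⊓ normalizer (Z : Set G), g = s * n * b := by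
  have := h.finF
  have := h.char_two
  set σ := h.N.sg ⟨g, hg⟩ with hσ
  have hsm : ∀ c : F, h.N.act g ![c, 0] = σ c • h.N.act g ![1, 0] := by
    intro c
    have := h.N.sg_spec ⟨g, hg⟩ c ![1, 0]
    rw [← hσ] at this
    rw [← this]
    congr 1
    apply ext2 <;> simp
  set v := h.N.act g ![1, 0] with hv
  have hge : ∀ c, g * h.N.e ![c, 0] * g⁻¹ = h.N.e ![σ c * v 0, σ c * v 1] := by
    intro c
    rw [← h.N.e_act hg, hsm]
    congr 1
    apply ext2 <;> simp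
  have hv1 : v 1 ≠ 0 := by
    intro h1
    apply hgC
    apply h.mem_C_of
    intro c
    rw [hge, h.e_memZ, h1, mul_zero]
  obtain ⟨s, hs, hsu⟩ := h.exists_of_up (v 0 / v 1)
  refine ⟨s, hs, (s * n)⁻¹ * g, ⟨?_, ?_⟩, by group⟩
  · exact Subgroup.mul_mem _ (Subgroup.inv_mem _ (Subgroup.mul_mem _ (h.SV hs) (h.sw_mem hn))) hg
  · apply h.mem_C_of
    intro c
    have e1 : (s * n)⁻¹ * g * h.N.e ![c, 0] * ((s * n)⁻¹ * g)⁻¹ =
        n⁻¹ * (s⁻¹ * (g * h.N.e ![c, 0] * g⁻¹) * s) * n := by group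
    have e2 : s⁻¹ * (h.N.e ![σ c * v 0, σ c * v 1]) * s = h.N.e ![0, σ c * v 1] := by
      have h3 := hsu 0 (σ c * v 1)
      have h4 : (0 : F) + v 0 / v 1 * (σ c * v 1) = σ c * v 0 := by
        field_simp
        ring
      rw [h4] at h3
      rw [← h3]; group
    have e3 : n⁻¹ * h.N.e ![0, σ c * v 1] * n = h.N.e ![σ c * v 1, 0] := by
      have := h.sw_inv hn 0 (σ c * v 1)
      rwa [inv_inv] at this
    rw [e1, hge, e2, e3, h.e_memZ]

end Sit

end Cfsg.Agent.Omega.TwoFFour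

end

section


/-!
# THEOREM 2F4: the situation `Sit` from coordinate-free data

* `natRebase`, `natOfEquiv` : change of basis and of the field in `NatMod`;
* `exists_line` : `Z ≤ V` centralised by the Sylow group `S`, `|Z| = |F|`: `Z` is a line;
* `Sit.exists_of` : `V` natural for `N(V)`, `W / Z` natural for `Sz(q)` (`SzMod`, no adapted coordinates) ⟹ `Sit`.
-/

set_option autoImplicit false
set_option linter.unusedSectionVars false

namespace Cfsg.Agent.Omega.TwoFFour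

open Subgroup Matrix
open Cfsg.Agent.ZN Cfsg.Agent.MinSimple.VModule Cfsg.Agent.Lib.SL2Mat
open Cfsg.Agent.LieRecognition.SzMatrix (Good)
open Cfsg.Agent.Omega.NatPair

variable {G : Type*} [Group G]

section change

variable {F : Type*} [Field F] {V : Subgroup G}

/-- change of basis -/
def natRebase (N : NatMod F V) (B : Matrix.SpecialLinearGroup (Fin 2) F) : NatMod F V where
  e x := N.e (ap B x)
  e_add x y := by rw [ap_add, N.e_add]
  e_inj x y hxy := by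
    have h1 := N.e_inj hxy
    rw [← ap_inv_ap B x, h1, ap_inv_ap]
  mem_iff g := by
    rw [N.mem_iff]
    constructor
    · rintro ⟨x, rfl⟩
      exact ⟨ap B⁻¹ x, by rw [ap_ap_inv]⟩
    · rintro ⟨x, rfl⟩
      exact ⟨_, rfl⟩
  lift A := by
    obtain ⟨g, hg⟩ := N.lift (B * A * B⁻¹)
    refine ⟨g, fun x => ?_⟩
    rw [hg, ap_mul, ap_mul, ap_inv_ap]
  norm g hg k A hA := by
    obtain ⟨A', hA'⟩ := N.norm g hg k (B * A * B⁻¹) (fun x => by
      have h1 := hA (ap B⁻¹ x)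
      rw [ap_ap_inv] at h1
      rw [h1, ap_mul, ap_mul])
    refine ⟨B⁻¹ * A' * B, fun x => ?_⟩
    rw [hA', ap_mul, ap_mul, ap_ap_inv]

theorem natRebase_e (N : NatMod F V) (B : Matrix.SpecialLinearGroup (Fin 2) F) (x : Fin 2 → F) :
    (natRebase N B).e x = N.e (ap B x) := rfl

variable {F' : Type*} [Field F']

/-- transport of a matrix -/
def slMap (σ : F' ≃+* F) (A : Matrix.SpecialLinearGroup (Fin 2) F') : Matrix.SpecialLinearGroup (Fin 2) F :=
  mk (σ (ent A 0 0)) (σ (ent A 0 1)) (σ (ent A 1 0)) (σ (ent A 1 1)) (by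
    rw [← map_mul, ← map_mul, ← map_sub, det_eq, map_one])

theorem ap_slMap (σ : F' ≃+* F) (A : Matrix.SpecialLinearGroup (Fin 2) F') (x : Fin 2 → F') :
    ap (slMap σ A) (fun i => σ (x i)) = fun i => σ (ap A x i) := by
  apply ext2
  · show σ (ent A 0 0) * σ (x 0) + σ (ent A 0 1) * σ (x 1) = σ (ent A 0 0 * x 0 + ent A 0 1 * x 1)
    rw [map_add, map_mul, map_mul]
  · show σ (ent A 1 0) * σ (x 0) + σ (ent A 1 1) * σ (x 1) = σ (ent A 1 0 * x 0 + ent A 1 1 * x 1)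
    rw [map_add, map_mul, map_mul]

theorem slMap_symm (σ : F' ≃+* F) (A : Matrix.SpecialLinearGroup (Fin 2) F) : slMap σ (slMap σ.symm A) = A := by
  apply ext_ent
  · exact σ.apply_symm_apply _
  · exact σ.apply_symm_apply _
  · exact σ.apply_symm_apply _
  · exact σ.apply_symm_apply _

/-- change of the field -/
def natOfEquiv (N : NatMod F V) (σ : F' ≃+* F) : NatMod F' V where
  e x := N.e (fun i => σ (x i))
  e_add x y := by
    rw [← N.e_add]
    congr 1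
    funext i
    exact map_add σ _ _
  e_inj x y hxy := by
    have h1 := N.e_inj hxy
    funext i
    exact σ.injective (congrFun h1 i)
  mem_iff g := by
    rw [N.mem_iff]
    constructor
    · rintro ⟨x, rfl⟩
      refine ⟨fun i => σ.symm (x i), ?_⟩
      congr 1
      funext i
      exact σ.apply_symm_apply _
    · rintro ⟨x, rfl⟩
      exact ⟨_, rfl⟩
  lift A := by
    obtain ⟨g, hg⟩ := N.lift (slMap σ A)
    refine ⟨g, fun x => ?_⟩
    rw [hg, ap_slMap]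
  norm g hg k A hA := by
    obtain ⟨A', hA'⟩ := N.norm g hg k (slMap σ A) (fun x => by
      have h1 := hA (fun i => σ.symm (x i))
      have e1 : (fun i => σ (σ.symm (x i))) = x := funext fun i => σ.apply_symm_apply _
      have e2 := ap_slMap σ A (fun i => σ.symm (x i))
      simp only [RingEquiv.apply_symm_apply] at h1 e2
      rw [h1, ← e2])
    refine ⟨slMap σ.symm A', fun x => ?_⟩
    rw [hA', ← ap_slMap, slMap_symm]

end change

section line

variable {F : Type*} [Field F] [Finite F] [CharP F 2] {V Z : Subgroup G}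

/-- an element of `S` acts as a nontrivial involution of `SL₂(F)` -/
theorem exists_inv_S [Finite G] (N : NatMod F V) (S : Sylow 2 G) (SV : (S : Subgroup G) ≤ normalizer (V : Set G)) :
    ∃ s ∈ S, ∃ A : Matrix.SpecialLinearGroup (Fin 2) F, N.Ind s A ∧ A ≠ 1 := by
  obtain ⟨g, hg⟩ := N.lift (up (1 : F))
  have hg : N.Ind g (up 1) := hg
  have hgM := N.mem_normalizer hg
  -- the 2-part of `g`
  obtain ⟨k, m, hm, hkm⟩ := Nat.exists_eq_two_pow_mul_odd (n := orderOf g) (orderOf_pos g).ne'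
  have hpow : ∀ n : ℕ, N.Ind (g ^ n) (up (n : F)) := by
    intro n
    induction n with
    | zero =>
      intro x
      rw [pow_zero, Nat.cast_zero, up_zero, ap_one]
      group
    | succ n ih =>
      intro x
      have e1 : g ^ (n + 1) * N.e x * (g ^ (n + 1))⁻¹ = g ^ n * (g * N.e x * g⁻¹) * (g ^ n)⁻¹ := by
        rw [pow_succ]; group
      rw [e1, hg, ih, ← ap_mul, up_mul, Nat.cast_succ]
  have h1 : N.Ind (g ^ m) (up 1) := by
    have h2 := hpow m
    have h3 : (m : F) = 1 := by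
      obtain ⟨l, rfl⟩ := hm
      push_cast
      rw [CharTwo.two_eq_zero, zero_mul, zero_add]
    rwa [h3] at h2
  have h2 : IsPGroup 2 (zpowers (g ^ m)) := by
    intro x
    refine ⟨k, ?_⟩
    obtain ⟨_, j, rfl⟩ := x
    apply Subtype.ext
    show ((g ^ m) ^ j) ^ 2 ^ k = 1
    rw [← zpow_natCast, ← _root_.zpow_mul, mul_comm, _root_.zpow_mul, zpow_natCast, ← pow_mul, mul_comm m, ← hkm,
      pow_orderOf_eq_one, _root_.one_zpow]
  obtain ⟨x, hx, hxS⟩ := (Syl2.of_sylow S SV).exists_conj_le ((zpowers_le).2 (pow_mem hgM m)) h2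
  obtain ⟨B, hB⟩ := N.norm x hx (g ^ m) (up 1) h1
  refine ⟨_, hxS _ (mem_zpowers _), B, hB, ?_⟩
  rintro rfl
  -- then `g ^ m` centralises `V`
  have h3 : ∀ v, g ^ m * N.e v * (g ^ m)⁻¹ = N.e v := by
    intro v
    obtain ⟨w, hw⟩ := (N.mem_iff _).1 ((mem_normalizer_iff.1 hx _).1 (N.e_mem v))
    have h4 := hB w
    rw [ap_one] at h4
    rw [hw] at h4
    have e1 : x * g ^ m * x⁻¹ * (x * N.e v * x⁻¹) * (x * g ^ m * x⁻¹)⁻¹ = x * (g ^ m * N.e v * (g ^ m)⁻¹) * x⁻¹ := by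
      group
    rw [e1] at h4
    exact mul_left_cancel (mul_right_cancel h4)
  have h4 := h3 ![0, 1]
  rw [h1] at h4
  have h5 := congrFun (N.e_inj h4) 0
  simp [ap] at h5

/-- `Z` is a line -/
theorem exists_line [Finite G] (N : NatMod F V) (S : Sylow 2 G) (SV : (S : Subgroup G) ≤ normalizer (V : Set G))
    (SZ : (S : Subgroup G) ≤ centralizer (Z : Set G)) (hZV : Z ≤ V) (hZ : Nat.card Z = Nat.card F) :
    ∃ w ≠ 0, ∀ g, g ∈ Z ↔ ∃ c : F, N.e (c • w) = g := by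
  obtain ⟨s, hs, A, hA, hA1⟩ := exists_inv_S N S SV
  have hfix : ∀ x, N.e x ∈ Z → ap A x = x := by
    intro x hx
    apply N.e_inj
    rw [← hA, ← mem_centralizer_iff.1 (SZ hs) _ hx, mul_inv_cancel_right]
  have hne : Z ≠ ⊥ := by
    rintro rfl
    rw [card_bot] at hZ
    exact absurd hZ.symm Finite.one_lt_card.ne'
  obtain ⟨z, hz, hz1⟩ : ∃ z ∈ Z, z ≠ 1 := (Subgroup.ne_bot_iff_exists_ne_one.1 hne).elim
    fun z hz => ⟨(z : G), z.2, fun h => hz (Subtype.ext h)⟩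
  obtain ⟨w, rfl⟩ := (N.mem_iff z).1 (hZV hz)
  have hw : w ≠ 0 := by
    rintro rfl
    exact hz1 N.e_zero
  refine ⟨w, hw, ?_⟩
  have hsub : ∀ x, N.e x ∈ Z → ∃ c : F, x = c • w := by
    intro x hx
    by_contra hcon
    have h1 : dt w x ≠ 0 := fun h => hcon (exists_smul_of_dt hw h)
    apply hA1
    apply ap_inj
    intro y
    rw [ap_one]
    obtain ⟨a, b, rfl⟩ := exists_comb h1 y
    rw [ap_add, ap_smul, ap_smul, hfix w hz, hfix x hx]
  have hle : Z ≤ N.line w := by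
    intro g hg
    obtain ⟨x, rfl⟩ := (N.mem_iff g).1 (hZV hg)
    obtain ⟨c, rfl⟩ := hsub x hg
    exact ⟨c, rfl⟩
  have heq : Z = N.line w := eq_of_le_of_card_ge hle (by rw [N.card_line hw, hZ])
  intro g
  rw [heq]
  exact N.mem_line

end line

section main

variable {F : Type*} [Field F] {θ : F →+* F} {e : ℕ} {H : Good F θ e} {V Z W : Subgroup G}

/-- `S` acts on `V` by transvections with centre `Z` -/
theorem comm_VS [Finite G] {m : ℕ} (hF : Nat.card F = 2 ^ (2 * m + 1)) (H : Good F θ e) (N : NatMod F V) (S : Sylow 2 G)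
    (SV : (S : Subgroup G) ≤ normalizer (V : Set G)) (SZ : (S : Subgroup G) ≤ centralizer (Z : Set G))
    (memZ : ∀ g, g ∈ Z ↔ ∃ c, N.e ![c, 0] = g) {s : G} (hs : s ∈ S) {v : G} (hv : v ∈ V) : s * v * s⁻¹ * v⁻¹ ∈ Z := by
  have hfin : Finite F := Nat.finite_of_card_ne_zero (by rw [hF]; positivity)
  have hch : CharP F 2 := CharTwo.of_one_ne_zero_of_two_eq_zero one_ne_zero H.two
  have hsM := SV hs
  have hsZ : ∀ c, s * N.e ![c, 0] = N.e ![c, 0] * s := fun c =>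
    (mem_centralizer_iff.1 (SZ hs) _ ((memZ _).2 ⟨c, rfl⟩)).symm
  -- the field automorphism is trivial
  have hfix : ∀ c, N.act s ![c, 0] = ![c, 0] := fun c => (N.commute_e hsM).1 (hsZ c)
  have hsm : ∀ (c : F) x, N.act s (c • x) = c • N.act s x := by
    intro c x
    have h1 := N.sg_spec ⟨s, hsM⟩ c ![1, 0]
    have e1 : (c • ![1, 0] : Fin 2 → F) = ![c, 0] := by apply ext2 <;> simp
    rw [e1, hfix, hfix] at h1
    have h2 := congrFun h1 0
    have h3 : N.sg ⟨s, hsM⟩ c = c := by simpa using h2.symm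
    rw [N.sg_spec ⟨s, hsM⟩, h3]
  have h0 : N.act s ![1, 0] = ![1, 0] := hfix 1
  set v₀ := N.act s ![0, 1] with hv₀
  have hform : ∀ x y, N.act s ![x, y] = ![x + v₀ 0 * y, v₀ 1 * y] := by
    intro x y
    have e1 : (![x, y] : Fin 2 → F) = x • ![1, 0] + y • ![0, 1] := by apply ext2 <;> simp
    rw [e1, N.act_add hsM, hsm, hsm, h0, ← hv₀]
    apply ext2
    · simp [mul_comm]
    · simp [mul_comm]
  have hpow : ∀ k : ℕ, ∃ t, N.act (s ^ k) ![0, 1] = ![t, v₀ 1 ^ k] := by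
    intro k
    induction k with
    | zero => exact ⟨0, by rw [pow_zero, N.act_one, pow_zero]⟩
    | succ k ih =>
      obtain ⟨t, ht⟩ := ih
      refine ⟨t + v₀ 0 * v₀ 1 ^ k, ?_⟩
      rw [pow_succ', N.act_mul hsM (pow_mem hsM k), ht, hform, pow_succ']
  have hv1 : v₀ 1 = 1 := by
    obtain ⟨k, hk⟩ := S.isPGroup' ⟨s, hs⟩
    have hk' : s ^ 2 ^ k = 1 := congrArg Subtype.val hk
    obtain ⟨t, ht⟩ := hpow (2 ^ k)
    rw [hk', N.act_one] at ht
    have h5 : v₀ 1 ^ 2 ^ k = 1 := (congrFun ht 1).symm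
    have h6 : (v₀ 1 - 1) ^ 2 ^ k = 0 := by
      rw [sub_pow_char_pow, h5, one_pow, sub_self]
    exact sub_eq_zero.1 (pow_eq_zero_iff (by positivity) |>.1 h6)
  obtain ⟨x, rfl⟩ := (N.mem_iff v).1 hv
  rw [memZ]
  refine ⟨v₀ 0 * x 1, ?_⟩
  have e1 : N.e x = N.e ![x 0, x 1] := by congr 1; apply ext2 <;> rfl
  rw [e1, ← N.e_act hsM, hform, hv1, one_mul, eq_mul_inv_iff_mul_eq, ← N.e_add]
  congr 1
  apply ext2
  · show v₀ 0 * x 1 + x 0 = x 0 + v₀ 0 * x 1
    ring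
  · show 0 + x 1 = x 1
    ring

/-- **The situation from coordinate-free data.** -/
theorem Sit.exists_of [Finite G] {F' : Type*} [Field F'] [Finite F'] {m : ℕ} (hm : 1 ≤ m)
    (hF : Nat.card F = 2 ^ (2 * m + 1)) (hFF : Nat.card F' = Nat.card F) (S : Sylow 2 G)
    (N' : NatMod F' V) (hZV : Z ≤ V) (hZ : Nat.card Z = Nat.card F)
    (SV : (S : Subgroup G) ≤ normalizer (V : Set G)) (SZ : (S : Subgroup G) ≤ centralizer (Z : Set G))
    (M' : SzMod H (normalizer (Z : Set G)) W Z) (hVW : V ≤ W)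
    (ab : ∀ x ∈ W, ∀ y ∈ W, x * y = y * x) (sq : ∀ x ∈ W, x * x = 1)
    (char2 : normalizer (Z : Set G) ⊓ centralizer (o2 (normalizer (Z : Set G)) : Set G) ≤ o2 (normalizer (Z : Set G)))
    (nonloc : ∀ R ≤ normalizer (Z : Set G), IsPGroup 2 R → normalizer (V : Set G) ≤ normalizer (R : Set G) →
      normalizer (Z : Set G) ≤ normalizer (R : Set G) → R = ⊥)
    (ne : ∃ m ∈ normalizer (V : Set G), ∃ x ∈ W, ∃ y ∈ W, x * (m * y * m⁻¹) ≠ m * y * m⁻¹ * x) :
    ∃ h : Sit F H S V Z W, h.P.K = M'.K := by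
  classical
  have hfin : Finite F := Nat.finite_of_card_ne_zero (by rw [hF]; positivity)
  have hft : Fintype F := Fintype.ofFinite F
  have hft' : Fintype F' := Fintype.ofFinite F'
  have hch : CharP F 2 := CharTwo.of_one_ne_zero_of_two_eq_zero one_ne_zero H.two
  have hF2 : Fintype.card F = 2 ^ (2 * m + 1) := by rw [← Nat.card_eq_fintype_card, hF]
  -- the same field
  let σ : F ≃+* F' := FiniteField.ringEquivOfCardEq (K := F) (K' := F') (by
    rw [← Nat.card_eq_fintype_card, ← Nat.card_eq_fintype_card, hFF])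
  obtain ⟨w, hw, hwZ⟩ := exists_line (natOfEquiv N' σ) S SV SZ hZV hZ
  obtain ⟨B, hB⟩ := exists_ap_e hw
  let N : NatMod F V := natRebase (natOfEquiv N' σ) B
  have memZ : ∀ g, g ∈ Z ↔ ∃ c, N.e ![c, 0] = g := by
    intro g
    rw [hwZ]
    have e1 : ∀ c : F, N.e ![c, 0] = (natOfEquiv N' σ).e (c • w) := by
      intro c
      have e2 : (![c, 0] : Fin 2 → F) = c • ![1, 0] := by apply ext2 <;> simp
      rw [natRebase_e, e2, ap_smul, hB]
    simp only [e1]
  obtain ⟨M, hM, hMK⟩ := M'.exists_ad hm hF2 S (SZ.trans (centralizer_le_normalizer _))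
  have hSC : (S : Subgroup G) ≤ normalizer (Z : Set G) := SZ.trans (centralizer_le_normalizer _)
  have hV1 : ∀ g ∈ V, ∃ c, M.f g = ![c, 0, 0, 0] := by
    intro g hg
    have h1 : ∀ a b, mv (H.U a b) (M.f g) = M.f g := by
      intro a b
      obtain ⟨s, hs, hsU⟩ := hM.surj a b
      rw [← hsU, M.act_f (hSC hs) (hVW hg), M.f_eq_iff (M.conjW (hSC hs) (hVW hg)) (hVW hg)]
      have h3 := comm_VS hF H N S SV SZ memZ hs hg
      have h4 : (s * g * s⁻¹)⁻¹ * g = (s * g * s⁻¹)⁻¹ * (s * g * s⁻¹ * g⁻¹)⁻¹ * (s * g * s⁻¹) := by group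
      rw [h4]
      have h5 : ∀ x ∈ W, ∀ z ∈ Z, x⁻¹ * z * x = z := by
        intro x hx z hz
        rw [mul_assoc, ab z (M.Z_le hz) x hx, inv_mul_cancel_left]
      rw [h5 _ (M.conjW (hSC hs) (hVW hg)) _ (inv_mem h3)]
      exact inv_mem h3
    obtain ⟨h2, h3, h4⟩ := (fix_T H).1 h1
    refine ⟨M.f g 0, ?_⟩
    apply ext4
    · rfl
    · exact h2
    · exact h3
    · exact h4
  have memV : ∀ g, g ∈ V ↔ g ∈ W ∧ ∃ c, M.f g = ![c, 0, 0, 0] := by
    intro g
    refine ⟨fun hg => ⟨hVW hg, hV1 g hg⟩, ?_⟩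
    rintro ⟨hg, c, hc⟩
    -- `c ↦ f (e (0, c))` is injective, hence surjective on `F e₀`
    let φ : F → F := fun d => M.f (N.e ![0, d]) 0
    have hφ : Function.Injective φ := by
      intro d d' hd
      obtain ⟨c₁, h1⟩ := hV1 _ (N.e_mem ![0, d])
      obtain ⟨c₂, h2⟩ := hV1 _ (N.e_mem ![0, d'])
      have h3 : c₁ = c₂ := by
        have h4 : M.f (N.e ![0, d]) 0 = M.f (N.e ![0, d']) 0 := hd
        rw [h1, h2] at h4
        exact h4
      have h4 : M.f (N.e ![0, d]) = M.f (N.e ![0, d']) := by rw [h1, h2, h3]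
      rw [M.f_eq_iff (hVW (N.e_mem _)) (hVW (N.e_mem _)), ← N.e_neg, ← N.e_add, memZ] at h4
      obtain ⟨c₃, h5⟩ := h4
      have h6 := congrFun (N.e_inj h5) 1
      have h7 : (0 : F) = -d + d' := h6
      linear_combination h7
    obtain ⟨d, hd⟩ := (Finite.surjective_of_injective hφ) c
    obtain ⟨c₁, h1⟩ := hV1 _ (N.e_mem ![0, d])
    have h2 : c₁ = c := by
      have h3 : M.f (N.e ![0, d]) 0 = c := hd
      rw [h1] at h3
      exact h3
    have h3 : M.f g = M.f (N.e ![0, d]) := by rw [hc, h1, h2]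
    rw [M.f_eq_iff hg (hVW (N.e_mem _))] at h3
    have h4 : g = N.e ![0, d] * (g⁻¹ * N.e ![0, d])⁻¹ := by group
    rw [h4]
    exact mul_mem (N.e_mem _) (inv_mem (hZV h3))
  exact ⟨{ N := N, P := M, mf := m, cardF := hF, one_le := hm, memZ := memZ, SV := SV, SZ := SZ, memV := memV,
           ab := ab, sq := sq, Ad := hM, char2 := char2, nonloc := nonloc, ne := ne }, hMK⟩

end main

end Cfsg.Agent.Omega.TwoFFour

end

section


/-!
# THEOREM 2F4, (3d): the Galois arguments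

* `galois_pair` : a nondegenerate additive pairing `Φ : F × F → A` with `Φ s (b y) = Φ (a s) y` gives a field automorphism
  `τ` with `τ a = b`;
* `field_end` : `σ (θ k₀ / k₀²) = θ k₁ / k₁²` and `τ (k₀²) = (θ k₁)⁻¹` imply `k₀ = 1`, if `|Aut F|` is odd.
-/

set_option autoImplicit false

namespace Cfsg.Agent.Omega.TwoFFour

open Cfsg.Agent.LieRecognition.SzMatrix (Good)

theorem galois_pair {F A : Type*} [Field F] [Finite F] [CharP F 2] [AddCommGroup A] {Φ : F → F → A}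
    (hl : ∀ s s' y, Φ (s + s') y = Φ s y + Φ s' y) (hr : ∀ s y y', Φ s (y + y') = Φ s y + Φ s y')
    (hnd : ∀ y, (∀ s, Φ s y = 0) → y = 0) {a b : F} (hk : ∀ s y, Φ s (b * y) = Φ (a * s) y) :
    ∃ τ : F ≃+* F, τ a = b := by
  let : Algebra (ZMod 2) F := ZMod.algebra F 2
  have : Fact (Nat.Prime 2) := ⟨Nat.prime_two⟩
  have h0l : ∀ y, Φ 0 y = 0 := by
    intro y
    have := hl 0 0 y
    rw [add_zero] at this
    exact left_eq_add.1 this
  have h0r : ∀ s, Φ s 0 = 0 := by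
    intro s
    have := hr s 0 0
    rw [add_zero] at this
    exact left_eq_add.1 this
  have hpow : ∀ (n : ℕ) (s y : F), Φ s (b ^ n * y) = Φ (a ^ n * s) y := by
    intro n
    induction n with
    | zero => intro s y; simp
    | succ n ih =>
      intro s y
      rw [pow_succ', mul_assoc, hk, ih, pow_succ, mul_assoc]
  have hz : ∀ (c : ZMod 2) (s y : F), Φ s (algebraMap (ZMod 2) F c * y) = Φ (algebraMap (ZMod 2) F c * s) y := by
    intro c s y
    rcases zmod_two c with rfl | rfl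
    · simp [h0l, h0r]
    · simp
  have hpol : ∀ (p : Polynomial (ZMod 2)) (s y : F), Φ s (Polynomial.aeval b p * y) = Φ (Polynomial.aeval a p * s) y := by
    intro p
    induction p using Polynomial.induction_on' with
    | add p q hp hq => intro s y; rw [map_add, map_add, add_mul, add_mul, hr, hl, hp, hq]
    | monomial n c =>
      intro s y
      rw [Polynomial.aeval_monomial, Polynomial.aeval_monomial, mul_assoc, hz, hpow]
      congr 1
      ring
  have hint : IsIntegral (ZMod 2) a := IsIntegral.of_finite _ _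
  have h1 : Polynomial.aeval b (minpoly (ZMod 2) a) = 0 := by
    apply hnd
    intro s
    have h2 := hpol (minpoly (ZMod 2) a) s 1
    rwa [minpoly.aeval, zero_mul, h0l, mul_one] at h2
  have hmin : minpoly (ZMod 2) b = minpoly (ZMod 2) a := by
    symm
    exact minpoly.eq_of_irreducible_of_monic (minpoly.irreducible hint) h1 (minpoly.monic hint)
  have hconj : IsConjRoot (ZMod 2) a b := hmin.symm
  obtain ⟨σ, hσ⟩ := isConjRoot_iff_exists_algEquiv.1 hconj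
  refine ⟨σ.symm.toRingEquiv, ?_⟩
  show σ.symm a = b
  rw [← hσ, AlgEquiv.symm_apply_apply]

variable {F : Type*} [Field F] {θ : F →+* F} {e : ℕ}

/-- `θ r = r²` only for `r = 0, 1` -/
theorem eq_one_of_theta (H : Good F θ e) {r : F} (hr : r ≠ 0) (h : θ r = r ^ 2) : r = 1 := by
  have h1 := H.sq r
  rw [h, map_pow, h] at h1
  have h2 : r ^ 2 = 1 := by
    have h3 : r ^ 2 * (r ^ 2 - 1) = 0 := by linear_combination h1
    rcases mul_eq_zero.1 h3 with h4 | h4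
    · exact absurd (pow_eq_zero_iff two_ne_zero |>.1 h4) hr
    · exact sub_eq_zero.1 h4
  exact eq_one_of_sq H h2

theorem field_end [Finite F] (H : Good F θ e) (hodd : Odd (Nat.card (F ≃+* F))) {k₀ k₁ : F} (hk₀ : k₀ ≠ 0) (hk₁ : k₁ ≠ 0)
    (σ τ : F ≃+* F) (h1 : σ (θ k₀ * (k₀⁻¹) ^ 2) = θ k₁ * (k₁⁻¹) ^ 2) (h2 : τ (k₀ ^ 2) = (θ k₁)⁻¹) : k₀ = 1 := by
  have hσ : ∀ x, σ (θ x) = θ (σ x) := fun x => by rw [← H.pow, ← H.pow, map_pow]
  have hτ : ∀ x, τ (θ x) = θ (τ x) := fun x => by rw [← H.pow, ← H.pow, map_pow]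
  have hσk : σ k₀ ≠ 0 := (map_ne_zero σ).2 hk₀
  have hk : σ k₀ = k₁ := by
    have h3 : σ k₀ / k₁ = 1 := by
      apply eq_one_of_theta H (div_ne_zero hσk hk₁)
      rw [map_mul, hσ, map_pow, map_inv₀] at h1
      rw [map_div₀]
      have h4 : θ k₁ ≠ 0 := (map_ne_zero θ).2 hk₁
      field_simp
      field_simp at h1
      rw [h1]; ring
    exact (div_eq_one_iff_eq hk₁).1 h3
  have h3 : τ (θ k₀) = σ k₀⁻¹ := by
    apply θ.injective
    rw [← hτ, H.sq, h2, ← hk, map_inv₀, map_inv₀]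
  let θe : F ≃+* F := RingEquiv.ofBijective θ ⟨θ.injective, Finite.surjective_of_injective θ.injective⟩
  let ρ : RingAut F := (σ : RingAut F)⁻¹ * (τ : RingAut F) * (θe : RingAut F)
  have hρ : ρ k₀ = k₀⁻¹ := by
    show σ.symm (τ (θ k₀)) = k₀⁻¹
    rw [h3, RingEquiv.symm_apply_apply]
  have hρ2 : (ρ * ρ) k₀ = k₀ := by
    show ρ (ρ k₀) = k₀
    rw [hρ, map_inv₀, hρ, inv_inv]
  have hpow : ∀ j : ℕ, ((ρ * ρ) ^ j) k₀ = k₀ := by
    intro j
    induction j with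
    | zero => rfl
    | succ j ih =>
      rw [pow_succ]
      show ((ρ * ρ) ^ j) ((ρ * ρ) k₀) = k₀
      rw [hρ2, ih]
  obtain ⟨j, hj⟩ := hodd
  have h4 : ρ ^ Nat.card (F ≃+* F) = 1 := pow_card_eq_one'
  rw [hj, pow_succ, pow_mul, pow_two] at h4
  have h5 : ((ρ * ρ) ^ j * ρ) k₀ = k₀ := by rw [h4]; rfl
  have h6 : ((ρ * ρ) ^ j) (ρ k₀) = k₀ := h5
  rw [hρ, map_inv₀, hpow] at h6
  apply eq_one_of_sq H
  rw [pow_two]
  nth_rw 1 [← h6]
  exact inv_mul_cancel₀ hk₀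

end Cfsg.Agent.Omega.TwoFFour

end
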