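import Cfsg.Agent.Mrg.Omega.TwoFFour.SzNat
import Cfsg.Agent.Mrg.Omega.TwoFFour.Syl
import Cfsg.Agent.Mrg.Omega.NO3S.OneQ.TIq.Base
import Cfsg.Agent.Mrg.Omega.NO3S.OneQ.TIq.Phi

section


/-!
# Quadratic modules of `Sz(q)` are natural: the identification

`Hy.exists_nat`: the graph of an isomorphism with `F⁴`.
-/

set_option autoImplicit false
set_option linter.unusedSectionVars false

namespace Cfsg.Agent.Omega.TwoFFour

open Matrix
open Cfsg.Agent.LieRecognition.SzMatrix Cfsg.Agent.ThreePrime.SzRel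

variable {F : Type*} [Field F] {θ : F →+* F} {e : ℕ} {H : Good F θ e}

/-- the natural module -/
def NN (F : Type*) : Type _ := Fin 4 → F

instance : AddCommGroup (NN F) := inferInstanceAs (AddCommGroup (Fin 4 → F))

/-- the action of `Sz(q)` on the natural module -/
instance instNN : DistribMulAction (LS F e) (NN F) where
  smul g v := mv g.1 v
  one_smul v := mv_one v
  mul_smul g h v := mv_mul g.1 h.1 v
  smul_zero g := mv_zero g.1
  smul_add g v w := mv_add g.1 v w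

theorem NN.smul_def (g : LS F e) (v : NN F) : g • v = (mv g.1 v : Fin 4 → F) := rfl

/-- the vector `c e₀` -/
def NN.s (c : F) : NN F := (Pi.single 0 c : Fin 4 → F)

theorem NN.s_add (a b : F) : NN.s (a + b) = NN.s a + NN.s b := by
  have h1 : (Pi.single 0 (a + b) : Fin 4 → F) = Pi.single 0 a + Pi.single 0 b := by
    apply ext4 <;> simp
  exact h1

theorem NN.s_zero : NN.s (0 : F) = 0 := by
  have h1 : (Pi.single 0 0 : Fin 4 → F) = 0 := by
    apply ext4 <;> simp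
  exact h1

theorem NN.s_neg (a : F) : NN.s (-a) = -NN.s a := by
  have h1 : (Pi.single 0 (-a) : Fin 4 → F) = -Pi.single 0 a := by
    apply ext4 <;> simp
  exact h1

theorem NN.two (H : Good F θ e) (v : NN F) : v + v = 0 := by
  funext i
  exact H.add_self _

theorem NN.quad (H : Good F θ e) : Qd H (NN F) := by
  intro b c m
  by_cases hb : b = 0
  · subst hb
    rw [H.u_zero, one_smul]
  · have h1 : ∀ m : Fin 4 → F, mv (H.U 0 b) (mv (H.U 0 c) m - m) = mv (H.U 0 c) m - m := by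
      intro m
      rw [fix_Z H hb]
      constructor
      · rw [mv_U]
        show m 2 + 0 * m 3 - m 2 = 0
        ring
      · rw [mv_U]
        show m 3 - m 3 = 0
        ring
    exact h1 m

theorem NN.fx (H : Good F θ e) (c : F) : Fx H (NN.s c) := by
  intro a b
  have h1 : mv (H.U a b) (Pi.single 0 c) = Pi.single 0 c := by
    refine (fix_T H).2 ?_ a b
    simp
  exact h1

theorem NN.d_s (H : Good F θ e) (k : Fˣ) (c : F) : H.d k • NN.s c = NN.s (k * c) := by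
  have h1 : mv (H.D k) (Pi.single 0 c) = Pi.single 0 (k * c) := by
    rw [mv_D]
    apply ext4 <;> simp
  exact h1

section irr

variable {P : Type*} [AddCommGroup P] [DistribMulAction (LS F e) P] [Finite F] [Finite P]

open scoped Classical in
/-- the vectors `d c y` -/
noncomputable def sc (H : Good F θ e) (y : P) (c : F) : P := if hc : c = 0 then 0 else H.d (Units.mk0 c hc) • y

theorem sc_zero (y : P) : sc H y 0 = 0 := dif_pos rfl

theorem sc_unit (y : P) (k : Fˣ) : sc H y k = H.d k • y := by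
  unfold sc
  rw [dif_neg k.ne_zero]
  congr 2
  exact Units.ext rfl

theorem sc_fx {y : P} (hy : Fx H y) (c : F) : Fx H (sc H y c) := by
  by_cases hc : c = 0
  · rw [hc, sc_zero]; exact Fx.zero
  · have h1 := sc_unit (H := H) y (Units.mk0 c hc)
    rw [Units.val_mk0] at h1
    rw [h1]
    exact hy.d _

theorem d_sc (y : P) (k : Fˣ) (c : F) : H.d k • sc H y c = sc H y (k * c) := by
  by_cases hc : c = 0
  · rw [hc, mul_zero, sc_zero, smul_zero]
  · have h1 := sc_unit (H := H) y (Units.mk0 c hc)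
    have h2 := sc_unit (H := H) y (k * Units.mk0 c hc)
    rw [Units.val_mk0] at h1
    rw [Units.val_mul, Units.val_mk0] at h2
    rw [h1, h2, ← mul_smul, H.d_mul]

theorem Hy.sc_add (h : Hy H P) {y : P} (hy : Fx H y) (a b : F) : sc H y (a + b) = sc H y a + sc H y b := by
  by_cases ha : a = 0
  · rw [ha, sc_zero, zero_add, zero_add]
  by_cases hb : b = 0
  · rw [hb, sc_zero, add_zero, add_zero]
  by_cases hab : a + b = 0
  · have h1 : a = b := by linear_combination hab - H.add_self b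
    rw [hab, sc_zero, h1, h.two]
  · have h1 := sc_unit (H := H) y (Units.mk0 a ha)
    have h2 := sc_unit (H := H) y (Units.mk0 b hb)
    have h3 := sc_unit (H := H) y (Units.mk0 (a + b) hab)
    rw [Units.val_mk0] at h1 h2 h3
    rw [h1, h2, h3]
    exact (h.add hy rfl).symm

theorem Hy.sc_neg (h : Hy H P) {y : P} (hy : Fx H y) (a : F) : sc H y (-a) = -sc H y a := by
  have h1 := h.sc_add hy (-a) a
  rw [neg_add_cancel, sc_zero] at h1
  exact eq_neg_of_add_eq_zero_left h1.symm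

/-- the diagonal subgroup -/
noncomputable def Hy.Δ (h : Hy H P) {y : P} (hy : Fx H y) : AddSubgroup (P × NN F) where
  carrier := {m | ∃ c : F, m = (sc H y c, NN.s c)}
  zero_mem' := ⟨0, by rw [sc_zero, NN.s_zero]; rfl⟩
  add_mem' := by
    rintro _ _ ⟨a, rfl⟩ ⟨b, rfl⟩
    exact ⟨a + b, by rw [h.sc_add hy, NN.s_add]; rfl⟩
  neg_mem' := by
    rintro _ ⟨a, rfl⟩
    exact ⟨-a, by rw [h.sc_neg hy, NN.s_neg]; rfl⟩

theorem Hy.mem_Δ (h : Hy H P) {y : P} (hy : Fx H y) {m : P × NN F} :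
    m ∈ h.Δ hy ↔ ∃ c : F, m = (sc H y c, NN.s c) := Iff.rfl

theorem two_prod (h : Hy H P) (m : P × NN F) : m + m = 0 := Prod.ext (h.two _) (NN.two H _)

theorem quad_prod (h : Hy H P) : Qd H (P × NN F) := fun b c m => Prod.ext (h.quad b c m.1) (NN.quad H b c m.2)

theorem Hy.Δ_fx (h : Hy H P) {y : P} (hy : Fx H y) : ∀ δ ∈ h.Δ hy, Fx H δ := by
  rintro _ ⟨c, rfl⟩ a b
  exact Prod.ext (sc_fx hy c a b) (NN.fx H c a b)

theorem Hy.Δ_d (h : Hy H P) {y : P} (hy : Fx H y) (k : Fˣ) : ∀ δ ∈ h.Δ hy, H.d k • δ ∈ h.Δ hy := by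
  rintro _ ⟨c, rfl⟩
  exact ⟨k * c, Prod.ext (d_sc y k c) (NN.d_s H k c)⟩

/-- the graph -/
noncomputable def Hy.S (h : Hy H P) {y : P} (hy : Fx H y) : AddSubgroup (P × NN F) := sp H (h.Δ hy)

theorem Hy.S_smul (h : Hy H P) {y : P} (hy : Fx H y) (g : LS F e) {m : P} {v : NN F} (hm : (m, v) ∈ h.S hy) :
    (g • m, g • v) ∈ h.S hy :=
  sp_inv h.three (two_prod h) (quad_prod h) (h.Δ_fx hy) (h.Δ_d hy) g hm

theorem Hy.S_sc (h : Hy H P) {y : P} (hy : Fx H y) (c : F) : (sc H y c, NN.s c) ∈ h.S hy :=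
  le_sp h.three (two_prod h) (quad_prod h) (h.Δ_fx hy) (h.Δ_d hy) ⟨c, rfl⟩

theorem Hy.S_add (h : Hy H P) {y : P} (hy : Fx H y) {m m' : P} {v v' : NN F} (hm : (m, v) ∈ h.S hy)
    (hm' : (m', v') ∈ h.S hy) : (m + m', v + v') ∈ h.S hy := (h.S hy).add_mem hm hm'

theorem Hy.S_sub (h : Hy H P) {y : P} (hy : Fx H y) {m m' : P} {v v' : NN F} (hm : (m, v) ∈ h.S hy)
    (hm' : (m', v') ∈ h.S hy) : (m - m', v - v') ∈ h.S hy := (h.S hy).sub_mem hm hm'

theorem Hy.S_neg (h : Hy H P) {y : P} (hy : Fx H y) {m : P} {v : NN F} (hm : (m, v) ∈ h.S hy) :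
    (-m, -v) ∈ h.S hy := (h.S hy).neg_mem hm

theorem Hy.S_zero (h : Hy H P) {y : P} (hy : Fx H y) : ((0 : P), (0 : NN F)) ∈ h.S hy := (h.S hy).zero_mem

theorem Hy.S_snd (h : Hy H P) {y : P} (hy : Fx H y) (v : NN F) : ∃ m, (m, v) ∈ h.S hy := by
  let X : AddSubgroup (Fin 4 → F) :=
    { carrier := {v | ∃ m, (m, (v : NN F)) ∈ h.S hy}
      zero_mem' := ⟨0, h.S_zero hy⟩
      add_mem' := by
        rintro _ _ ⟨m, hm⟩ ⟨m', hm'⟩
        exact ⟨_, h.S_add hy hm hm'⟩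
      neg_mem' := by
        rintro _ ⟨m, hm⟩
        exact ⟨_, h.S_neg hy hm⟩ }
  have h1 : X = ⊤ := by
    refine span_lines H X fun A hA c => ?_
    exact ⟨_, h.S_smul hy ⟨A, hA⟩ (h.S_sc hy c)⟩
  have h2 : (v : Fin 4 → F) ∈ X := by rw [h1]; exact AddSubgroup.mem_top _
  exact h2

theorem Hy.S_fst (h : Hy H P) {y : P} (hy : Fx H y) (hy0 : y ≠ 0) (m : P) : ∃ v, (m, v) ∈ h.S hy := by
  let X : AddSubgroup P :=
    { carrier := {m | ∃ v, (m, v) ∈ h.S hy}
      zero_mem' := ⟨0, h.S_zero hy⟩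
      add_mem' := by
        rintro _ _ ⟨m, hm⟩ ⟨m', hm'⟩
        exact ⟨_, h.S_add hy hm hm'⟩
      neg_mem' := by
        rintro _ ⟨m, hm⟩
        exact ⟨_, h.S_neg hy hm⟩ }
  have h1 : X = ⊤ := by
    refine (h.irr X ?_).resolve_left ?_
    · rintro g x ⟨v, hv⟩
      exact ⟨_, h.S_smul hy g hv⟩
    · intro h2
      have h3 : sc H y ((1 : Fˣ) : F) ∈ X := ⟨_, h.S_sc hy _⟩
      rw [h2, sc_unit, H.d_one, one_smul] at h3
      exact hy0 h3
  have h2 : m ∈ X := by rw [h1]; exact AddSubgroup.mem_top _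
  exact h2

theorem Hy.exists_notMem (h : Hy H P) {y : P} (hy : Fx H y) : ∃ m : P, (m, (0 : NN F)) ∉ h.S hy := by
  obtain ⟨f, hf0, hf⟩ := h.exists_f
  obtain ⟨m, hm⟩ : ∃ m, f m ≠ 0 := by
    by_contra hcon
    push Not at hcon
    exact hf0 (AddMonoidHom.ext hcon)
  refine ⟨m, fun hmem => hm ?_⟩
  -- the functional
  have key : ∀ x : P × NN F, x ∈ h.S hy → f x.1 = f (H.w • sc H y ((x.2 : Fin 4 → F) 3)) := by
    intro x hx
    refine clos_ind (fun x : P × NN F => f x.1 = f (H.w • sc H y ((x.2 : Fin 4 → F) 3))) ?_ ?_ ?_ ?_ hx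
    · show f 0 = f (H.w • sc H y 0)
      rw [sc_zero, smul_zero]
    · intro x z hx hz
      show f (x.1 + z.1) = f (H.w • sc H y ((x.2 : Fin 4 → F) 3 + (z.2 : Fin 4 → F) 3))
      rw [h.sc_add hy, smul_add, map_add, map_add, hx, hz]
    · intro x hx
      show f (-x.1) = f (H.w • sc H y (-(x.2 : Fin 4 → F) 3))
      rw [h.sc_neg hy, smul_neg, map_neg, map_neg, hx]
    · rintro _ ⟨a, b, _, ⟨c, rfl⟩, rfl⟩
      have h1 : mv (H.U a b) (mv (W F) (Pi.single 0 c)) 3 = c := by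
        rw [mv_U, mv_W]
        simp
      show f (H.u a b • H.w • sc H y c) = f (H.w • sc H y (mv (H.U a b) (mv (W F) (Pi.single 0 c)) 3))
      rw [h1, hf]
  have h2 := key _ hmem
  have h3 : f m = f (H.w • sc H y 0) := h2
  rw [h3, sc_zero, smul_zero, map_zero]

theorem Hy.J1 (h : Hy H P) {y : P} (hy : Fx H y) {m : P} (hm : (m, (0 : NN F)) ∈ h.S hy) : m = 0 := by
  let X : AddSubgroup P :=
    { carrier := {m | (m, (0 : NN F)) ∈ h.S hy}
      zero_mem' := h.S_zero hy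
      add_mem' := by
        intro m m' hm hm'
        have h1 := h.S_add hy hm hm'
        rwa [add_zero] at h1
      neg_mem' := by
        intro m hm
        have h1 := h.S_neg hy hm
        rwa [neg_zero] at h1 }
  rcases h.irr X (fun g x hx => by
    have h1 := h.S_smul hy g hx
    rw [smul_zero] at h1
    exact h1) with h1 | h1
  · have h2 : m ∈ X := hm
    rw [h1] at h2
    exact h2
  · exfalso
    obtain ⟨m', hm'⟩ := h.exists_notMem hy
    apply hm'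
    have h2 : m' ∈ X := by rw [h1]; exact AddSubgroup.mem_top _
    exact h2

theorem Hy.J2 (h : Hy H P) {y : P} (hy : Fx H y) (hy0 : y ≠ 0) {v : NN F} (hv : ((0 : P), v) ∈ h.S hy) : v = 0 := by
  -- the line `F e₀`
  have h0 : ∀ c : F, ((0 : P), NN.s c) ∈ h.S hy → c = 0 := by
    intro c hc
    by_contra hc0
    have h1 := h.S_sub hy (h.S_sc hy c) hc
    rw [sub_zero, sub_self] at h1
    have h2 := h.J1 hy h1
    have h3 := sc_unit (H := H) y (Units.mk0 c hc0)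
    rw [Units.val_mk0, h2] at h3
    apply hy0
    have h4 : (H.d (Units.mk0 c hc0))⁻¹ • H.d (Units.mk0 c hc0) • y = y := by
      rw [← mul_smul, inv_mul_cancel, one_smul]
    rw [← h4, ← h3, smul_zero]
  have hact : ∀ (A : LS F e) (v : Fin 4 → F), ((0 : P), (v : NN F)) ∈ h.S hy →
      ((0 : P), ((mv A.1 v - v : Fin 4 → F) : NN F)) ∈ h.S hy := by
    intro A v hv
    have h1 := h.S_sub hy (h.S_smul hy A hv) hv
    rw [smul_zero, sub_zero] at h1
    exact h1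
  have h1 : ∀ v : Fin 4 → F, ((0 : P), (v : NN F)) ∈ h.S hy → v 2 = 0 → v 3 = 0 → v = 0 := by
    intro v hv h2 h3
    have h4 := hact (H.u 1 0) v hv
    have h5 : (mv (H.u 1 0).1 v - v : Fin 4 → F) = NN.s (v 1) := by
      show mv (H.U 1 0) v - v = Pi.single 0 (v 1)
      rw [mv_U]
      apply ext4 <;> simp [h2, h3]
    rw [h5] at h4
    have h6 := h0 _ h4
    have h7 : (v : NN F) = NN.s (v 0) := by
      show v = Pi.single 0 (v 0)
      apply ext4 <;> simp [h2, h3, h6]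
    rw [h7] at hv
    have h8 := h0 _ hv
    apply ext4
    · exact h8
    · exact h6
    · exact h2
    · exact h3
  have h2 : ∀ v : Fin 4 → F, ((0 : P), (v : NN F)) ∈ h.S hy → v = 0 := by
    intro v hv
    have h4 := hact (H.u 0 1) v hv
    have h5 := h1 _ h4 (by
      show mv (H.U 0 1) v 2 - v 2 = 0
      rw [mv_U]; simp) (by
      show mv (H.U 0 1) v 3 - v 3 = 0
      rw [mv_U]; simp)
    have h6 : v 3 = 0 := by
      have h7 := congrFun h5 1
      have h8 : mv (H.U 0 1) v 1 - v 1 = 0 := h7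
      rw [mv_U] at h8
      simpa using h8
    have h9 : v 2 = 0 := by
      have h7 := congrFun h5 0
      have h8 : mv (H.U 0 1) v 0 - v 0 = 0 := h7
      rw [mv_U] at h8
      simpa [h6] using h8
    exact h1 v hv h9 h6
  exact h2 v hv

/-- **quadratic modules of `Sz(q)` are natural** -/
theorem Hy.exists_nat (h : Hy H P) : ∃ f : P → (Fin 4 → F), Function.Bijective f ∧
    (∀ x y, f (x + y) = f x + f y) ∧ ∀ (g : LS F e) (m : P), f (g • m) = mv g.1 (f m) := by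
  obtain ⟨y, hy0, hy⟩ := h.exists_y
  choose f hf using h.S_fst hy hy0
  have huniq : ∀ {m : P} {v w : NN F}, (m, v) ∈ h.S hy → (m, w) ∈ h.S hy → v = w := by
    intro m v w hv hw
    have h1 := h.S_sub hy hv hw
    rw [sub_self] at h1
    exact sub_eq_zero.1 (h.J2 hy hy0 h1)
  refine ⟨f, ⟨?_, ?_⟩, ?_, ?_⟩
  · intro x z hxz
    have h1 := h.S_sub hy (hf x) (hf z)
    have hxz' : f x - f z = 0 := sub_eq_zero.2 hxz
    rw [hxz'] at h1
    exact sub_eq_zero.1 (h.J1 hy h1)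
  · intro v
    obtain ⟨m, hm⟩ := h.S_snd hy v
    exact ⟨m, huniq (hf m) hm⟩
  · intro x z
    exact huniq (hf (x + z)) (h.S_add hy (hf x) (hf z))
  · intro g m
    exact huniq (hf (g • m)) (h.S_smul hy g (hf m))

end irr

end Cfsg.Agent.Omega.TwoFFour

end

section


/-!
# Quadratic modules of `Sz(q)`: sections of groups

* `SzAct H L W Z ψ` : `L` acts on the elementary abelian `W / Z` through `ψ : L → Sz(q)` (onto), and the centre
  `{U 0 b}` of a Sylow subgroup acts quadratically;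
* `SzAct.exists_szMod` : if the action is irreducible and nontrivial then `W / Z` is natural (`SzMod H C W Z` for every
  `C` which normalises `L`, `W`, `Z`);
* `SzAct.irr_of`, `SzAct.irr_of_card` : irreducibility from `|W/Z : C(A)| < q⁴`.
-/

set_option autoImplicit false
set_option linter.unusedSectionVars false

namespace Cfsg.Agent.Omega.TwoFFour

open Matrix Subgroup
open Cfsg.Agent.LieRecognition.SzMatrix Cfsg.Agent.ThreePrime.SzRel

section perf

variable {F : Type*} [Field F] {θ : F →+* F} {e : ℕ} (H : Good F θ e)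

include H in
/-- `Sz(q)` is perfect -/
theorem sz_perf [Finite F] (h3 : 3 ≤ Nat.card F) (N : Subgroup (LS F e)) (hN : ∀ g h, g * h * g⁻¹ * h⁻¹ ∈ N) :
    N = ⊤ := by
  have hconj : ∀ g, ∀ n ∈ N, g * n * g⁻¹ ∈ N := by
    intro g n hn
    have := mul_mem (hN g n) hn
    rwa [inv_mul_cancel_right] at this
  obtain ⟨k, hk0, hk1⟩ := exists_ne_ne h3
  have hθ1 : θ k + 1 ≠ 0 := by
    intro h
    apply hk1
    apply θ.injective
    rw [map_one]
    linear_combination h - H.add_self (1 : F)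
  have hθ0 : θ k ≠ 0 := (map_ne_zero θ).2 hk0
  have hk2 : k ^ 2 * (θ k)⁻¹ + 1 ≠ 0 := by
    intro h
    have h1 : k ^ 2 = θ k := by
      have h2 : k ^ 2 * (θ k)⁻¹ = 1 := by linear_combination h - H.add_self (1 : F)
      field_simp at h2
      exact h2
    have h2 : (θ k) ^ 2 = k ^ 2 := by
      rw [← map_pow, h1, H.sq, h1]
    have h3 : (θ k - k) ^ 2 = 0 := by
      have := H.two
      linear_combination h2 + (k ^ 2 - θ k * k) * this
    have h4 : θ k = k := sub_eq_zero.1 (pow_eq_zero_iff two_ne_zero |>.1 h3)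
    apply hk1
    rw [h4] at h1
    have h5 : k * (k - 1) = 0 := by linear_combination h1
    exact sub_eq_zero.1 ((mul_eq_zero.1 h5).resolve_left hk0)
  have hu0 : ∀ b, H.u 0 b ∈ N := by
    intro b
    have h1 := hN (H.d (Units.mk0 k hk0)) (H.u 0 (b * (θ k + 1)⁻¹))
    have e1 : H.d (Units.mk0 k hk0) * H.u 0 (b * (θ k + 1)⁻¹) * (H.d (Units.mk0 k hk0))⁻¹ *
        (H.u 0 (b * (θ k + 1)⁻¹))⁻¹ = H.u 0 b := by
      rw [H.d_mul_u, mul_inv_cancel_right, mul_inv_eq_iff_eq_mul, H.u_mul, Units.val_mk0]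
      congr 1
      · simp
      · have h2 := H.two
        have h5 : b * (θ k + 1)⁻¹ * (θ k + 1) = b := inv_mul_cancel_right₀ hθ1 b
        rw [zero_mul, add_zero]
        linear_combination h5 - b * (θ k + 1)⁻¹ * h2
    rwa [e1] at h1
  have hu : ∀ a b, H.u a b ∈ N := by
    intro a b
    set a₀ := a * (k ^ 2 * (θ k)⁻¹ + 1)⁻¹ with ha₀
    have h1 := hN (H.d (Units.mk0 k hk0)) (H.u a₀ 0)
    obtain ⟨c, hc⟩ : ∃ c, H.d (Units.mk0 k hk0) * H.u a₀ 0 * (H.d (Units.mk0 k hk0))⁻¹ *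
        (H.u a₀ 0)⁻¹ = H.u a c := by
      refine ⟨a * θ a₀, ?_⟩
      rw [H.d_mul_u, mul_inv_cancel_right, mul_inv_eq_iff_eq_mul, H.u_mul, Units.val_mk0]
      have h5 : a₀ * (k ^ 2 * (θ k)⁻¹ + 1) = a := by rw [ha₀]; exact inv_mul_cancel_right₀ hk2 a
      have h2 := H.two
      congr 1
      · linear_combination h5 - a₀ * h2
      · rw [zero_mul, add_zero]
        linear_combination -(a * θ a₀) * h2
    rw [hc] at h1
    have h2 := mul_mem h1 (hu0 (b + c))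
    rw [H.u_mul] at h2
    have e1 : c + (b + c) + a * θ 0 = b := by
      rw [map_zero, mul_zero, add_zero]
      linear_combination H.add_self c
    rwa [add_zero, e1] at h2
  have hd : ∀ k, H.d k ∈ N := by
    intro k
    obtain ⟨t, ht⟩ : ∃ t : Fˣ, t * t = k := by
      have hinj : Function.Injective (fun t : Fˣ => t * t) := by
        intro x y hxy
        have h1 : (x : F) * x = y * y := congrArg Units.val hxy
        have h2 : ((x : F) - y) ^ 2 = 0 := by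
          have := H.two
          linear_combination h1 + ((y : F) ^ 2 - x * y) * this
        exact Units.ext (sub_eq_zero.1 (pow_eq_zero_iff two_ne_zero |>.1 h2))
      exact Finite.surjective_of_injective hinj k
    have h1 := hN H.w (H.d t⁻¹)
    have e1 : H.w * H.d t⁻¹ * H.w⁻¹ * (H.d t⁻¹)⁻¹ = H.d k := by
      rw [H.w_mul_d, mul_inv_cancel_right, mul_inv_eq_iff_eq_mul, H.d_mul, inv_inv]
      congr 1
      rw [← ht, mul_inv_cancel_right]
    rwa [e1] at h1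
  have hw : H.w ∈ N := by
    obtain ⟨a₁, b₁, a₂, b₂, k, -, h⟩ := wuw H (one_ne_zero (α := F))
    have h1 := hconj H.w _ (hu0 1)
    rw [H.w_inv, h] at h1
    have h2 := mul_mem (mul_mem (inv_mem (hu a₁ b₁)) h1) (inv_mem (mul_mem (hu a₂ b₂) (hd k)))
    have e1 : (H.u a₁ b₁)⁻¹ * (H.u a₁ b₁ * H.w * (H.u a₂ b₂ * H.d k)) * (H.u a₂ b₂ * H.d k)⁻¹ = H.w := by group
    rwa [e1] at h2
  rw [Subgroup.eq_top_iff']
  intro g
  rcases (ofGood H).bruhat g with ⟨a, b, k, h⟩ | ⟨a, b, c, d, k, h⟩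
  · rw [h]
    exact mul_mem (hu _ _) (hd _)
  · rw [h]
    exact mul_mem (mul_mem (hu _ _) hw) (mul_mem (hu _ _) (hd _))

end perf

universe u

variable {G : Type u} [Group G] {F : Type*} [Field F] {θ : F →+* F} {e : ℕ}

/-- `L` acts on the elementary abelian section `W / Z` through `ψ : L → Sz(q)`; `{U 0 b}` is quadratic -/
structure SzAct (H : Good F θ e) (L W Z : Subgroup G) (ψ : L →* LS F e) : Prop where
  Z_le : Z ≤ W
  conjW : ∀ {g x : G}, g ∈ L → x ∈ W → g * x * g⁻¹ ∈ W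
  conjZ : ∀ {g x : G}, g ∈ L → x ∈ Z → g * x * g⁻¹ ∈ Z
  nZ : ∀ {x z : G}, x ∈ W → z ∈ Z → x * z * x⁻¹ ∈ Z
  sq : ∀ x ∈ W, x * x ∈ Z
  surj : Function.Surjective ψ
  ker : ∀ g : L, ψ g = 1 → ∀ x ∈ W, (g : G) * x * (g : G)⁻¹ * x⁻¹ ∈ Z
  quad : ∀ (b c : F) (g g' : L), ψ g = H.u 0 b → ψ g' = H.u 0 c → ∀ x ∈ W,
    (g : G) * ((g' : G) * x * (g' : G)⁻¹ * x⁻¹) * (g : G)⁻¹ * ((g' : G) * x * (g' : G)⁻¹ * x⁻¹)⁻¹ ∈ Z

namespace SzAct

variable {H : Good F θ e} {L W Z : Subgroup G} {ψ : L →* LS F e}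

/-- restriction to a section -/
theorem res (h : SzAct H L W Z ψ) {X Y : Subgroup G} (hZX : Z ≤ X) (hXY : X ≤ Y) (hYW : Y ≤ W)
    (hX : ∀ g ∈ L, ∀ x ∈ X, g * x * g⁻¹ ∈ X) (hY : ∀ g ∈ L, ∀ x ∈ Y, g * x * g⁻¹ ∈ Y) : SzAct H L Y X ψ where
  Z_le := hXY
  conjW hg hx := hY _ hg _ hx
  conjZ hg hx := hX _ hg _ hx
  nZ {x z} hx hz := by
    -- `W / Z` is abelian
    have h1 : x * z * x⁻¹ * z⁻¹ ∈ Z := by
      have e1 : x * z * x⁻¹ * z⁻¹ = (x * z) * (x * z) * ((x * z)⁻¹ * (x⁻¹ * x⁻¹) * (x * z)) *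
          ((z * (z⁻¹ * z⁻¹) * z⁻¹)) := by group
      have hxW := hYW hx
      have hzW := hYW (hXY hz)
      rw [e1]
      refine mul_mem (mul_mem (h.sq _ (mul_mem hxW hzW)) ?_) ?_
      · have := h.nZ (inv_mem (mul_mem hxW hzW)) (h.sq _ (inv_mem hxW))
        rwa [inv_inv] at this
      · exact h.nZ hzW (h.sq _ (inv_mem hzW))
    have := mul_mem (hZX h1) hz
    rwa [inv_mul_cancel_right] at this
  sq x hx := hZX (h.sq x (hYW hx))
  surj := h.surj
  ker g hg x hx := hZX (h.ker g hg x (hYW hx))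
  quad b c g g' hg hg' x hx := hZX (h.quad b c g g' hg hg' x (hYW hx))

/-- `W / Z` is abelian -/
theorem comm (h : SzAct H L W Z ψ) {x y : G} (hx : x ∈ W) (hy : y ∈ W) : x * y * x⁻¹ * y⁻¹ ∈ Z := by
  have e1 : x * y * x⁻¹ * y⁻¹ = (x * y) * (x * y) * ((x * y)⁻¹ * (x⁻¹ * x⁻¹) * (x * y)) *
      ((y * (y⁻¹ * y⁻¹) * y⁻¹)) := by group
  rw [e1]
  refine mul_mem (mul_mem (h.sq _ (mul_mem hx hy)) ?_) ?_
  · have := h.nZ (inv_mem (mul_mem hx hy)) (h.sq _ (inv_mem hx))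
    rwa [inv_inv] at this
  · exact h.nZ hy (h.sq _ (inv_mem hy))

/-- **the module** -/
theorem exists_mod (h : SzAct H L W Z ψ) : ∃ (P : Type u) (_ : AddCommGroup P) (_ : DistribMulAction (LS F e) P)
    (π : G → P), (∀ x ∈ W, ∀ y ∈ W, π (x * y) = π x + π y) ∧ (∀ p, ∃ x ∈ W, π x = p) ∧
      (∀ x ∈ W, π x = 0 ↔ x ∈ Z) ∧ ∀ (l : L), ∀ x ∈ W, ψ l • π x = π (l * x * (l : G)⁻¹) := by
  classical
  have hN : (Z.subgroupOf W).Normal := by
    refine ⟨fun n hn g => ?_⟩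
    rw [mem_subgroupOf] at hn ⊢
    exact h.nZ g.2 hn
  let : CommGroup (W ⧸ Z.subgroupOf W) :=
    { (inferInstance : Group (W ⧸ Z.subgroupOf W)) with
      mul_comm := by
        intro a b
        obtain ⟨x, rfl⟩ := QuotientGroup.mk_surjective a
        obtain ⟨y, rfl⟩ := QuotientGroup.mk_surjective b
        show ((x * y : W) : W ⧸ Z.subgroupOf W) = ((y * x : W) : W ⧸ Z.subgroupOf W)
        rw [QuotientGroup.eq, mem_subgroupOf]
        have h1 := h.comm (inv_mem y.2) (inv_mem x.2)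
        have e1 : (((x * y)⁻¹ * (y * x) : W) : G) = (y : G)⁻¹ * (x : G)⁻¹ * (y : G)⁻¹⁻¹ * (x : G)⁻¹⁻¹ := by
          push_cast
          group
        rw [e1]
        exact h1 }
  -- conjugation
  let cw (l : L) : W →* W :=
    { toFun := fun x => ⟨l * x * (l : G)⁻¹, h.conjW l.2 x.2⟩
      map_one' := Subtype.ext (by simp)
      map_mul' := fun x y => Subtype.ext (by
        show (l : G) * (x * y) * (l : G)⁻¹ = l * x * (l : G)⁻¹ * (l * y * (l : G)⁻¹)
        group) }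
  let cq (l : L) : (W ⧸ Z.subgroupOf W) →* (W ⧸ Z.subgroupOf W) :=
    QuotientGroup.map _ _ (cw l) (by
      intro x hx
      rw [mem_subgroupOf] at hx
      show cw l x ∈ Z.subgroupOf W
      rw [mem_subgroupOf]
      exact h.conjZ l.2 hx)
  have hcq : ∀ (l : L) (x : W), cq l (x : W ⧸ Z.subgroupOf W) = ((cw l x : W) : W ⧸ Z.subgroupOf W) :=
    fun l x => rfl
  -- independence
  have hind : ∀ l l' : L, ψ l = ψ l' → cq l = cq l' := by
    intro l l' hl
    refine MonoidHom.ext fun a => ?_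
    obtain ⟨x, rfl⟩ := QuotientGroup.mk_surjective a
    have h0 : cq l (x : W ⧸ Z.subgroupOf W) = cq l' (x : W ⧸ Z.subgroupOf W) := by
      rw [hcq, hcq, eq_comm, QuotientGroup.eq, mem_subgroupOf]
      have h1 : ψ (l'⁻¹ * l) = 1 := by rw [map_mul, map_inv, hl, inv_mul_cancel]
      have h2 := h.conjZ l'.2 (h.ker _ h1 x x.2)
      have h4 := h.nZ (inv_mem (h.conjW l'.2 x.2)) h2
      have e1 : (((cw l' x)⁻¹ * cw l x : W) : G) = ((l' : G) * (x : G) * (l' : G)⁻¹)⁻¹ *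
          ((l' : G) * (((l'⁻¹ * l : L) : G) * x * ((l'⁻¹ * l : L) : G)⁻¹ * (x : G)⁻¹) * (l' : G)⁻¹) *
          ((l' : G) * (x : G) * (l' : G)⁻¹)⁻¹⁻¹ := by
        show ((l' : G) * (x : G) * (l' : G)⁻¹)⁻¹ * ((l : G) * (x : G) * (l : G)⁻¹) = _
        push_cast
        group
      rw [e1]
      exact h4
    exact h0
  choose s hs using h.surj
  let act (A : LS F e) (p : Additive (W ⧸ Z.subgroupOf W)) : Additive (W ⧸ Z.subgroupOf W) :=
    Additive.ofMul (cq (s A) p.toMul)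
  have hact : ∀ (l : L) (x : W), act (ψ l) (Additive.ofMul (x : W ⧸ Z.subgroupOf W)) =
      Additive.ofMul ((cw l x : W) : W ⧸ Z.subgroupOf W) := by
    intro l x
    show Additive.ofMul (cq (s (ψ l)) (x : W ⧸ Z.subgroupOf W)) = _
    rw [hind _ l (hs _), hcq]
  let : DistribMulAction (LS F e) (Additive (W ⧸ Z.subgroupOf W)) :=
    { smul := act
      one_smul := by
        intro p
        obtain ⟨x, hx⟩ := QuotientGroup.mk_surjective p.toMul
        have hp : p = Additive.ofMul (x : W ⧸ Z.subgroupOf W) := congrArg Additive.ofMul hx.symm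
        show act 1 p = p
        rw [hp, ← map_one ψ, hact]
        congr 2
        exact Subtype.ext (by show (1 : G) * x * (1 : G)⁻¹ = x; group)
      mul_smul := by
        intro A B p
        obtain ⟨x, hx⟩ := QuotientGroup.mk_surjective p.toMul
        have hp : p = Additive.ofMul (x : W ⧸ Z.subgroupOf W) := congrArg Additive.ofMul hx.symm
        show act (A * B) p = act A (act B p)
        rw [hp, ← hs A, ← hs B, ← map_mul, hact, hact, hact]
        congr 2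
        exact Subtype.ext (by
          show ((s A * s B : L) : G) * x * ((s A * s B : L) : G)⁻¹ = s A * (s B * x * (s B : G)⁻¹) * (s A : G)⁻¹
          push_cast
          group)
      smul_zero := by
        intro A
        show Additive.ofMul (cq (s A) 1) = Additive.ofMul 1
        rw [map_one]
      smul_add := by
        intro A p q
        show Additive.ofMul (cq (s A) (p.toMul * q.toMul)) = Additive.ofMul (cq (s A) p.toMul * cq (s A) q.toMul)
        rw [map_mul] }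
  let π : G → Additive (W ⧸ Z.subgroupOf W) := fun x =>
    if hx : x ∈ W then Additive.ofMul ((⟨x, hx⟩ : W) : W ⧸ Z.subgroupOf W) else 0
  have hπ : ∀ x : W, π x = Additive.ofMul (x : W ⧸ Z.subgroupOf W) := fun x => dif_pos x.2
  refine ⟨Additive (W ⧸ Z.subgroupOf W), inferInstance, inferInstance, π, ?_, ?_, ?_, ?_⟩
  · intro x hx y hy
    have h1 := hπ ⟨x, hx⟩
    have h2 := hπ ⟨y, hy⟩
    have h4 := hπ ⟨x * y, mul_mem hx hy⟩
    simp only at h1 h2 h4
    rw [h1, h2, h4]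
    rfl
  · intro p
    obtain ⟨x, hx⟩ := QuotientGroup.mk_surjective p.toMul
    exact ⟨x, x.2, (hπ x).trans (congrArg Additive.ofMul hx)⟩
  · intro x hx
    have h1 := hπ ⟨x, hx⟩
    simp only at h1
    rw [h1]
    have h2 : Additive.ofMul (((⟨x, hx⟩ : W) : W ⧸ Z.subgroupOf W)) = 0 ↔ ((⟨x, hx⟩ : W) : W ⧸ Z.subgroupOf W) = 1 :=
      Iff.rfl
    rw [h2, QuotientGroup.eq_one_iff, mem_subgroupOf]
  · intro l x hx
    have h1 := hπ ⟨x, hx⟩
    have h2 := hπ ⟨l * x * (l : G)⁻¹, h.conjW l.2 hx⟩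
    simp only at h1 h2
    rw [h1, h2]
    exact hact l ⟨x, hx⟩

end SzAct

end Cfsg.Agent.Omega.TwoFFour

end

section


/-!
# Quadratic sections of `Sz(q)` are natural

* `SzAct.exists_f`, `SzAct.exists_szMod` : irreducible and nontrivial sections are natural;
* `SzAct.two` : two natural sections cost `q⁴` of the index of the centraliser of `{U 0 b}`;
* `SzAct.irr_of` : irreducibility from `|W/Z : C(A)| < q⁴`, `C_{W/Z}(L) = 1` and `W/Z = [W/Z, L]`;
* `SzAct.irr_of_card` : irreducibility from `|W/Z| < q⁸`... in the form `|W/Z| ≤ q⁴`.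
-/

set_option autoImplicit false
set_option linter.unusedSectionVars false

namespace Cfsg.Agent.Omega.TwoFFour

open Matrix Subgroup
open Cfsg.Agent.LieRecognition.SzMatrix Cfsg.Agent.ThreePrime.SzRel

universe u

variable {G : Type u} [Group G] {F : Type*} [Field F] {θ : F →+* F} {e : ℕ}

/-- `L` is irreducible on `W / Z` -/
def IrrS (L W Z : Subgroup G) : Prop :=
  ∀ X : Subgroup G, Z ≤ X → X ≤ W → (∀ g ∈ L, ∀ x ∈ X, g * x * g⁻¹ ∈ X) → X = Z ∨ X = W

/-- `L` is trivial on `W / Z` -/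
def TrivS (L W Z : Subgroup G) : Prop := ∀ g ∈ L, ∀ x ∈ W, g * x * g⁻¹ * x⁻¹ ∈ Z

namespace SzAct

variable {H : Good F θ e} {L W Z : Subgroup G} {ψ : L →* LS F e}

/-- **irreducible nontrivial quadratic sections of `Sz(q)` are natural** -/
theorem exists_f [Finite G] [Finite F] (h3 : 3 ≤ Nat.card F) (h : SzAct H L W Z ψ) (hirr : IrrS L W Z)
    (hnt : ¬ TrivS L W Z) : ∃ f : G → (Fin 4 → F), (∀ x ∈ W, ∀ y ∈ W, f (x * y) = f x + f y) ∧
      (∀ v, ∃ x ∈ W, f x = v) ∧ (∀ x ∈ W, f x = 0 ↔ x ∈ Z) ∧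
      ∀ l : L, ∀ x ∈ W, f (l * x * (l : G)⁻¹) = mv (ψ l).1 (f x) := by
  obtain ⟨P, _, _, π, hmul, hsurj, hker, hact⟩ := h.exists_mod
  have hone : π 1 = 0 := (hker 1 (one_mem _)).2 (one_mem _)
  have hinv : ∀ x ∈ W, π x⁻¹ = -π x := by
    intro x hx
    have h1 := hmul _ (inv_mem hx) _ hx
    rw [inv_mul_cancel, hone] at h1
    exact eq_neg_of_add_eq_zero_left h1.symm
  have hsub : ∀ x ∈ W, ∀ y ∈ W, π (x * y⁻¹) = π x - π y := by
    intro x hx y hy
    rw [hmul _ hx _ (inv_mem hy), hinv y hy, sub_eq_add_neg]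
  have hfin : Finite P := by
    refine Finite.of_surjective (fun x : W => π x) fun p => ?_
    obtain ⟨x, hx, hxp⟩ := hsurj p
    exact ⟨⟨x, hx⟩, hxp⟩
  have hHy : Hy H P := by
    refine ⟨h3, ?_, ?_, ?_, ?_⟩
    · intro p
      obtain ⟨x, hx, rfl⟩ := hsurj p
      rw [← hmul x hx x hx, hker _ (mul_mem hx hx)]
      exact h.sq x hx
    · intro b c p
      obtain ⟨x, hx, rfl⟩ := hsurj p
      obtain ⟨g, hg⟩ := h.surj (H.u 0 b)
      obtain ⟨g', hg'⟩ := h.surj (H.u 0 c)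
      have hy : (g' : G) * x * (g' : G)⁻¹ ∈ W := h.conjW g'.2 hx
      rw [← hg, ← hg', hact g' x hx, ← hsub _ hy x hx, hact g _ (mul_mem hy (inv_mem hx)), ← sub_eq_zero,
        ← hsub _ (h.conjW g.2 (mul_mem hy (inv_mem hx))) _ (mul_mem hy (inv_mem hx)),
        hker _ (mul_mem (h.conjW g.2 (mul_mem hy (inv_mem hx))) (inv_mem (mul_mem hy (inv_mem hx))))]
      exact h.quad b c g g' hg hg' x hx
    · intro X hX
      let X' : Subgroup G :=
        { carrier := {x | x ∈ W ∧ π x ∈ X}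
          one_mem' := ⟨one_mem _, by rw [hone]; exact X.zero_mem⟩
          mul_mem' := by
            rintro x y ⟨hx, hx'⟩ ⟨hy, hy'⟩
            exact ⟨mul_mem hx hy, by rw [hmul x hx y hy]; exact X.add_mem hx' hy'⟩
          inv_mem' := by
            rintro x ⟨hx, hx'⟩
            exact ⟨inv_mem hx, by rw [hinv x hx]; exact X.neg_mem hx'⟩ }
      have hX' : ∀ x, x ∈ X' ↔ x ∈ W ∧ π x ∈ X := fun x => Iff.rfl
      rcases hirr X' (fun x hx => (hX' x).2 ⟨h.Z_le hx, by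
          rw [(hker x (h.Z_le hx)).2 hx]; exact X.zero_mem⟩) (fun x hx => ((hX' x).1 hx).1) (by
          intro g hg x hx
          obtain ⟨h1, h2⟩ := (hX' x).1 hx
          refine (hX' _).2 ⟨h.conjW hg h1, ?_⟩
          have h4 := hact ⟨g, hg⟩ x h1
          have h5 := hX (ψ ⟨g, hg⟩) _ h2
          rw [h4] at h5
          exact h5) with h1 | h1
      · left
        rw [eq_bot_iff]
        intro p hp
        obtain ⟨x, hx, rfl⟩ := hsurj p
        have h2 : x ∈ X' := (hX' x).2 ⟨hx, hp⟩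
        rw [h1] at h2
        exact AddSubgroup.mem_bot.2 ((hker x hx).2 h2)
      · right
        rw [AddSubgroup.eq_top_iff']
        intro p
        obtain ⟨x, hx, rfl⟩ := hsurj p
        have h2 : x ∈ X' := by rw [h1]; exact hx
        exact ((hX' x).1 h2).2
    · by_contra hcon
      push Not at hcon
      apply hnt
      intro g hg x hx
      have h1 := hact ⟨g, hg⟩ x hx
      rw [hcon] at h1
      have h2 : π (g * x * g⁻¹ * x⁻¹) = 0 := by
        rw [hsub _ (h.conjW hg hx) x hx]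
        exact sub_eq_zero.2 h1.symm
      exact (hker _ (mul_mem (h.conjW hg hx) (inv_mem hx))).1 h2
  obtain ⟨φ, hbij, hadd, hφ⟩ := hHy.exists_nat
  refine ⟨fun x => φ (π x), ?_, ?_, ?_, ?_⟩
  · intro x hx y hy
    show φ (π (x * y)) = φ (π x) + φ (π y)
    rw [hmul x hx y hy, hadd]
  · intro v
    obtain ⟨p, hp⟩ := hbij.2 v
    obtain ⟨x, hx, rfl⟩ := hsurj p
    exact ⟨x, hx, hp⟩
  · intro x hx
    have h0 : φ 0 = 0 := by
      have := hadd 0 0
      rw [add_zero] at this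
      exact left_eq_add.1 this
    rw [← hker x hx, ← h0]
    exact hbij.1.eq_iff
  · intro l x hx
    show φ (π (l * x * (l : G)⁻¹)) = mv (ψ l).1 (φ (π x))
    rw [← hact l x hx, hφ]

/-- `SzMod` -/
theorem exists_szMod [Finite G] [Finite F] (h3 : 3 ≤ Nat.card F) (h : SzAct H L W Z ψ) (hirr : IrrS L W Z)
    (hnt : ¬ TrivS L W Z) {C : Subgroup G} (hLC : L ≤ C) (hCL : ∀ g ∈ C, ∀ l ∈ L, g * l * g⁻¹ ∈ L)
    (hCW : ∀ g ∈ C, ∀ x ∈ W, g * x * g⁻¹ ∈ W) (hCZ : ∀ g ∈ C, ∀ x ∈ Z, g * x * g⁻¹ ∈ Z) :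
    ∃ M : SzMod H C W Z, ∀ l : L, ∀ x ∈ W, M.f (l * x * (l : G)⁻¹) = mv (ψ l).1 (M.f x) := by
  obtain ⟨f, hmul, hsurj, hker, hact⟩ := h.exists_f h3 hirr hnt
  have hinv : ∀ x ∈ W, f x⁻¹ = -f x := by
    intro x hx
    have h1 := hmul _ (inv_mem hx) _ hx
    rw [inv_mul_cancel, (hker 1 (one_mem _)).2 (one_mem _)] at h1
    exact eq_neg_of_add_eq_zero_left h1.symm
  have hfeq : ∀ x ∈ W, ∀ y ∈ W, f x = f y ↔ x⁻¹ * y ∈ Z := by
    intro x hx y hy
    rw [← hker _ (mul_mem (inv_mem hx) hy), hmul _ (inv_mem hx) _ hy, hinv x hx]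
    constructor
    · intro h1
      rw [h1, neg_add_cancel]
    · intro h1
      exact neg_add_eq_zero.1 h1
  refine ⟨{ f := f
            f_mul := fun hx hy => hmul _ hx _ hy
            f_surj := hsurj
            f_ker := fun hx => hker _ hx
            Z_le := h.Z_le
            conjW := fun hg hx => hCW _ hg _ hx
            conjZ := fun hg hx => hCZ _ hg _ hx
            lift := ?_
            norm := ?_ }, hact⟩
  · intro A hA
    obtain ⟨l, hl⟩ := h.surj ⟨A, hA⟩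
    refine ⟨l, hLC l.2, fun x hx => ?_⟩
    rw [hact l x hx, hl]
  · intro g hg k hk A hA hkA
    obtain ⟨l, hl⟩ := h.surj ⟨A, hA⟩
    refine ⟨_, (ψ ⟨g * l * g⁻¹, hCL g hg l l.2⟩).2, fun x hx => ?_⟩
    have h1 := hact ⟨g * l * g⁻¹, hCL g hg l l.2⟩ x hx
    rw [← h1]
    -- `g k g⁻¹` and `g l g⁻¹` act in the same way
    have hy : g⁻¹ * x * g ∈ W := by
      have := hCW g⁻¹ (inv_mem hg) x hx
      rwa [inv_inv] at this
    have h2 : f (k * (g⁻¹ * x * g) * k⁻¹) = f (l * (g⁻¹ * x * g) * (l : G)⁻¹) := by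
      rw [hkA _ hy, hact l _ hy, hl]
    have h4 := (hfeq _ (hCW k hk _ hy) _ (hCW l (hLC l.2) _ hy)).1 h2
    rw [hfeq _ (hCW _ (mul_mem (mul_mem hg hk) (inv_mem hg)) x hx) _ (h.conjW (hCL g hg l l.2) hx)]
    have h5 := hCZ g hg _ h4
    have e1 : (g * k * g⁻¹ * x * (g * k * g⁻¹)⁻¹)⁻¹ * (g * l * g⁻¹ * x * (g * l * g⁻¹)⁻¹) =
        g * ((k * (g⁻¹ * x * g) * k⁻¹)⁻¹ * (l * (g⁻¹ * x * g) * (l : G)⁻¹)) * g⁻¹ := by group
    rw [e1]
    exact h5

/-- trivial on two factors implies trivial -/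
theorem triv_trans [Finite F] (h3 : 3 ≤ Nat.card F) (h : SzAct H L W Z ψ) {X : Subgroup G} (hXW : X ≤ W)
    (h1 : TrivS L W X) (h2 : TrivS L X Z) : TrivS L W Z := by
  -- the elements acting trivially
  let K : Subgroup L :=
    { carrier := {l | ∀ x ∈ W, (l : G) * x * (l : G)⁻¹ * x⁻¹ ∈ Z}
      one_mem' := fun x _ => by
        have e1 : ((1 : L) : G) * x * ((1 : L) : G)⁻¹ * x⁻¹ = 1 := by push_cast; group
        rw [e1]
        exact one_mem _
      mul_mem' := by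
        intro a b ha hb x hx
        have e1 : ((a * b : L) : G) * x * ((a * b : L) : G)⁻¹ * x⁻¹ =
            a * (b * x * (b : G)⁻¹ * x⁻¹) * (a : G)⁻¹ * ((a : G) * x * (a : G)⁻¹ * x⁻¹) := by
          push_cast
          group
        rw [e1]
        exact mul_mem (h.conjZ a.2 (hb x hx)) (ha x hx)
      inv_mem' := by
        intro a ha x hx
        have h5 := h.conjW (inv_mem a.2) hx
        have h4 := ha _ h5
        have e1 : ((a⁻¹ : L) : G) * x * ((a⁻¹ : L) : G)⁻¹ * x⁻¹ =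
            x * (x⁻¹ * ((a : G) * ((a : G)⁻¹ * x * (a : G)⁻¹⁻¹) * (a : G)⁻¹ * ((a : G)⁻¹ * x * (a : G)⁻¹⁻¹)⁻¹)⁻¹ *
              x⁻¹⁻¹) * x⁻¹ := by
          push_cast
          group
        rw [e1]
        exact h.nZ hx (h.nZ (inv_mem hx) (inv_mem h4)) }
  have hK : ∀ l : L, l ∈ K ↔ ∀ x ∈ W, (l : G) * x * (l : G)⁻¹ * x⁻¹ ∈ Z := fun l => Iff.rfl
  have hcomm : ∀ a b : L, a * b * a⁻¹ * b⁻¹ ∈ K := by
    intro a b x hx
    set y := ((b : G) * a)⁻¹ * x * ((b : G) * a) with hy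
    have hyW : y ∈ W := by
      have := h.conjW (inv_mem (mul_mem b.2 a.2)) hx
      rwa [inv_inv] at this
    have hα := h1 a a.2 y hyW
    have hβ := h1 b b.2 y hyW
    set α := (a : G) * y * (a : G)⁻¹ * y⁻¹ with hαd
    set β := (b : G) * y * (b : G)⁻¹ * y⁻¹ with hβd
    have e1 : ((a * b * a⁻¹ * b⁻¹ : L) : G) * x * ((a * b * a⁻¹ * b⁻¹ : L) : G)⁻¹ * x⁻¹ =
        ((a : G) * β * (a : G)⁻¹ * β⁻¹) * ((β * α * β⁻¹ * α⁻¹) * (α * ((b : G) * α⁻¹ * (b : G)⁻¹ * α⁻¹⁻¹) * α⁻¹)) := by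
      rw [hαd, hβd, hy]
      push_cast
      group
    rw [e1]
    exact mul_mem (h2 a a.2 β hβ) (mul_mem (h.comm (hXW hβ) (hXW hα))
      (h.nZ (hXW hα) (h2 b b.2 _ (inv_mem hα))))
  have htop : K.map ψ = ⊤ := by
    refine sz_perf H h3 _ fun g k => ?_
    obtain ⟨a, rfl⟩ := h.surj g
    obtain ⟨b, rfl⟩ := h.surj k
    exact ⟨_, hcomm a b, by rw [map_mul, map_mul, map_mul, map_inv, map_inv]⟩
  intro g hg
  have h4 : ψ ⟨g, hg⟩ ∈ K.map ψ := by rw [htop]; exact mem_top _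
  obtain ⟨k, hk, hkg⟩ := h4
  have h5 : k⁻¹ * ⟨g, hg⟩ ∈ K := by
    refine (hK _).2 (h.ker _ ?_)
    rw [map_mul, map_inv, hkg, inv_mul_cancel]
  have h6 := mul_mem hk h5
  rw [mul_inv_cancel_left] at h6
  exact (hK _).1 h6

/-- the order of a natural section -/
theorem card_of_irr [Finite G] [Finite F] (h3 : 3 ≤ Nat.card F) (h : SzAct H L W Z ψ) (hirr : IrrS L W Z)
    (hnt : ¬ TrivS L W Z) : Z.relIndex W = Nat.card F ^ 4 := by
  obtain ⟨f, hmul, hsurj, hker, hact⟩ := h.exists_f h3 hirr hnt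
  let φ : W →* Multiplicative (Fin 4 → F) :=
    MonoidHom.mk' (fun x => Multiplicative.ofAdd (f x)) fun x y =>
      congrArg Multiplicative.ofAdd (hmul x x.2 y y.2)
  have hφ : ∀ x : W, φ x = Multiplicative.ofAdd (f x) := fun _ => rfl
  have hk : φ.ker = Z.subgroupOf W := by
    ext x
    rw [MonoidHom.mem_ker, mem_subgroupOf, ← hker x x.2]
    exact Iff.rfl
  have hr : φ.range = ⊤ := by
    rw [MonoidHom.range_eq_top]
    intro v
    obtain ⟨x, hx, hxv⟩ := hsurj v.toAdd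
    exact ⟨⟨x, hx⟩, congrArg Multiplicative.ofAdd hxv⟩
  have h1 := Subgroup.index_ker φ
  rw [hk, hr, Subgroup.card_top] at h1
  rw [Subgroup.relIndex, h1]
  have h2 : Nat.card (Multiplicative (Fin 4 → F)) = Nat.card (Fin 4 → F) := rfl
  rw [h2, Nat.card_pi]
  simp

/-- `D` is centralised by `{U 0 b}` in a natural section -/
theorem count [Finite G] [Finite F] (h3 : 3 ≤ Nat.card F) (h : SzAct H L W Z ψ) (hirr : IrrS L W Z)
    (hnt : ¬ TrivS L W Z) {D : Subgroup G}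
    (hD : ∀ x ∈ W, x ∈ D → ∀ (b : F) (g : L), ψ g = H.u 0 b → (g : G) * x * (g : G)⁻¹ * x⁻¹ ∈ Z) :
    Nat.card F ^ 2 * D.relIndex Z ≤ D.relIndex W := by
  obtain ⟨f, hmul, hsurj, hker, hact⟩ := h.exists_f h3 hirr hnt
  have hinv : ∀ x ∈ W, f x⁻¹ = -f x := by
    intro x hx
    have h1 := hmul _ (inv_mem hx) _ hx
    rw [inv_mul_cancel, (hker 1 (one_mem _)).2 (one_mem _)] at h1
    exact eq_neg_of_add_eq_zero_left h1.symm
  let φ : W →* Multiplicative (F × F) :=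
    MonoidHom.mk' (fun x => Multiplicative.ofAdd (f x 2, f x 3)) fun x y => by
      show Multiplicative.ofAdd (f (x * y) 2, f (x * y) 3) = _
      rw [hmul x x.2 y y.2]
      rfl
  have hφ : ∀ x : W, φ x = Multiplicative.ofAdd (f x 2, f x 3) := fun _ => rfl
  have hr : φ.range = ⊤ := by
    rw [MonoidHom.range_eq_top]
    intro v
    obtain ⟨x, hx, hxv⟩ := hsurj ![0, 0, v.toAdd.1, v.toAdd.2]
    refine ⟨⟨x, hx⟩, ?_⟩
    rw [hφ]
    simp only [hxv]
    rfl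
  set K : Subgroup G := (D ⊓ W) ⊔ Z with hKdef
  have hKW : K ≤ W := sup_le inf_le_right h.Z_le
  have hKker : K.subgroupOf W ≤ φ.ker := by
    have hle : K ≤ φ.ker.map W.subtype := by
      refine sup_le ?_ ?_
      · intro x hx
        obtain ⟨hxD, hxW⟩ := mem_inf.1 hx
        refine ⟨⟨x, hxW⟩, ?_, rfl⟩
        obtain ⟨g, hg⟩ := h.surj (H.u 0 1)
        have h5 := hD x hxW hxD 1 g hg
        have h6 := (hker _ (mul_mem (h.conjW g.2 hxW) (inv_mem hxW))).2 h5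
        rw [hmul _ (h.conjW g.2 hxW) _ (inv_mem hxW), hinv x hxW, hact g x hxW, hg] at h6
        have h7 : mv (H.U 0 1) (f x) = f x := by
          have h8 : mv (H.U 0 1) (f x) + -f x = 0 := h6
          rw [← sub_eq_add_neg] at h8
          exact sub_eq_zero.1 h8
        obtain ⟨h8, h9⟩ := (fix_Z H one_ne_zero).1 h7
        show φ ⟨x, hxW⟩ = 1
        rw [hφ]
        simp only [h8, h9]
        rfl
      · intro x hx
        refine ⟨⟨x, h.Z_le hx⟩, ?_, rfl⟩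
        show φ ⟨x, _⟩ = 1
        rw [hφ]
        simp only [(hker x (h.Z_le hx)).2 hx]
        rfl
    intro x hx
    rw [mem_subgroupOf] at hx
    obtain ⟨y, hy, hyx⟩ := hle hx
    have : y = x := Subtype.ext hyx
    rwa [← this]
  have hq : Nat.card F ^ 2 ≤ K.relIndex W := by
    have h1 := Subgroup.index_ker φ
    rw [hr, Subgroup.card_top] at h1
    have h2 : Nat.card (Multiplicative (F × F)) = Nat.card (F × F) := rfl
    rw [h2, Nat.card_prod] at h1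
    have h4 := Subgroup.index_dvd_of_le hKker
    rw [h1] at h4
    rw [_root_.sq]
    exact Nat.le_of_dvd (Nat.pos_of_ne_zero Subgroup.index_ne_zero_of_finite) h4
  have h1 := Subgroup.relIndex_mul_relIndex (D ⊓ W) K W (le_sup_left) hKW
  rw [Subgroup.inf_relIndex_right] at h1
  have h2 : D.relIndex Z ≤ (D ⊓ W).relIndex K := by
    have h4 : (D ⊓ W).relIndex Z ≤ (D ⊓ W).relIndex K :=
      Subgroup.relIndex_le_of_le_right le_sup_right Subgroup.index_ne_zero_of_finite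
    have h5 : (D ⊓ W).relIndex Z = D.relIndex Z := by
      rw [← Subgroup.inf_relIndex_right, inf_assoc, inf_eq_right.2 h.Z_le, Subgroup.inf_relIndex_right]
    rwa [h5] at h4
  calc Nat.card F ^ 2 * D.relIndex Z ≤ K.relIndex W * (D ⊓ W).relIndex K := Nat.mul_le_mul hq h2
    _ = D.relIndex W := by rw [mul_comm, h1]

/-- a minimal section at the bottom -/
theorem exists_bot [Finite G] {X : Subgroup G} (hZX : Z ≤ X) (hne : X ≠ Z)
    (hX : ∀ g ∈ L, ∀ x ∈ X, g * x * g⁻¹ ∈ X) : ∃ Y : Subgroup G, Z ≤ Y ∧ Y ≠ Z ∧ Y ≤ X ∧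
      (∀ g ∈ L, ∀ x ∈ Y, g * x * g⁻¹ ∈ Y) ∧ IrrS L Y Z := by
  obtain ⟨Y, hYX, hmin⟩ := exists_minimal_le_of_wellFoundedLT
    (fun Y : Subgroup G => (Z ≤ Y ∧ Y ≠ Z) ∧ ∀ g ∈ L, ∀ x ∈ Y, g * x * g⁻¹ ∈ Y) X ⟨⟨hZX, hne⟩, hX⟩
  refine ⟨Y, hmin.1.1.1, hmin.1.1.2, hYX, hmin.1.2, fun X' hZ hY hX' => ?_⟩
  by_cases h1 : X' = Z
  · exact Or.inl h1
  · exact Or.inr (le_antisymm hY (hmin.2 ⟨⟨hZ, h1⟩, hX'⟩ hY))

/-- a nontrivial irreducible section above `X` -/
theorem exists_top [Finite G] [Finite F] (h3 : 3 ≤ Nat.card F) (h : SzAct H L W Z ψ) {X : Subgroup G}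
    (hZX : Z ≤ X) (hXW : X ≤ W) (hX : ∀ g ∈ L, ∀ x ∈ X, g * x * g⁻¹ ∈ X) (hnt : ¬ TrivS L W X) :
    ∃ X₁ Y₁ : Subgroup G, X ≤ X₁ ∧ X₁ ≤ Y₁ ∧ Y₁ ≤ W ∧ (∀ g ∈ L, ∀ x ∈ X₁, g * x * g⁻¹ ∈ X₁) ∧
      (∀ g ∈ L, ∀ x ∈ Y₁, g * x * g⁻¹ ∈ Y₁) ∧ IrrS L Y₁ X₁ ∧ ¬ TrivS L Y₁ X₁ := by
  obtain ⟨Y₁, hYW, hmin⟩ := exists_minimal_le_of_wellFoundedLT
    (fun Y : Subgroup G => X ≤ Y ∧ (∀ g ∈ L, ∀ x ∈ Y, g * x * g⁻¹ ∈ Y) ∧ ¬ TrivS L Y X) W
    ⟨hXW, fun g hg x hx => h.conjW hg hx, hnt⟩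
  obtain ⟨hXY, hY, hYnt⟩ := hmin.1
  have hne : X ≠ Y₁ := by
    rintro rfl
    exact hYnt fun g hg x hx => mul_mem (hX g hg x hx) (inv_mem hx)
  obtain ⟨X₁, hXX, hmax⟩ := exists_maximal_ge_of_wellFoundedGT
    (fun X' : Subgroup G => (X' ≤ Y₁ ∧ X' ≠ Y₁) ∧ ∀ g ∈ L, ∀ x ∈ X', g * x * g⁻¹ ∈ X') X ⟨⟨hXY, hne⟩, hX⟩
  obtain ⟨⟨hX1Y, hX1ne⟩, hX1⟩ := hmax.1
  refine ⟨X₁, Y₁, hXX, hX1Y, hYW, hX1, hY, fun X' h1 h2 hX' => ?_, fun htriv => ?_⟩
  · by_cases h4 : X' = Y₁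
    · exact Or.inr h4
    · exact Or.inl (le_antisymm (hmax.2 ⟨⟨h2, h4⟩, hX'⟩ h1) h1)
  · have h4 : TrivS L X₁ X := by
      by_contra hcon
      exact hX1ne (le_antisymm hX1Y (hmin.2 ⟨hXX, hX1, hcon⟩ hX1Y))
    exact hYnt ((h.res hZX hXY hYW hX hY).triv_trans h3 hX1Y htriv h4)

/-- **irreducibility from the index of the centraliser** -/
theorem irr_of [Finite G] [Finite F] (h3 : 3 ≤ Nat.card F) (h : SzAct H L W Z ψ)
    (hbot : ∀ X : Subgroup G, Z ≤ X → X ≤ W → TrivS L X Z → X = Z)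
    (htop : ∀ X : Subgroup G, Z ≤ X → X ≤ W → (∀ g ∈ L, ∀ x ∈ X, g * x * g⁻¹ ∈ X) → TrivS L W X → X = W)
    {D : Subgroup G}
    (hD : ∀ x ∈ W, x ∈ D → ∀ (b : F) (g : L), ψ g = H.u 0 b → (g : G) * x * (g : G)⁻¹ * x⁻¹ ∈ Z)
    (hidx : D.relIndex W < Nat.card F ^ 4) : IrrS L W Z := by
  intro X hZX hXW hX
  by_contra hcon
  push Not at hcon
  obtain ⟨hne1, hne2⟩ := hcon
  obtain ⟨Y₀, hZY, hY0ne, hY0X, hY0, hY0irr⟩ := exists_bot hZX hne1 hX
  obtain ⟨X₁, Y₁, hXX, hXY, hYW, hX1, hY1, hirr1, hnt1⟩ := h.exists_top h3 hZX hXW hX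
    (fun hc => hne2 (htop X hZX hXW hX hc))
  have hpos : ∀ X : Subgroup G, D.relIndex X ≠ 0 := fun X => Subgroup.index_ne_zero_of_finite
  have c1 := (h.res le_rfl hZY (hY0X.trans hXW) (fun g hg x hx => h.conjZ hg hx) hY0).count h3 hY0irr
    (fun hc => hY0ne (hbot Y₀ hZY (hY0X.trans hXW) hc)) (D := D) (fun x hx hxD b g hg =>
      hD x (hXW (hY0X hx)) hxD b g hg)
  have c2 := (h.res (hZX.trans hXX) hXY hYW hX1 hY1).count h3 hirr1 hnt1 (D := D) (fun x hx hxD b g hg =>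
      hZX.trans hXX (hD x (hYW hx) hxD b g hg))
  have c4 : D.relIndex Y₁ ≤ D.relIndex W := Subgroup.relIndex_le_of_le_right hYW (hpos _)
  have c5 : D.relIndex Y₀ ≤ D.relIndex X₁ := Subgroup.relIndex_le_of_le_right (hY0X.trans hXX) (hpos _)
  have c6 : 1 ≤ D.relIndex Z := Nat.one_le_iff_ne_zero.2 (hpos _)
  have c7 : Nat.card F ^ 2 * 1 ≤ Nat.card F ^ 2 * D.relIndex Z := Nat.mul_le_mul_left _ c6
  have c8 : Nat.card F ^ 2 * (Nat.card F ^ 2 * 1) ≤ Nat.card F ^ 2 * D.relIndex X₁ :=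
    Nat.mul_le_mul_left _ (c7.trans (c1.trans c5))
  have c9 : Nat.card F ^ 2 * (Nat.card F ^ 2 * 1) = Nat.card F ^ 4 := by ring
  omega

/-- **irreducibility from the order** -/
theorem irr_of_card [Finite G] [Finite F] (h3 : 3 ≤ Nat.card F) (h : SzAct H L W Z ψ)
    (hnt : ¬ TrivS L W Z) (hW : Z.relIndex W ≤ Nat.card F ^ 4) : IrrS L W Z := by
  obtain ⟨X₁, Y₁, hXX, hXY, hYW, hX1, hY1, hirr1, hnt1⟩ := h.exists_top h3 le_rfl h.Z_le
    (fun g hg x hx => h.conjZ hg hx) hnt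
  have hc := (h.res hXX hXY hYW hX1 hY1).card_of_irr h3 hirr1 hnt1
  have h1 := Subgroup.relIndex_mul_relIndex X₁ Y₁ W hXY hYW
  have h2 := Subgroup.relIndex_mul_relIndex Z X₁ W hXX (hXY.trans hYW)
  have hpos : ∀ X Y : Subgroup G, 0 < X.relIndex Y := fun X Y =>
    Nat.pos_of_ne_zero Subgroup.index_ne_zero_of_finite
  have hF : 0 < Nat.card F ^ 4 := by positivity
  rw [hc] at h1
  have p1 := hpos Y₁ W
  have p2 := hpos Z X₁
  rw [← h2, ← h1] at hW
  have h4 : Y₁.relIndex W = 1 := by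
    by_contra hne
    have : 2 ≤ Y₁.relIndex W := by omega
    have h5 : Nat.card F ^ 4 * 2 ≤ Nat.card F ^ 4 * Y₁.relIndex W := Nat.mul_le_mul_left _ this
    have h6 : Nat.card F ^ 4 * Y₁.relIndex W ≤ Z.relIndex X₁ * (Nat.card F ^ 4 * Y₁.relIndex W) :=
      Nat.le_mul_of_pos_left _ p2
    omega
  have h5 : Z.relIndex X₁ = 1 := by
    by_contra hne
    have : 2 ≤ Z.relIndex X₁ := by omega
    rw [h4, mul_one] at hW
    have h5 : 2 * Nat.card F ^ 4 ≤ Z.relIndex X₁ * Nat.card F ^ 4 := Nat.mul_le_mul_right _ this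
    omega
  have e1 : X₁ = Z := le_antisymm (Subgroup.relIndex_eq_one.1 h5) hXX
  have e2 : Y₁ = W := le_antisymm hYW (Subgroup.relIndex_eq_one.1 h4)
  rw [← e1, ← e2]
  exact hirr1

/-- the centraliser of `L` in `W / Z` -/
def fix (h : SzAct H L W Z ψ) : Subgroup G where
  carrier := {x | x ∈ W ∧ ∀ g ∈ L, g * x * g⁻¹ * x⁻¹ ∈ Z}
  one_mem' := ⟨one_mem _, fun g _ => by
    have e1 : g * 1 * g⁻¹ * 1⁻¹ = 1 := by group
    rw [e1]
    exact one_mem _⟩
  mul_mem' := by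
    rintro x y ⟨hx, hx'⟩ ⟨hy, hy'⟩
    refine ⟨mul_mem hx hy, fun g hg => ?_⟩
    have e1 : g * (x * y) * g⁻¹ * (x * y)⁻¹ = (g * x * g⁻¹) * (g * y * g⁻¹ * y⁻¹) * (g * x * g⁻¹)⁻¹ *
        (g * x * g⁻¹ * x⁻¹) := by group
    rw [e1]
    exact mul_mem (h.nZ (h.conjW hg hx) (hy' g hg)) (hx' g hg)
  inv_mem' := by
    rintro x ⟨hx, hx'⟩
    refine ⟨inv_mem hx, fun g hg => ?_⟩
    have e1 : g * x⁻¹ * g⁻¹ * x⁻¹⁻¹ = x⁻¹ * (g * x * g⁻¹ * x⁻¹)⁻¹ * x⁻¹⁻¹ := by group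
    rw [e1]
    exact h.nZ (inv_mem hx) (inv_mem (hx' g hg))

theorem mem_fix (h : SzAct H L W Z ψ) {x : G} : x ∈ h.fix ↔ x ∈ W ∧ ∀ g ∈ L, g * x * g⁻¹ * x⁻¹ ∈ Z := Iff.rfl

theorem fix_le (h : SzAct H L W Z ψ) : h.fix ≤ W := fun _ hx => (h.mem_fix.1 hx).1

theorem le_fix (h : SzAct H L W Z ψ) : Z ≤ h.fix := fun x hx =>
  h.mem_fix.2 ⟨h.Z_le hx, fun _ hg => mul_mem (h.conjZ hg hx) (inv_mem hx)⟩

theorem triv_fix (h : SzAct H L W Z ψ) : TrivS L h.fix Z := fun g hg _ hx => (h.mem_fix.1 hx).2 g hg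

theorem conj_fix (h : SzAct H L W Z ψ) {g x : G} (hg : g ∈ L) (hx : x ∈ h.fix) : g * x * g⁻¹ ∈ h.fix := by
  have := mul_mem (h.le_fix ((h.mem_fix.1 hx).2 g hg)) hx
  rwa [inv_mul_cancel_right] at this

/-- `fix` is normalised by everything which normalises `L`, `W`, `Z` -/
theorem conj_fix' (h : SzAct H L W Z ψ) {C : Subgroup G} (hCL : ∀ g ∈ C, ∀ l ∈ L, g * l * g⁻¹ ∈ L)
    (hCW : ∀ g ∈ C, ∀ x ∈ W, g * x * g⁻¹ ∈ W) (hCZ : ∀ g ∈ C, ∀ x ∈ Z, g * x * g⁻¹ ∈ Z) {g x : G} (hg : g ∈ C)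
    (hx : x ∈ h.fix) : g * x * g⁻¹ ∈ h.fix := by
  obtain ⟨hx1, hx2⟩ := h.mem_fix.1 hx
  refine h.mem_fix.2 ⟨hCW g hg x hx1, fun l hl => ?_⟩
  have h1 : g⁻¹ * l * g ∈ L := by
    have := hCL g⁻¹ (inv_mem hg) l hl
    rwa [inv_inv] at this
  have h2 := hCZ g hg _ (hx2 _ h1)
  have e1 : l * (g * x * g⁻¹) * l⁻¹ * (g * x * g⁻¹)⁻¹ =
      g * ((g⁻¹ * l * g) * x * (g⁻¹ * l * g)⁻¹ * x⁻¹) * g⁻¹ := by group
  rw [e1]
  exact h2

/-- **the head is natural** -/
theorem irr_head [Finite G] [Finite F] (h3 : 3 ≤ Nat.card F) (h : SzAct H L W Z ψ)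
    (htop : ∀ X : Subgroup G, Z ≤ X → X ≤ W → (∀ g ∈ L, ∀ x ∈ X, g * x * g⁻¹ ∈ X) → TrivS L W X → X = W)
    {D : Subgroup G}
    (hD : ∀ x ∈ W, x ∈ D → ∀ (b : F) (g : L), ψ g = H.u 0 b → (g : G) * x * (g : G)⁻¹ * x⁻¹ ∈ Z)
    (hidx : D.relIndex W < Nat.card F ^ 4) : SzAct H L W h.fix ψ ∧ IrrS L W h.fix := by
  have h1 := h.res h.le_fix h.fix_le le_rfl (fun g hg x hx => h.conj_fix hg hx) (fun g hg x hx => h.conjW hg hx)
  refine ⟨h1, h1.irr_of h3 ?_ ?_ (D := D) ?_ hidx⟩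
  · intro X hX1 hX2 hX3
    have hX : ∀ g ∈ L, ∀ x ∈ X, g * x * g⁻¹ ∈ X := by
      intro g hg x hx
      have := mul_mem (hX1 (hX3 g hg x hx)) hx
      rwa [inv_mul_cancel_right] at this
    have h2 := (h.res le_rfl (h.le_fix.trans hX1) hX2 (fun g hg x hx => h.conjZ hg hx) hX).triv_trans h3 hX1
      hX3 h.triv_fix
    exact le_antisymm (fun x hx => h.mem_fix.2 ⟨hX2 hx, fun g hg => h2 g hg x hx⟩) hX1
  · intro X hX1 hX2 hX hX3
    exact htop X (h.le_fix.trans hX1) hX2 hX hX3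
  · intro x hx hxD b g hg
    exact h.le_fix (hD x hx hxD b g hg)

/-- `L` is nontrivial on the head -/
theorem ntriv_head [Finite F] (h3 : 3 ≤ Nat.card F) (h : SzAct H L W Z ψ) (hnt : ¬ TrivS L W Z) :
    ¬ TrivS L W h.fix := fun hc => hnt (h.triv_trans h3 h.fix_le hc h.triv_fix)

end SzAct

end Cfsg.Agent.Omega.TwoFFour

end

section


/-!
# Quadratic sections of `Sz(q)`: from `IsoSuzuki`

* `exists_coord` : coordinates of `J ≅ Sz(q)` in which a given Sylow 2-subgroup is `{U a b}`;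
* `of_sq`, `omega_of_norm`, `omega_of_card` : elementary abelian subgroups of the Sylow 2-subgroup;
* `exists_szAct` : `SzAct` from a homomorphism of `L` onto `J`.
-/

set_option autoImplicit false
set_option linter.unusedSectionVars false

namespace Cfsg.Agent.Omega.TwoFFour

open Subgroup
open Cfsg.Agent.LieRecognition.SzMatrix Cfsg.Agent.ThreePrime.SzRel

section coord

variable {J : Type*} [Group J]

/-- **coordinates adapted to a Sylow 2-subgroup** -/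
theorem exists_coord [Finite J] (h : Cfsg.Lie.IsoSuzuki J) (P : Sylow 2 J) :
    ∃ (F : Type) (_ : Field F) (_ : Fintype F) (m : ℕ) (hF : Fintype.card F = 2 ^ (2 * m + 1)), 1 ≤ m ∧
      ∃ f : J ≃* LS F (2 ^ (m + 1)), ∀ x, x ∈ (P : Subgroup J) ↔ ∃ a b, f x = (good hF).u a b := by
  have : Fact (Nat.Prime 2) := ⟨Nat.prime_two⟩
  obtain ⟨F, iF, iF', m, hm, hF, ⟨f₀⟩⟩ := h
  refine ⟨F, iF, iF', m, hF, hm, ?_⟩
  let R₀ : Cfsg.Agent.ThreePrime.SzRel.Rel J F := (ofGood (good hF)).map f₀.symm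
  obtain ⟨P₀, hP₀⟩ := R₀.exists_sylow_eq hm hF
  obtain ⟨g, hg⟩ := MulAction.exists_smul_eq J P P₀
  refine ⟨(MulAut.conj g).trans f₀, fun x => ?_⟩
  have h1 : x ∈ (P : Subgroup J) ↔ MulAut.conj g x ∈ (P₀ : Subgroup J) := by
    rw [← hg, Sylow.coe_subgroup_smul, Subgroup.mem_pointwise_smul_iff_inv_smul_mem]
    have h2 : (MulAut.conj g)⁻¹ • (MulAut.conj g x) = x := by
      show (MulAut.conj g)⁻¹ (MulAut.conj g x) = x
      rw [MulAut.inv_apply_self]
    have h3 : (g • P : Sylow 2 J) = (g • P : Sylow 2 J) := rfl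
    show _ ↔ (MulAut.conj g)⁻¹ • (MulAut.conj g x) ∈ (P : Subgroup J)
    rw [h2]
  rw [h1, hP₀]
  constructor
  · rintro ⟨a, b, hab⟩
    refine ⟨a, b, ?_⟩
    show f₀ (MulAut.conj g x) = _
    rw [hab]
    exact MulEquiv.apply_symm_apply f₀ _
  · rintro ⟨a, b, hab⟩
    refine ⟨a, b, ?_⟩
    show MulAut.conj g x = f₀.symm ((good hF).u a b)
    rw [← hab]
    exact (MulEquiv.symm_apply_apply f₀ _).symm

variable {F : Type*} [Field F] {θ : F →+* F} {e : ℕ} (H : Good F θ e)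

theorem u_sq (a b : F) : H.u a b * H.u a b = H.u 0 (a * θ a) := by
  rw [H.u_mul]
  have := H.two
  congr 1
  · linear_combination a * this
  · linear_combination b * this

/-- involutions of the Sylow subgroup -/
theorem of_sq {a b : F} (h : H.u a b * H.u a b = 1) : a = 0 := by
  rw [u_sq, ← H.u_zero] at h
  have h1 := (H.u_inj h).2
  rcases mul_eq_zero.1 h1 with h2 | h2
  · exact h2
  · exact (map_eq_zero θ).1 h2

theorem d_conj_u (k : Fˣ) (b : F) : H.d k * H.u 0 b * (H.d k)⁻¹ = H.u 0 (b * θ k) := by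
  rw [H.d_mul_u, mul_inv_cancel_right]
  congr 1
  ring

/-- a nontrivial subgroup of `Ω₁(P)` normalised by the torus is `Ω₁(P)` -/
theorem omega_of_norm [Finite F] {E : Subgroup (LS F e)} (hE : ∀ x ∈ E, ∃ b, x = H.u 0 b) (hne : E ≠ ⊥)
    (hd : ∀ k, ∀ x ∈ E, H.d k * x * (H.d k)⁻¹ ∈ E) (b : F) : H.u 0 b ∈ E := by
  obtain ⟨x, hx, hx1⟩ : ∃ x ∈ E, x ≠ 1 := by
    by_contra hcon
    push Not at hcon
    exact hne ((Subgroup.eq_bot_iff_forall E).2 hcon)
  by_cases hb : b = 0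
  · rw [hb, H.u_zero]
    exact one_mem _
  obtain ⟨c, hc⟩ := hE _ hx
  have hc0 : c ≠ 0 := by
    rintro rfl
    rw [H.u_zero] at hc
    exact hx1 hc
  obtain ⟨k, hk⟩ : ∃ k, θ k = b * c⁻¹ := Finite.surjective_of_injective θ.injective _
  have hk0 : k ≠ 0 := by
    rintro rfl
    rw [map_zero] at hk
    exact mul_ne_zero hb (inv_ne_zero hc0) hk.symm
  have h1 := hd (Units.mk0 k hk0) _ hx
  rw [hc, d_conj_u, Units.val_mk0, hk] at h1
  have e1 : c * (b * c⁻¹) = b := by field_simp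
  rwa [e1] at h1

/-- a subgroup of `Ω₁(P)` of order `q` is `Ω₁(P)` -/
theorem omega_of_card [Finite F] {E : Subgroup (LS F e)} (hE : ∀ x ∈ E, ∃ b, x = H.u 0 b)
    (hc : Nat.card F ≤ Nat.card E) (b : F) : H.u 0 b ∈ E := by
  choose f hf using hE
  have hinj : Function.Injective (fun x : E => f x x.2) := by
    intro x y hxy
    have hxy : f x x.2 = f y y.2 := hxy
    have h1 := hf x x.2
    rw [hxy, ← hf y y.2] at h1
    exact Subtype.ext h1
  have hbij := hinj.bijective_of_nat_card_le hc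
  obtain ⟨x, hx⟩ := hbij.2 b
  have hx : f x x.2 = b := hx
  rw [← hx, ← hf x x.2]
  exact x.2

end coord

universe u

variable {G : Type u} [Group G]

/-- **`SzAct` from a homomorphism of `L` onto a Suzuki group** -/
theorem exists_szAct {L W Z : Subgroup G} {J : Type*} [Group J] [Finite J] (hJ : Cfsg.Lie.IsoSuzuki J)
    (P : Sylow 2 J) (ρ : L →* J) (hρ : Function.Surjective ρ) (hZW : Z ≤ W)
    (hLW : ∀ g ∈ L, ∀ x ∈ W, g * x * g⁻¹ ∈ W) (hLZ : ∀ g ∈ L, ∀ x ∈ Z, g * x * g⁻¹ ∈ Z)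
    (hWZ : ∀ x ∈ W, ∀ z ∈ Z, x * z * x⁻¹ ∈ Z) (hsq : ∀ x ∈ W, x * x ∈ Z)
    (hker : ∀ l : L, ρ l = 1 → ∀ x ∈ W, (l : G) * x * (l : G)⁻¹ * x⁻¹ ∈ Z)
    (hquad : ∀ l l' : L, ρ l ∈ (P : Subgroup J) → ρ l * ρ l = 1 → ρ l' ∈ (P : Subgroup J) → ρ l' * ρ l' = 1 →
      ∀ x ∈ W, (l : G) * ((l' : G) * x * (l' : G)⁻¹ * x⁻¹) * (l : G)⁻¹ * ((l' : G) * x * (l' : G)⁻¹ * x⁻¹)⁻¹ ∈ Z) :
    ∃ (F : Type) (_ : Field F) (_ : Fintype F) (m : ℕ) (hF : Fintype.card F = 2 ^ (2 * m + 1)), 1 ≤ m ∧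
      ∃ f : J ≃* LS F (2 ^ (m + 1)), (∀ x, x ∈ (P : Subgroup J) ↔ ∃ a b, f x = (good hF).u a b) ∧
        SzAct (good hF) L W Z (f.toMonoidHom.comp ρ) := by
  obtain ⟨F, iF, iF', m, hF, hm, f, hf⟩ := exists_coord hJ P
  have key : ∀ (b : F) (l : L), f (ρ l) = (good hF).u 0 b → ρ l ∈ (P : Subgroup J) ∧ ρ l * ρ l = 1 := by
    intro b l hl
    refine ⟨(hf _).2 ⟨0, b, hl⟩, f.injective ?_⟩
    rw [map_mul, hl, u_sq, map_one, zero_mul, (good hF).u_zero]
  refine ⟨F, iF, iF', m, hF, hm, f, hf, ?_⟩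
  exact
    { Z_le := hZW
      conjW := fun hg hx => hLW _ hg _ hx
      conjZ := fun hg hx => hLZ _ hg _ hx
      nZ := fun hx hz => hWZ _ hx _ hz
      sq := hsq
      surj := f.surjective.comp hρ
      ker := fun l hl x hx => hker l (f.injective (by rw [map_one]; exact hl)) x hx
      quad := fun b c l l' hl hl' x hx =>
        hquad l l' (key b l hl).1 (key b l hl).2 (key c l' hl').1 (key c l' hl').2 x hx }

end Cfsg.Agent.Omega.TwoFFour

end

section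


/-!
# NO-3S, `OneSz`: `SzMod` over a given field from `IsoSuzuki` (bb OMEGA #19637 (E4))

* `szCongr` : `Sz F e ≅ Sz K e` for `F ≅ K`;
* `exists_coordF` : coordinates of `J ≅ Sz(q)` over a given field `F` with `|P| = |F|²`;
* `exists_szMod_of` : `SzMod` for `W / Z` over `F` from a homomorphism of `L` onto `J` if `|W : Z| ≤ |F|⁴`.
-/

set_option autoImplicit false
set_option linter.unusedSectionVars false

namespace Cfsg.Agent.Omega.NO3S.OneQ.TIq

open Subgroup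
open Cfsg.Agent.LieRecognition.SzMatrix Cfsg.Agent.ThreePrime.SzRel
open Cfsg.Agent.Omega.TwoFFour

section congr

open Matrix

variable {F K : Type*} [Field F] [Field K]

/-- entrywise application of a field isomorphism -/
noncomputable def glEquiv (σ : F ≃+* K) : GL (Fin 4) F ≃* GL (Fin 4) K :=
  Units.mapEquiv (σ.mapMatrix (m := Fin 4)).toMulEquiv

theorem glEquiv_val (σ : F ≃+* K) (g : GL (Fin 4) F) :
    ((glEquiv σ g : GL (Fin 4) K) : Matrix (Fin 4) (Fin 4) K) = (g : Matrix (Fin 4) (Fin 4) F).map σ := rfl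

theorem glEquiv_symm (σ : F ≃+* K) (g : GL (Fin 4) K) : (glEquiv σ).symm g = glEquiv σ.symm g := by
  apply (glEquiv σ).injective
  rw [MulEquiv.apply_symm_apply]
  apply Units.ext
  ext i j
  rw [glEquiv_val, glEquiv_val]
  simp

theorem alt_map (σ : F ≃+* K) (u v : Fin 4 → F) :
    Cfsg.Lie.altForm4 (fun i => σ (u i)) (fun i => σ (v i)) = σ (Cfsg.Lie.altForm4 u v) := by
  unfold Cfsg.Lie.altForm4
  simp only [map_add, map_mul]

theorem star_map (σ : F ≃+* K) (g : Matrix (Fin 4) (Fin 4) F) :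
    Cfsg.Lie.star4 (g.map σ) = (Cfsg.Lie.star4 g).map σ := by
  ext i j
  simp only [Cfsg.Lie.star4, Matrix.of_apply, Matrix.map_apply, map_sub, map_mul]

theorem sp_map (σ : F ≃+* K) {g : GL (Fin 4) F} (hg : g ∈ Cfsg.Lie.Sp4 F) : glEquiv σ g ∈ Cfsg.Lie.Sp4 K := by
  intro u v
  have key : ∀ w : Fin 4 → K, (Units.coeHom (Matrix (Fin 4) (Fin 4) K) (glEquiv σ g)) *ᵥ w =
      fun i => σ (((Units.coeHom (Matrix (Fin 4) (Fin 4) F) g) *ᵥ (fun i => σ.symm (w i))) i) := by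
    intro w
    funext i
    show ((g : Matrix (Fin 4) (Fin 4) F).map σ *ᵥ w) i = σ (((g : Matrix (Fin 4) (Fin 4) F) *ᵥ (fun i => σ.symm (w i))) i)
    simp only [Matrix.mulVec, dotProduct, Matrix.map_apply, map_sum, map_mul, RingEquiv.apply_symm_apply]
  rw [key, key, alt_map, hg]
  have h1 := alt_map σ (fun i => σ.symm (u i)) (fun i => σ.symm (v i))
  rw [← h1]
  simp

theorem sz_map_le (σ : F ≃+* K) (e : ℕ) :
    (Cfsg.Lie.Sz F e).map (glEquiv σ).toMonoidHom ≤ Cfsg.Lie.Sz K e := by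
  rw [Subgroup.map_le_iff_le_comap]
  unfold Cfsg.Lie.Sz
  rw [closure_le]
  rintro g ⟨h1, h2⟩
  refine subset_closure ⟨sp_map σ h1, ?_⟩
  show Cfsg.Lie.star4 ((g : Matrix (Fin 4) (Fin 4) F).map σ) = ((g : Matrix (Fin 4) (Fin 4) F).map σ).map (fun x => x ^ e)
  rw [star_map, h2]
  ext i j
  simp

theorem szCongr (σ : F ≃+* K) (e : ℕ) : Nonempty (Cfsg.Lie.Sz F e ≃* Cfsg.Lie.Sz K e) := by
  have h1 : (Cfsg.Lie.Sz F e).map (glEquiv σ).toMonoidHom = Cfsg.Lie.Sz K e := by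
    refine le_antisymm (sz_map_le σ e) ?_
    intro x hx
    refine ⟨(glEquiv σ).symm x, ?_, ?_⟩
    · rw [glEquiv_symm]
      exact sz_map_le σ.symm e ⟨x, hx, rfl⟩
    · exact (glEquiv σ).apply_symm_apply x
  exact ⟨((glEquiv σ).subgroupMap (Cfsg.Lie.Sz F e)).trans (MulEquiv.subgroupCongr h1)⟩

end congr

section coord

variable {J : Type*} [Group J]

/-- coordinates over a given field -/
theorem exists_coord_of [Finite J] {F : Type} [Field F] [Fintype F] {m : ℕ} (hm : 1 ≤ m)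
    (hF : Fintype.card F = 2 ^ (2 * m + 1)) (f₀ : J ≃* Cfsg.Lie.Sz F (2 ^ (m + 1))) (P : Sylow 2 J) :
    ∃ f : J ≃* LS F (2 ^ (m + 1)), ∀ x, x ∈ (P : Subgroup J) ↔ ∃ a b, f x = (good hF).u a b := by
  have : Fact (Nat.Prime 2) := ⟨Nat.prime_two⟩
  let R₀ : Cfsg.Agent.ThreePrime.SzRel.Rel J F := (ofGood (good hF)).map f₀.symm
  obtain ⟨P₀, hP₀⟩ := R₀.exists_sylow_eq hm hF
  obtain ⟨g, hg⟩ := MulAction.exists_smul_eq J P P₀
  refine ⟨(MulAut.conj g).trans f₀, fun x => ?_⟩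
  have h1 : x ∈ (P : Subgroup J) ↔ MulAut.conj g x ∈ (P₀ : Subgroup J) := by
    rw [← hg, Sylow.coe_subgroup_smul, Subgroup.mem_pointwise_smul_iff_inv_smul_mem]
    have h2 : (MulAut.conj g)⁻¹ • (MulAut.conj g x) = x := by
      show (MulAut.conj g)⁻¹ (MulAut.conj g x) = x
      rw [MulAut.inv_apply_self]
    show _ ↔ (MulAut.conj g)⁻¹ • (MulAut.conj g x) ∈ (P : Subgroup J)
    rw [h2]
  rw [h1, hP₀]
  constructor
  · rintro ⟨a, b, hab⟩
    refine ⟨a, b, ?_⟩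
    show f₀ (MulAut.conj g x) = _
    rw [hab]
    exact MulEquiv.apply_symm_apply f₀ _
  · rintro ⟨a, b, hab⟩
    refine ⟨a, b, ?_⟩
    show MulAut.conj g x = f₀.symm ((good hF).u a b)
    rw [← hab]
    exact (MulEquiv.symm_apply_apply f₀ _).symm

/-- the order of a Sylow 2-subgroup -/
theorem card_sylow_of [Finite J] {F : Type} [Field F] [Fintype F] {m : ℕ}
    (hF : Fintype.card F = 2 ^ (2 * m + 1)) {P : Subgroup J} (f : J ≃* LS F (2 ^ (m + 1)))
    (hf : ∀ x, x ∈ P ↔ ∃ a b, f x = (good hF).u a b) : Nat.card P = Nat.card F ^ 2 := by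
  rw [pow_two, ← Nat.card_prod]
  refine (Nat.card_congr (Equiv.ofBijective (fun p : F × F =>
    (⟨f.symm ((good hF).u p.1 p.2), (hf _).2 ⟨p.1, p.2, f.apply_symm_apply _⟩⟩ : P)) ⟨?_, ?_⟩)).symm
  · rintro ⟨a, b⟩ ⟨c, d⟩ h
    have h1 := f.symm.injective (congrArg Subtype.val h)
    have h2 := (good hF).u_inj h1
    exact Prod.ext h2.1 h2.2
  · rintro ⟨x, hx⟩
    obtain ⟨a, b, hab⟩ := (hf x).1 hx
    refine ⟨(a, b), Subtype.ext ?_⟩
    show f.symm ((good hF).u a b) = x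
    rw [← hab, f.symm_apply_apply]

/-- **coordinates over a given field `F`, `|P| = |F|²`** -/
theorem exists_coordF [Finite J] (h : Cfsg.Lie.IsoSuzuki J) (P : Sylow 2 J) (F : Type) [Field F] [Fintype F]
    (hPF : Nat.card P = Nat.card F ^ 2) :
    ∃ (m : ℕ) (hF : Fintype.card F = 2 ^ (2 * m + 1)), 1 ≤ m ∧
      ∃ f : J ≃* LS F (2 ^ (m + 1)), ∀ x, x ∈ (P : Subgroup J) ↔ ∃ a b, f x = (good hF).u a b := by
  obtain ⟨K, iK, iK', m, hm, hK, ⟨f₀⟩⟩ := h
  obtain ⟨f₁, hf₁⟩ := exists_coord_of hm hK f₀ P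
  have h1 := card_sylow_of hK f₁ hf₁
  have h2 : Nat.card F = Nat.card K := by
    have h3 : Nat.card F ^ 2 = Nat.card K ^ 2 := by rw [← hPF, ← h1]
    exact Nat.pow_left_injective (by norm_num : 2 ≠ 0) h3
  let σ : K ≃+* F := FiniteField.ringEquivOfCardEq (K := K) (K' := F) (by
    rw [← Nat.card_eq_fintype_card, ← Nat.card_eq_fintype_card, h2])
  obtain ⟨f₂⟩ := szCongr σ (2 ^ (m + 1))
  have hF : Fintype.card F = 2 ^ (2 * m + 1) := by
    rw [← Nat.card_eq_fintype_card, h2, Nat.card_eq_fintype_card, hK]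
  exact ⟨m, hF, hm, exists_coord_of hm hF (f₀.trans f₂) P⟩

end coord

universe u

variable {G : Type u} [Group G] [Finite G]

/-- **`SzMod` over `F`** -/
theorem exists_szMod_of {C L W Z : Subgroup G} {J : Type*} [Group J] [Finite J] (hJ : Cfsg.Lie.IsoSuzuki J)
    (P : Sylow 2 J) (F : Type) [Field F] [Finite F] (hPF : Nat.card P = Nat.card F ^ 2)
    (ρ : L →* J) (hρ : Function.Surjective ρ) (hLC : L ≤ C) (hCL : ∀ g ∈ C, ∀ l ∈ L, g * l * g⁻¹ ∈ L)
    (hCW : ∀ g ∈ C, ∀ x ∈ W, g * x * g⁻¹ ∈ W) (hCZ : ∀ g ∈ C, ∀ x ∈ Z, g * x * g⁻¹ ∈ Z) (hZW : Z ≤ W)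
    (hWZ : ∀ x ∈ W, ∀ z ∈ Z, x * z * x⁻¹ ∈ Z) (hsq : ∀ x ∈ W, x * x ∈ Z)
    (hker : ∀ l : L, ρ l = 1 → ∀ x ∈ W, (l : G) * x * (l : G)⁻¹ * x⁻¹ ∈ Z)
    (hquad : ∀ l l' : L, ρ l ∈ (P : Subgroup J) → ρ l * ρ l = 1 → ρ l' ∈ (P : Subgroup J) → ρ l' * ρ l' = 1 →
      ∀ x ∈ W, (l : G) * ((l' : G) * x * (l' : G)⁻¹ * x⁻¹) * (l : G)⁻¹ * ((l' : G) * x * (l' : G)⁻¹ * x⁻¹)⁻¹ ∈ Z)
    (hnt : ¬ TrivS L W Z) (hW : Z.relIndex W ≤ Nat.card F ^ 4) :
    ∃ (θ : F →+* F) (e m : ℕ) (H : Good F θ e), 1 ≤ m ∧ Nat.card F = 2 ^ (2 * m + 1) ∧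
      Nonempty (SzMod H C W Z) := by
  have hft : Fintype F := Fintype.ofFinite F
  obtain ⟨m, hF, hm, f, hf⟩ := exists_coordF hJ P F hPF
  have hF' : Nat.card F = 2 ^ (2 * m + 1) := by rw [Nat.card_eq_fintype_card, hF]
  have key : ∀ (b : F) (l : L), f (ρ l) = (good hF).u 0 b → ρ l ∈ (P : Subgroup J) ∧ ρ l * ρ l = 1 := by
    intro b l hl
    refine ⟨(hf _).2 ⟨0, b, hl⟩, f.injective ?_⟩
    rw [map_mul, hl, u_sq, map_one, zero_mul, (good hF).u_zero]
  have h : SzAct (good hF) L W Z (f.toMonoidHom.comp ρ) :=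
    { Z_le := hZW
      conjW := fun hg hx => hCW _ (hLC hg) _ hx
      conjZ := fun hg hx => hCZ _ (hLC hg) _ hx
      nZ := fun hx hz => hWZ _ hx _ hz
      sq := hsq
      surj := f.surjective.comp hρ
      ker := fun l hl x hx => hker l (f.injective (by rw [map_one]; exact hl)) x hx
      quad := fun b c l l' hl hl' x hx =>
        hquad l l' (key b l hl).1 (key b l hl).2 (key c l' hl').1 (key c l' hl').2 x hx }
  have h3 : 3 ≤ Nat.card F := by
    rw [hF']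
    calc 3 ≤ 2 ^ 3 := by norm_num
      _ ≤ 2 ^ (2 * m + 1) := Nat.pow_le_pow_right (by norm_num) (by omega)
  obtain ⟨M, -⟩ := h.exists_szMod h3 (h.irr_of_card h3 hnt hW) hnt hLC hCL hCW hCZ
  exact ⟨_, _, m, good hF, hm, hF', ⟨M⟩⟩

end Cfsg.Agent.Omega.NO3S.OneQ.TIq

end

section


/-!
# NO-3S, `OneSz` (`q ≥ 4`, `n = 1`), case (N): `|A| = q` and `A_l ∩ A_m ≠ 1` force `A_l = A_m` (pure form)

* `Pre` : the fields of `TIq.GenK` which do not need `D_x = I`, TI, ALPHA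
* `Pre.A_eq` : if `dim M / Ebar = 1` and `1 ≠ b ∈ A l ∩ A m` (`l`, `m` different points) then `A l = A m`
-/

set_option autoImplicit false
set_option linter.unusedSimpArgs false
set_option linter.unusedSectionVars false

namespace Cfsg.Agent.Omega.NO3S.OneQ.TIq

/-- the fields of `GenK` without `D_x = I`, TI, ALPHA -/
structure Pre (F : Type*) {M H : Type*} [Field F] [AddCommGroup M] [Module F M] [Group H] [DistribMulAction H M]
    (L : Set M) (A : M → Subgroup H) (I : M → Submodule F M) (al : M → M → H) (Kt : M → Subgroup H) : Prop where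
  two : ∀ m : M, m + m = 0
  lin : ∀ (h : H) (c : F) (m : M), h • (c • m) = c • (h • m)
  zero : (0 : M) ∉ L
  fsm : ∀ {c : F} {l : M}, c ≠ 0 → l ∈ L → c • l ∈ L
  A_sm : ∀ {c : F} {l : M}, c ≠ 0 → l ∈ L → A (c • l) = A l
  A_conj : ∀ (h : H) {l : M} {a : H}, l ∈ L → a ∈ A l → h * a * h⁻¹ ∈ A (h • l)
  sq : ∀ {l : M} {a : H}, l ∈ L → a ∈ A l → a * a = 1
  self : ∀ {l : M}, l ∈ L → l ∈ I l
  comm : ∀ {l : M} {a : H}, l ∈ L → a ∈ A l → ∀ m : M, a • m + m ∈ I l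
  fix : ∀ {l : M} {a : H} {u : M}, l ∈ L → a ∈ A l → u ∈ I l → a • u = u
  al_mem : ∀ {l : M}, l ∈ L → ∀ m, al l m ∈ A l
  al_add : ∀ {l : M}, l ∈ L → ∀ m m', al l (m + m') = al l m * al l m'
  al_surj : ∀ {l : M} {a : H}, l ∈ L → a ∈ A l → ∃ m, al l m = a
  al_ker : ∀ {l : M}, l ∈ L → ∀ m, al l m = 1 ↔ ∀ a ∈ A l, ∃ c : F, a • m = m + c • l
  phl : ∀ {l : M}, l ∈ L → ∀ (c : F) (e x : M), al l e = 1 → al l (c • x) • e + e = c • (al l x • e + e)
  bl : ∀ {l : M}, l ∈ L → ∀ (c : F) (m x : M), ∃ d : F, al l (c • x) • m + m = c • (al l x • m + m) + d • l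
  dual : ∀ {l : M}, l ∈ L → ∀ f : M →ₗ[F] F, (∀ e, al l e = 1 → f e = 0) →
    ∃ e, al l e = 1 ∧ ∀ x, al l x • e + e = f x • l
  faith : ∀ h : H, (∀ m : M, h • m = m) → h = 1
  Kt_sm : ∀ {c : F} {l : M}, c ≠ 0 → l ∈ L → Kt (c • l) = Kt l
  Kt_fix : ∀ {l : M} {t : H}, l ∈ L → t ∈ Kt l → t • l = l
  Kt_A : ∀ {l : M} {t a : H}, l ∈ L → t ∈ Kt l → a ∈ A l → t * a = a * t
  Kt_hom : ∀ {l u : M}, l ∈ L → u ∈ I l → NP F l u → ∃ t ∈ Kt l, t • u = u + l

theorem GenK.toPre {F M H : Type*} [Field F] [AddCommGroup M] [Module F M] [Group H] [DistribMulAction H M] {L : Set M}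
    {A : M → Subgroup H} {I : M → Submodule F M} {al : M → M → H} {Kt : M → Subgroup H} (G : GenK F L A I al Kt) :
    Pre F L A I al Kt where
  two := G.two
  lin := G.lin
  zero := G.zero
  fsm := G.fsm
  A_sm := G.A_sm
  A_conj := G.A_conj
  sq := G.sq
  self := G.self
  comm := G.comm
  fix := G.fix
  al_mem := G.al_mem
  al_add := G.al_add
  al_surj := G.al_surj
  al_ker := G.al_ker
  phl := G.phl
  bl := G.bl
  dual := G.dual
  faith := G.faith
  Kt_sm := G.Kt_sm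
  Kt_fix := G.Kt_fix
  Kt_A := G.Kt_A
  Kt_hom := G.Kt_hom

namespace Pre

variable {F M H : Type*} [Field F] [AddCommGroup M] [Module F M] [Group H] [DistribMulAction H M] {L : Set M}
    {A : M → Subgroup H} {I : M → Submodule F M} {al : M → M → H} {Kt : M → Subgroup H}

section

variable (G : Pre F L A I al Kt)
include G

theorem ne_zero {l : M} (hl : l ∈ L) : l ≠ 0 := fun h => G.zero (h ▸ hl)

theorem two_left (x y : M) : x + (x + y) = y := by
  rw [← add_assoc, G.two, zero_add]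

theorem neg_eq (x : M) : -x = x := neg_eq_of_add_eq_zero_left (G.two x)

theorem eq_of_add {x y : M} (h : x + y = 0) : x = y := by
  calc x = x + y + y := by rw [add_assoc, G.two, add_zero]
    _ = y := by rw [h, zero_add]

/-- `h x + x = y` ↔ `h x = x + y` -/
theorem to_eq {h : H} {x y : M} (e : h • x + x = y) : h • x = x + y := by
  rw [← e, add_comm (h • x) x, G.two_left]

theorem of_eq {h : H} {x y : M} (e : h • x = x + y) : h • x + x = y := by
  rw [e, add_comm (x + y) x, G.two_left]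

theorem np_symm {l m : M} (hl : l ∈ L) (h : NP F l m) : NP F m l := by
  intro c hc
  have hc0 : c ≠ 0 := by
    rintro rfl
    rw [zero_smul] at hc
    exact G.ne_zero hl hc
  exact h c⁻¹ (by rw [hc, smul_smul, inv_mul_cancel₀ hc0, one_smul])

/-- independence -/
theorem indep {l m : M} (hlm : NP F l m) {c d : F} (h : c • m + d • l = 0) : c = 0 ∧ (d • l = 0) := by
  have hc : c = 0 := by
    by_contra hc
    have h1 : c • m = d • l := G.eq_of_add h
    apply hlm (c⁻¹ * d)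
    rw [mul_smul, ← h1, smul_smul, inv_mul_cancel₀ hc, one_smul]
  refine ⟨hc, ?_⟩
  rwa [hc, zero_smul, zero_add] at h

theorem indep' {l m : M} (hl : l ∈ L) (hlm : NP F l m) {c d : F} (h : c • m + d • l = 0) :
    c = 0 ∧ d = 0 := by
  obtain ⟨h1, h2⟩ := G.indep hlm h
  exact ⟨h1, (smul_eq_zero.1 h2).resolve_right (G.ne_zero hl)⟩

theorem inv {l : M} {a : H} (hl : l ∈ L) (ha : a ∈ A l) : a⁻¹ = a :=
  inv_eq_of_mul_eq_one_left (G.sq hl ha)

theorem al_zero {l : M} (hl : l ∈ L) : al l 0 = 1 := by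
  have := G.al_add hl 0 0
  rw [add_zero] at this
  exact (mul_eq_left.1 this.symm)

theorem al_sm_one {l e : M} (hl : l ∈ L) (c : F) (he : al l e = 1) : al l (c • e) = 1 := by
  rw [G.al_ker hl] at he ⊢
  intro a ha
  obtain ⟨d, hd⟩ := he a ha
  exact ⟨c * d, by rw [G.lin, hd, smul_add, smul_smul]⟩

theorem A_fix {l : M} {a : H} (hl : l ∈ L) (ha : a ∈ A l) : a • l = l := G.fix hl ha (G.self hl)

/-- every `a ≠ 1` moves some `e ∈ E_l` by `l` -/
theorem phi {l : M} {a : H} (hl : l ∈ L) (ha : a ∈ A l) (h1 : a ≠ 1) : ∃ e, al l e = 1 ∧ a • e = e + l := by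
  classical
  obtain ⟨x, rfl⟩ := G.al_surj hl ha
  let E : Submodule F M :=
    { carrier := {e | al l e = 1}
      add_mem' := fun {a b} ha hb => by
        change al l (a + b) = 1
        rw [G.al_add hl]
        rw [show al l a = 1 from ha, show al l b = 1 from hb, one_mul]
      zero_mem' := G.al_zero hl
      smul_mem' := fun c x hx => G.al_sm_one hl c hx }
  have hx : x ∉ E := h1
  obtain ⟨f, hf, hf'⟩ := Submodule.exists_le_ker_of_notMem hx
  obtain ⟨e, he, he'⟩ := G.dual hl ((f x)⁻¹ • f) (fun y hy => by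
    have : y ∈ LinearMap.ker f := hf' hy
    rw [LinearMap.mem_ker] at this
    simp [this])
  refine ⟨e, he, ?_⟩
  have := he' x
  rw [LinearMap.smul_apply, smul_eq_mul, inv_mul_cancel₀ hf, one_smul] at this
  exact G.to_eq this

/-- `h` normalising the point `F l` normalises `E_l` -/
theorem al_one_conj {l e : M} {h : H} {c : F} (hl : l ∈ L) (hc : c ≠ 0) (hh : h • l = c • l) (he : al l e = 1) :
    al l (h • e) = 1 := by
  rw [G.al_ker hl] at he ⊢
  intro a ha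
  have h1 : h⁻¹ * a * h ∈ A l := by
    have h2 := G.A_conj h⁻¹ hl ha
    have h3 : h⁻¹ • l = c⁻¹ • l := by
      rw [inv_smul_eq_iff, G.lin, hh, smul_smul, inv_mul_cancel₀ hc, one_smul]
    rw [h3, inv_inv, G.A_sm (inv_ne_zero hc) hl] at h2
    exact h2
  obtain ⟨d, hd⟩ := he _ h1
  refine ⟨d * c, ?_⟩
  calc a • h • e = h • ((h⁻¹ * a * h) • e) := by simp only [← mul_smul]; congr 1; group
    _ = h • e + (d * c) • l := by rw [hd, smul_add, G.lin, hh, smul_smul]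

end

/-- the situation of two points with a common element `b` -/
structure Two (F : Type*) {M H : Type*} [Field F] [AddCommGroup M] [Module F M] [Group H] [DistribMulAction H M]
    (L : Set M) (A : M → Subgroup H) (al : M → M → H) (b : H) (l m el em : M) : Prop where
  hl : l ∈ L
  hm : m ∈ L
  np : NP F l m
  bl : b ∈ A l
  bm : b ∈ A m
  oel : al l el = 1
  oem : al m em = 1
  bel : b • el = el + l
  bem : b • em = em + m

theorem Two.symm {b : H} {l m el em : M} (G : Pre F L A I al Kt) (h : Two F L A al b l m el em) :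
    Two F L A al b m l em el :=
  ⟨h.hm, h.hl, G.np_symm h.hl h.np, h.bm, h.bl, h.oem, h.oel, h.bem, h.bel⟩

section

variable (G : Pre F L A I al Kt)
include G

theorem exists_two {b : H} {l m : M} (hl : l ∈ L) (hm : m ∈ L) (np : NP F l m) (hbl : b ∈ A l) (hbm : b ∈ A m)
    (hb : b ≠ 1) : ∃ el em, Two F L A al b l m el em := by
  obtain ⟨el, h1, h2⟩ := G.phi hl hbl hb
  obtain ⟨em, h3, h4⟩ := G.phi hm hbm hb
  exact ⟨el, em, hl, hm, np, hbl, hbm, h1, h3, h2, h4⟩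

variable {b : H} {l m el em : M}

theorem em_ne (h : Two F L A al b l m el em) : al l em ≠ 1 := by
  intro h1
  obtain ⟨c, hc⟩ := (G.al_ker h.hl em).1 h1 b h.bl
  rw [h.bem] at hc
  exact h.np c (add_left_cancel hc)

theorem m_mem (h : Two F L A al b l m el em) : m ∈ I l := by
  have := G.comm h.hl h.bl em
  rwa [G.of_eq h.bem] at this

theorem l_mem (h : Two F L A al b l m el em) : l ∈ I m := G.m_mem (h.symm G)

/-- decomposition of `M` -/
theorem dec (h : Two F L A al b l m el em)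
    (one : ∀ {l : M}, l ∈ L → ∀ x y, al l x ≠ 1 → ∃ c : F, al l (y + c • x) = 1) (x : M) :
    ∃ (c d : F) (y : M), al l y = 1 ∧ b • y = y ∧ x = y + c • em + d • el := by
  obtain ⟨c, hc⟩ := one h.hl em x (G.em_ne h)
  obtain ⟨d, hd⟩ := (G.al_ker h.hl _).1 hc b h.bl
  refine ⟨c, d, x + c • em + d • el, ?_, ?_, ?_⟩
  · rw [G.al_add h.hl, hc, G.al_sm_one h.hl d h.oel, one_mul]
  · rw [smul_add, hd, G.lin, h.bel, smul_add]
    calc x + c • em + d • l + (d • el + d • l) = x + c • em + d • el + (d • l + d • l) := by abel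
      _ = x + c • em + d • el := by rw [G.two, add_zero]
  · calc x = x + (c • em + c • em) + (d • el + d • el) := by rw [G.two, G.two, add_zero, add_zero]
      _ = x + c • em + d • el + c • em + d • el := by abel

/-- `C_M(b) ≤ E_l` -/
theorem al_of_fix (h : Two F L A al b l m el em)
    (one : ∀ {l : M}, l ∈ L → ∀ x y, al l x ≠ 1 → ∃ c : F, al l (y + c • x) = 1) {x : M} (hx : b • x = x) :
    al l x = 1 := by
  obtain ⟨c, d, y, hy, hby, e⟩ := G.dec h one x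
  have h1 : c • m + d • l = 0 := by
    have h2 : b • x = x + (c • m + d • l) := by
      rw [e, smul_add, smul_add, hby, G.lin, G.lin, h.bem, h.bel, smul_add, smul_add]
      abel
    rw [hx] at h2
    exact (add_eq_left.1 h2.symm)
  obtain ⟨rfl, rfl⟩ := G.indep' h.hl h.np h1
  rw [e, zero_smul, zero_smul, add_zero, add_zero]
  exact hy

/-- every element of `A l` is `al l (f x)` -/
theorem exists_f (h : Two F L A al b l m el em)
    (one : ∀ {l : M}, l ∈ L → ∀ x y, al l x ≠ 1 → ∃ c : F, al l (y + c • x) = 1) (hb : b ≠ 1) {x : M} {a : H}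
    (hx : al l x = b) (ha : a ∈ A l) : ∃ f : F, a = al l (f • x) := by
  obtain ⟨y, rfl⟩ := G.al_surj h.hl ha
  obtain ⟨c, hc⟩ := one h.hl x y (by rw [hx]; exact hb)
  refine ⟨c, ?_⟩
  rw [G.al_add h.hl] at hc
  have h2 := inv_eq_of_mul_eq_one_left hc
  rw [G.inv h.hl (G.al_mem h.hl _)] at h2
  exact h2.symm

/-- the action of `al l (f x)` -/
theorem act (h : Two F L A al b l m el em)
    (one : ∀ {l : M}, l ∈ L → ∀ x y, al l x ≠ 1 → ∃ c : F, al l (y + c • x) = 1) {x : M}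
    (hx : al l x = b) (f : F) :
    (∀ y : M, b • y = y → al l (f • x) • y = y) ∧ al l (f • x) • el = el + f • l ∧
      ∃ d : F, al l (f • x) • em = em + (f • m + d • l) := by
  refine ⟨fun y hy => ?_, ?_, ?_⟩
  · have h1 := G.phl h.hl f y x (G.al_of_fix h one hy)
    rw [hx, hy, G.two, smul_zero] at h1
    have := G.to_eq h1
    rwa [add_zero] at this
  · have h1 := G.phl h.hl f el x h.oel
    rw [hx, G.of_eq h.bel] at h1
    exact G.to_eq h1
  · obtain ⟨d, hd⟩ := G.bl h.hl f em x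
    rw [hx, G.of_eq h.bem] at hd
    exact ⟨d, G.to_eq hd⟩

/-- transvections -/
theorem exists_tv (h : Two F L A al b l m el em) (c : F) :
    ∃ t : H, t * b = b * t ∧ t • l = l ∧ t • m = m + c • l := by
  by_cases hc : c = 0
  · exact ⟨1, by rw [one_mul, mul_one], one_smul _ _, by rw [hc, zero_smul, add_zero, one_smul]⟩
  · have hcl := G.fsm hc h.hl
    have hI : m ∈ I (c • l) := by
      have := G.comm hcl (by rw [G.A_sm hc h.hl]; exact h.bl : b ∈ A (c • l)) em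
      rwa [G.of_eq h.bem] at this
    have hnp : NP F (c • l) m := fun d hd => h.np (d * c) (by rw [hd, smul_smul])
    obtain ⟨t, ht, e⟩ := G.Kt_hom hcl hI hnp
    rw [G.Kt_sm hc h.hl] at ht
    exact ⟨t, G.Kt_A h.hl ht h.bl, G.Kt_fix h.hl ht, e⟩

/-- the torus -/
theorem exists_torus (h : Two F L A al b l m el em) {c : F} (hc : c ≠ 0) :
    ∃ r : H, r * b = b * r ∧ r • l = c • l ∧ r • m = c⁻¹ • m := by
  have key : ∀ c : F, c ≠ 0 → ∃ r : H, r * b = b * r ∧ r • l = c⁻¹ • m ∧ r • m = c • l := by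
    intro c hc
    obtain ⟨t, t1, t2, t3⟩ := G.exists_tv h c
    obtain ⟨s, s1, s2, s3⟩ := G.exists_tv (h.symm G) c⁻¹
    refine ⟨t * s * t, ?_, ?_, ?_⟩
    · calc t * s * t * b = t * s * (t * b) := by group
        _ = t * (s * b) * t := by rw [t1]; group
        _ = (t * b) * s * t := by rw [s1]; group
        _ = b * (t * s * t) := by rw [t1]; group
    · rw [mul_smul, mul_smul, t2, s3, smul_add, t2, G.lin, t3, smul_add, smul_smul, inv_mul_cancel₀ hc, one_smul,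
        add_comm (c⁻¹ • m) l, G.two_left]
    · have e1 : s • (m + c • l) = c • l := by
        rw [smul_add, s2, G.lin, s3, smul_add, smul_smul, mul_inv_cancel₀ hc, one_smul, add_comm (c • l) m, G.two_left]
      rw [mul_smul, mul_smul, t3, e1, G.lin, t2]
  obtain ⟨r, r1, r2, r3⟩ := key c hc
  obtain ⟨s, s1, s2, s3⟩ := key 1 one_ne_zero
  refine ⟨r * s, ?_, ?_, ?_⟩
  · calc r * s * b = r * (s * b) := by group
      _ = r * b * s := by rw [s1]; group
      _ = b * (r * s) := by rw [r1]; group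
  · rw [mul_smul, s2, inv_one, one_smul, r3]
  · rw [mul_smul, s3, one_smul, r2]

/-- the coefficient `d` vanishes -/
theorem act' (h : Two F L A al b l m el em)
    (one : ∀ {l : M}, l ∈ L → ∀ x y, al l x ≠ 1 → ∃ c : F, al l (y + c • x) = 1) (hb : b ≠ 1) {x : M}
    (hx : al l x = b) {c : F} (hc : c ≠ 0) (hc1 : c ≠ 1) (f : F) :
    al l (f • x) • em = em + f • m := by
  obtain ⟨r, r1, r2, r3⟩ := G.exists_torus h hc
  obtain ⟨a1, a2, d, a3⟩ := G.act h one hx f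
  obtain ⟨a, ha⟩ : ∃ a, a = al l (f • x) := ⟨_, rfl⟩
  rw [← ha] at a1 a2 a3 ⊢
  have hal : a ∈ A l := ha ▸ G.al_mem h.hl _
  have rb : ∀ y : M, b • (r • y) = r • (b • y) := fun y => by rw [← mul_smul, ← r1, mul_smul]
  have rbi : ∀ y : M, b • (r⁻¹ • y) = r⁻¹ • (b • y) := fun y => by
    rw [eq_inv_smul_iff, ← rb, smul_inv_smul]
  have ril : r⁻¹ • l = c⁻¹ • l := by
    rw [inv_smul_eq_iff, G.lin, r2, smul_smul, inv_mul_cancel₀ hc, one_smul]
  have rim : r⁻¹ • m = c • m := by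
    rw [inv_smul_eq_iff, G.lin, r3, smul_smul, mul_inv_cancel₀ hc, one_smul]
  -- `r⁻¹ e_l`, `r⁻¹ e_m`
  have h1 : b • (r⁻¹ • el + c⁻¹ • el) = r⁻¹ • el + c⁻¹ • el := by
    rw [smul_add, rbi, h.bel, smul_add, ril, G.lin, h.bel, smul_add]
    calc r⁻¹ • el + c⁻¹ • l + (c⁻¹ • el + c⁻¹ • l) = r⁻¹ • el + c⁻¹ • el + (c⁻¹ • l + c⁻¹ • l) := by abel
      _ = _ := by rw [G.two, add_zero]
  have h2 : b • (r⁻¹ • em + c • em) = r⁻¹ • em + c • em := by
    rw [smul_add, rbi, h.bem, smul_add, rim, G.lin, h.bem, smul_add]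
    calc r⁻¹ • em + c • m + (c • em + c • m) = r⁻¹ • em + c • em + (c • m + c • m) := by abel
      _ = _ := by rw [G.two, add_zero]
  have h3 : a • (r⁻¹ • el) = r⁻¹ • el + (c⁻¹ * f) • l := by
    have h4 := a1 _ h1
    rw [smul_add, G.lin, a2, smul_add, smul_smul c⁻¹ f l] at h4
    calc a • (r⁻¹ • el) = (a • (r⁻¹ • el) + (c⁻¹ • el + (c⁻¹ * f) • l)) + (c⁻¹ • el + (c⁻¹ * f) • l) := by
            rw [add_assoc, G.two, add_zero]
      _ = r⁻¹ • el + c⁻¹ • el + (c⁻¹ • el + (c⁻¹ * f) • l) := by rw [h4]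
      _ = r⁻¹ • el + (c⁻¹ * f) • l + (c⁻¹ • el + c⁻¹ • el) := by abel
      _ = _ := by rw [G.two, add_zero]
  have h5 : a • (r⁻¹ • em) = r⁻¹ • em + c • (f • m + d • l) := by
    have h4 := a1 _ h2
    rw [smul_add, G.lin, a3, smul_add] at h4
    calc a • (r⁻¹ • em) = (a • (r⁻¹ • em) + (c • em + c • (f • m + d • l))) + (c • em + c • (f • m + d • l)) := by
            rw [add_assoc, G.two, add_zero]
      _ = r⁻¹ • em + c • em + (c • em + c • (f • m + d • l)) := by rw [h4]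
      _ = r⁻¹ • em + c • (f • m + d • l) + (c • em + c • em) := by abel
      _ = _ := by rw [G.two, add_zero]
  -- `a' = r a r⁻¹`
  have ha' : r * a * r⁻¹ ∈ A l := by
    have := G.A_conj r h.hl hal
    rwa [r2, G.A_sm hc h.hl] at this
  have h6 : (r * a * r⁻¹) • el = el + f • l := by
    rw [mul_smul, mul_smul, h3, smul_add, smul_inv_smul, G.lin, r2, smul_smul]
    congr 2
    field_simp
  have h7 : (r * a * r⁻¹) • em = em + (f • m + (c * c * d) • l) := by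
    rw [mul_smul, mul_smul, h5, smul_add, smul_inv_smul, G.lin, smul_add, G.lin, G.lin, r2, r3, smul_add, smul_smul,
      smul_smul, smul_smul, smul_smul]
    congr 3
    · field_simp
    · ring
  obtain ⟨f', hf'⟩ := G.exists_f h one hb (x := x) (a := r * a * r⁻¹) hx ha'
  obtain ⟨-, b2, -⟩ := G.act h one hx f'
  rw [← hf', h6] at b2
  have h8 : f' = f := by
    have h9 := add_left_cancel b2
    have h10 : (f - f') • l = 0 := by rw [sub_smul, h9, sub_self]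
    exact (sub_eq_zero.1 ((smul_eq_zero.1 h10).resolve_right (G.ne_zero h.hl))).symm
  rw [h8, ← ha] at hf'
  rw [hf', a3] at h7
  have h9 := add_left_cancel (add_left_cancel h7)
  have h10 : (d - c * c * d) • l = 0 := by rw [sub_smul, h9, sub_self]
  have h11 := (smul_eq_zero.1 h10).resolve_right (G.ne_zero h.hl)
  have h12 : (1 : F) + 1 = 0 := by
    have : ((1 : F) + 1) • l = 0 := by rw [add_smul, one_smul, G.two]
    exact (smul_eq_zero.1 this).resolve_right (G.ne_zero h.hl)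
  have h13 : d * ((1 + c) * (1 + c)) = 0 := by
    have : d * ((1 + c) * (1 + c)) = (d - c * c * d) + (c * c * d + c * d) * (1 + 1) := by ring
    rw [this, h11, h12, mul_zero, add_zero]
  have h14 : 1 + c ≠ 0 := by
    intro h15
    apply hc1
    calc c = (1 + c) + 1 - (1 + 1) := by ring
      _ = 1 := by rw [h15, h12]; ring
  have hd : d = 0 := (mul_eq_zero.1 h13).resolve_right (mul_ne_zero h14 h14)
  rw [a3, hd, zero_smul, add_zero]

/-- `A l ≤ A m` -/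
theorem A_le_of_two (h : Two F L A al b l m el em)
    (one : ∀ {l : M}, l ∈ L → ∀ x y, al l x ≠ 1 → ∃ c : F, al l (y + c • x) = 1) (hb : b ≠ 1)
    {c : F} (hc : c ≠ 0) (hc1 : c ≠ 1) : A l ≤ A m := by
  intro a ha
  obtain ⟨x, hx⟩ := G.al_surj h.hl h.bl
  obtain ⟨y, hy⟩ := G.al_surj h.hm h.bm
  obtain ⟨f, rfl⟩ := G.exists_f h one hb (x := x) (a := a) hx ha
  have h' := h.symm G
  obtain ⟨a1, a2, -⟩ := G.act h one hx f
  obtain ⟨b1, b2, -⟩ := G.act h' one hy f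
  have a3 := G.act' h one hb hx hc hc1 f
  have b3 := G.act' h' one hb hy hc hc1 f
  have key : al l (f • x) = al m (f • y) := by
    have h1 : (al m (f • y))⁻¹ * al l (f • x) = 1 := by
      refine G.faith _ fun z => ?_
      rw [mul_smul, inv_smul_eq_iff]
      obtain ⟨c, d, w, hw, hbw, e⟩ := G.dec h one z
      rw [e, smul_add, smul_add, smul_add, smul_add, a1 w hbw, b1 w hbw, G.lin, G.lin, G.lin, G.lin, a2, a3, b2, b3]
    exact (inv_mul_eq_one.1 h1).symm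
  rw [key]
  exact G.al_mem h.hm _

/-- **`|A| = q`, `1 ≠ b ∈ A_l ∩ A_m` ⟹ `A_l = A_m`** -/
theorem A_eq (one : ∀ {l : M}, l ∈ L → ∀ x y, al l x ≠ 1 → ∃ c : F, al l (y + c • x) = 1)
    (hq : ∃ c : F, c ≠ 0 ∧ c ≠ 1) {b : H} {l m : M} (hl : l ∈ L) (hm : m ∈ L) (np : NP F l m)
    (hbl : b ∈ A l) (hbm : b ∈ A m) (hb : b ≠ 1) : A l = A m := by
  obtain ⟨el, em, h⟩ := G.exists_two hl hm np hbl hbm hb
  obtain ⟨c, hc, hc1⟩ := hq
  exact le_antisymm (G.A_le_of_two h one hb hc hc1) (G.A_le_of_two (h.symm G) one hb hc hc1)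

/-- in this situation `M = Ebar_l + Ebar_m` -/
theorem exists_sum (one : ∀ {l : M}, l ∈ L → ∀ x y, al l x ≠ 1 → ∃ c : F, al l (y + c • x) = 1)
    {b : H} {l m : M} (hl : l ∈ L) (hm : m ∈ L) (np : NP F l m)
    (hbl : b ∈ A l) (hbm : b ∈ A m) (hb : b ≠ 1) (x : M) : ∃ y z, al l y = 1 ∧ al m z = 1 ∧ x = y + z := by
  obtain ⟨el, em, h⟩ := G.exists_two hl hm np hbl hbm hb
  obtain ⟨c, d, y, hy, hby, e⟩ := G.dec h one x
  refine ⟨y + d • el, c • em, ?_, G.al_sm_one hm c h.oem, ?_⟩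
  · rw [G.al_add hl, hy, G.al_sm_one hl d h.oel, one_mul]
  · rw [e]; abel

end

end Pre

end Cfsg.Agent.Omega.NO3S.OneQ.TIq

end

section


/-!
# NO-3S, `OneSz` (`q ≥ 4`, `n = 1`), case (N): `LocK ⟹ Pre` (no TI, no `D_x = I`)
-/

set_option autoImplicit false

namespace Cfsg.Agent.Omega.NO3S.OneQ.TIq.LocK

variable {F M H : Type*} [Field F] [AddCommGroup M] [Module F M] [Group H] [DistribMulAction H M]
  [SMulCommClass H F M] {v0 : M} {A0 : Subgroup H} {I0 : Submodule F M} {al0 : M → H} {Kt0 : Subgroup H}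
  (D : LocK F v0 A0 I0 al0 Kt0)
include D

/-- **the record `TIq.Pre`** (helper248) -/
theorem toPre : Pre F (LL F H v0) (AA F v0 A0) (II F (H := H) v0 I0) (AL F v0 al0) (AA F v0 Kt0) where
  two := D.two
  lin := Loc.lin
  zero := D.zero_notMem
  fsm := Loc.fsm_mem
  A_sm := D.at_A_sm
  A_conj := D.at_A_conj
  sq := D.at_sq
  self := D.at_self
  comm := D.at_comm
  fix := D.at_fix
  al_mem := D.at_al_mem
  al_add := fun _ => D.at_al_add
  al_surj := D.at_al_surj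
  al_ker := D.at_al_ker
  phl := fun _ => D.at_phl
  bl := D.at_bl
  dual := D.at_dual
  faith := D.faith
  Kt_sm := D.at_Kt_sm
  Kt_fix := D.at_Kt_fix
  Kt_A := D.at_Kt_A
  Kt_hom := D.at_Kt_hom

end Cfsg.Agent.Omega.NO3S.OneQ.TIq.LocK

end

section


/-!
# NO-3S, `OneSz` (`q ≥ 4`, `n = 1`), case (N), every `D_x`: the weaker record at one vector, pure form

* `LocW` : `Loc` with `Kt0`, without `Kt_E`, `Kt_I`, `Kt_two`;
* `LocW.toPre` : the record `TIq.Pre` (helper248);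
* `LocW.toSg`, `Loc.toSg` : the record `Sg.Pre` (helper46).
-/

set_option autoImplicit false
set_option linter.unusedSectionVars false

namespace Cfsg.Agent.Omega.NO3S.OneQ.TIq

/-- the facts at one vector, with `Kt0`, every `D_x` -/
structure LocW (F : Type*) {M H : Type*} [Field F] [AddCommGroup M] [Module F M] [Group H] [DistribMulAction H M]
    (v0 : M) (A0 : Subgroup H) (I0 : Submodule F M) (al0 : M → H) (Kt0 : Subgroup H) : Prop
    extends Loc F v0 A0 I0 al0 where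
  faith : ∀ x : H, (∀ m : M, x • m = m) → x = 1
  sK : ∀ {x t : H} {c : F}, x • v0 = c • v0 → t ∈ Kt0 → x * t * x⁻¹ ∈ Kt0
  A_le_Kt : A0 ≤ Kt0
  Kt_fix : ∀ {t : H}, t ∈ Kt0 → t • v0 = v0
  Kt_A : ∀ {t a : H}, t ∈ Kt0 → a ∈ A0 → t * a = a * t
  Kt_hom : ∀ {u : M}, u ∈ I0 → NP F v0 u → ∃ t ∈ Kt0, t • u = u + v0

namespace Loc

variable {F M H : Type*} [Field F] [AddCommGroup M] [Module F M] [Group H] [DistribMulAction H M]
  [SMulCommClass H F M] {v0 : M} {A0 : Subgroup H} {I0 : Submodule F M} {al0 : M → H}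
  (D : Loc F v0 A0 I0 al0)
include D

/-- **the record `Sg.Pre`** -/
theorem toSg (hpl : ∀ {x : H} (c : F), x • v0 ∈ I0 → v0 + c • x • v0 = 0 ∨ v0 + c • x • v0 ∈ LL F H v0) :
    Sg.Pre F (LL F H v0) (AA F v0 A0) (II F (H := H) v0 I0) (AL F v0 al0) where
  two := D.two
  lin := lin
  zero := D.zero_notMem
  gen := D.span_LL
  smul := fun x _ hl => smul_mem x hl
  fsm := fsm_mem
  A_sm := D.at_A_sm
  I_sm := D.at_I_sm
  trans := trans
  A_conj := D.at_A_conj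
  I_conj := D.at_I_conj
  sq := D.at_sq
  ne := D.at_ne
  self := D.at_self
  comm := D.at_comm
  fix := D.at_fix
  plane := D.at_plane hpl
  al_mem := D.at_al_mem
  al_add := fun _ => D.at_al_add
  al_surj := D.at_al_surj
  al_conj := D.at_al_conj
  al_ker := D.at_al_ker
  sy := D.at_sy
  phl := fun _ => D.at_phl
  bl := D.at_bl
  dual := D.at_dual

end Loc

namespace LocW

variable {F M H : Type*} [Field F] [AddCommGroup M] [Module F M] [Group H] [DistribMulAction H M]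
  [SMulCommClass H F M] {v0 : M} {A0 : Subgroup H} {I0 : Submodule F M} {al0 : M → H} {Kt0 : Subgroup H}
  (D : LocW F v0 A0 I0 al0 Kt0)
include D

open Loc (lin)

theorem mem_KT {l : M} {x a : H} {c : F} (hc : c ≠ 0) (hx : l = c • x • v0) :
    a ∈ AA F v0 Kt0 l ↔ x⁻¹ * a * x ∈ Kt0 := by
  have hl : l ∈ LL F H v0 := ⟨x, c, hc, hx⟩
  obtain ⟨d, hd, hg⟩ := rr_spec F H hl
  unfold AA
  obtain ⟨g, hgd⟩ : ∃ g, g = rr F H v0 l := ⟨_, rfl⟩
  rw [← hgd] at hg ⊢
  have h0 : a ∈ Kt0.map (MulAut.conj g).toMonoidHom ↔ g⁻¹ * a * g ∈ Kt0 := by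
    rw [Subgroup.mem_map]
    constructor
    · rintro ⟨b, hb, rfl⟩
      have e : g⁻¹ * ((MulAut.conj g).toMonoidHom b) * g = b := by
        change g⁻¹ * (g * b * g⁻¹) * g = b
        group
      rw [e]; exact hb
    · intro hb
      refine ⟨_, hb, ?_⟩
      change g * (g⁻¹ * a * g) * g⁻¹ = a
      group
  rw [h0]
  have e1 := hx.symm.trans hg
  constructor
  · intro ha
    have := D.sK (D.stab' hd hc e1.symm) ha
    have e : x⁻¹ * g * (g⁻¹ * a * g) * (x⁻¹ * g)⁻¹ = x⁻¹ * a * x := by group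
    rwa [e] at this
  · intro ha
    have := D.sK (D.stab' hc hd e1) ha
    have e : g⁻¹ * x * (x⁻¹ * a * x) * (g⁻¹ * x)⁻¹ = g⁻¹ * a * g := by group
    rwa [e] at this

theorem at_Kt_sm {c : F} {l : M} (hc : c ≠ 0) (hl : l ∈ LL F H v0) : AA F v0 Kt0 (c • l) = AA F v0 Kt0 l := by
  obtain ⟨x, d, hd, hx⟩ := hl
  ext a
  rw [D.mem_KT (mul_ne_zero hc hd) (by rw [hx, smul_smul]), D.mem_KT hd hx]

theorem at_Kt_conj (y : H) {l : M} {a : H} (hl : l ∈ LL F H v0) (ha : a ∈ AA F v0 Kt0 l) :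
    y * a * y⁻¹ ∈ AA F v0 Kt0 (y • l) := by
  obtain ⟨x, d, hd, hx⟩ := hl
  rw [D.mem_KT hd hx] at ha
  rw [D.mem_KT (x := y * x) hd (by rw [hx, lin, mul_smul])]
  have e : (y * x)⁻¹ * (y * a * y⁻¹) * (y * x) = x⁻¹ * a * x := by group
  rw [e]; exact ha

theorem at_Kt_fix {l : M} {t : H} (hl : l ∈ LL F H v0) (ht : t ∈ AA F v0 Kt0 l) : t • l = l := by
  obtain ⟨x, d, hd, hx⟩ := hl
  rw [D.mem_KT hd hx] at ht
  have h1 := D.Kt_fix ht
  rw [hx, lin]
  congr 1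
  calc t • x • v0 = x • (x⁻¹ * t * x) • v0 := by
        rw [smul_smul, smul_smul]
        congr 1
        group
    _ = x • v0 := by rw [h1]

theorem at_Kt_A {l : M} {t a : H} (hl : l ∈ LL F H v0) (ht : t ∈ AA F v0 Kt0 l) (ha : a ∈ AA F v0 A0 l) :
    t * a = a * t := by
  obtain ⟨x, d, hd, hx⟩ := hl
  rw [D.mem_KT hd hx] at ht
  rw [D.mem_AA hd hx] at ha
  have h1 := D.Kt_A ht ha
  calc t * a = x * ((x⁻¹ * t * x) * (x⁻¹ * a * x)) * x⁻¹ := by group
    _ = x * ((x⁻¹ * a * x) * (x⁻¹ * t * x)) * x⁻¹ := by rw [h1]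
    _ = a * t := by group

theorem at_Kt_hom {l u : M} (hl : l ∈ LL F H v0) (hu : u ∈ II F (H := H) v0 I0 l) (hnp : NP F l u) :
    ∃ t ∈ AA F v0 Kt0 l, t • u = u + l := by
  obtain ⟨x, d, hd, hx⟩ := hl
  have hu' := (D.mem_II hd hx).1 hu
  -- `u' = d⁻¹ x⁻¹ u`
  have h1 : d⁻¹ • x⁻¹ • u ∈ I0 := I0.smul_mem _ hu'
  obtain ⟨t, ht, htu⟩ := D.Kt_hom h1 (fun c hc => hnp c (by
    have h2 : u = d • x • d⁻¹ • x⁻¹ • u := by
      rw [lin, smul_smul d, mul_inv_cancel₀ hd, one_smul, smul_inv_smul]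
    rw [h2, hc, hx, lin, smul_smul, smul_smul, mul_comm]))
  refine ⟨x * t * x⁻¹, ?_, ?_⟩
  · rw [D.mem_KT hd hx]
    have e : x⁻¹ * (x * t * x⁻¹) * x = t := by group
    rw [e]; exact ht
  · have h3 := congrArg (fun w => d • x • w) htu
    simp only [lin, smul_add] at h3
    rw [smul_smul d d⁻¹, mul_inv_cancel₀ hd, one_smul, smul_inv_smul, ← hx, smul_smul d d⁻¹, mul_inv_cancel₀ hd,
      one_smul] at h3
    rw [mul_smul, mul_smul]
    exact h3

/-- planes -/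
theorem pl {x : H} (c : F) (hx : x • v0 ∈ I0) : v0 + c • x • v0 = 0 ∨ v0 + c • x • v0 ∈ LL F H v0 := by
  by_cases hnp : NP F v0 (c • x • v0)
  · right
    obtain ⟨t, -, ht⟩ := D.Kt_hom (I0.smul_mem c hx) hnp
    have hc : c ≠ 0 := by
      rintro rfl
      exact hnp 0 (by rw [zero_smul, zero_smul])
    refine ⟨t * x, c, hc, ?_⟩
    rw [add_comm, ← ht, mul_smul, lin]
  · unfold NP at hnp
    push Not at hnp
    obtain ⟨b, hb⟩ := hnp
    rw [hb]
    by_cases h0 : 1 + b = 0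
    · left
      have e : v0 + b • v0 = (1 + b) • v0 := by rw [add_smul, one_smul]
      rw [e, h0, zero_smul]
    · right
      exact ⟨1, 1 + b, h0, by rw [one_smul, add_smul, one_smul]⟩

/-- **the record `TIq.Pre`** -/
theorem toPre : Pre F (LL F H v0) (AA F v0 A0) (II F (H := H) v0 I0) (AL F v0 al0) (AA F v0 Kt0) where
  two := D.two
  lin := Loc.lin
  zero := D.zero_notMem
  fsm := Loc.fsm_mem
  A_sm := D.at_A_sm
  A_conj := D.at_A_conj
  sq := D.at_sq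
  self := D.at_self
  comm := D.at_comm
  fix := D.at_fix
  al_mem := D.at_al_mem
  al_add := fun _ => D.at_al_add
  al_surj := D.at_al_surj
  al_ker := D.at_al_ker
  phl := fun _ => D.at_phl
  bl := D.at_bl
  dual := D.at_dual
  faith := D.faith
  Kt_sm := D.at_Kt_sm
  Kt_fix := D.at_Kt_fix
  Kt_A := D.at_Kt_A
  Kt_hom := D.at_Kt_hom

/-- **the record `Sg.Pre`** -/
theorem toSg : Sg.Pre F (LL F H v0) (AA F v0 A0) (II F (H := H) v0 I0) (AL F v0 al0) :=
  D.toLoc.toSg fun c hx => D.pl c hx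

end LocW

end Cfsg.Agent.Omega.NO3S.OneQ.TIq

end
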