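import Cfsg.Agent.Mrg.Omega.TwoFFour.Root
import Cfsg.Agent.Mrg.Omega.Close.Base
import Cfsg.Agent.Mrg.Omega.TwoFFour.Cores

section


/-!
# THEOREM 2F4: the exit

`Oct.bn2` : `⟨P₀, P₁⟩` has a split BN-pair of rank 2;
`Oct.known` : closing, if all members of `L(S)` normalise `⟨P₀, P₁⟩`;
`Oct.known_of_par` : closing, if `N_G(S)` and all minimal parabolic subgroups lie in `⟨P₀, P₁⟩`.
-/

set_option autoImplicit false

universe u

namespace Cfsg.Agent.Omega.TwoFFour

open Subgroup Cfsg.Agent.Omega.MinPar Cfsg.Agent.Omega.Frame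
open Cfsg.Agent.Omega.Close.Base

namespace Oct

variable {G : Type u} [Group G] [Finite G] {P Q : Bool → Subgroup G} {n : Bool → G}
  {B S H Z W O : Subgroup G} {N : ℕ} {θ : ZMod N} {x y : G → ZMod N}

theorem bn2 (h : Oct P Q n B S H Z W O θ x y) (hB : RootLemma.Bender.{u}) : BN2 (P false ⊔ P true : Subgroup G) := by
  obtain ⟨R, hr, hs, -, -⟩ := h.exists_split hB rfl
  exact ⟨R, by omega, hs⟩

/-- **closing** -/
theorem known (h : Oct P Q n B S H Z W O θ x y) (hB : RootLemma.Bender.{u}) (h44 : Exits.St1144.{u}) (hG : Ctx G)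
    {T : Sylow 2 G} (hF : Full (T : Subgroup G))
    (hL : ∀ L : Subgroup G, IsLoc (T : Subgroup G) L → L ≤ normalizer ((P false ⊔ P true : Subgroup G) : Set G)) :
    IsKnownSimple' G := known_of_bn2 h44 hG hF (h.bn2 hB) hL

/-- **closing**, in terms of the minimal parabolic subgroups -/
theorem known_of_par (h : Oct P Q n B S H Z W O θ x y) (hB : RootLemma.Bender.{u}) (h44 : Exits.St1144.{u}) (hG : Ctx G)
    {T : Sylow 2 G} (hF : Full (T : Subgroup G))
    (hN : normalizer ((T : Subgroup G) : Set G) ≤ P false ⊔ P true)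
    (hP : ∀ R : Subgroup G, IsPar (T : Subgroup G) R → R ≤ P false ⊔ P true) : IsKnownSimple' G := by
  have := hG.simple
  have h1 := h.bn2 hB
  refine known_of_eq_top hG.nonComm (eq_top_of_par hG hF h1.ne_bot (hN.trans le_normalizer)
    fun R hR => (hP R hR).trans le_normalizer) fun hs _ => ?_
  exact h1.known h44

end Oct

end Cfsg.Agent.Omega.TwoFFour

end

section


/-!
# THEOREM 2F4: `Sit` gives the BN-pair and the exit
-/

set_option autoImplicit false

universe u

namespace Cfsg.Agent.Omega.TwoFFour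

open Subgroup Cfsg.Agent.Omega.MinPar Cfsg.Agent.Omega.Frame
open Cfsg.Agent.ZN
open Cfsg.Agent.LieRecognition.SzMatrix (Good)
open Cfsg.Agent.Omega.Close.Base

namespace Sit

variable {G : Type u} [Group G] [Finite G] {F : Type*} [Field F] {θ : F →+* F} {e : ℕ} {H : Good F θ e}
  {S : Sylow 2 G} {V Z W : Subgroup G}

/-- `⟨N(Z), N(V)⟩` has a split BN-pair of rank 2. -/
theorem bn2 (h : Sit F H S V Z W) (hB : RootLemma.Bender.{u})
    (hC2 : ∀ v ∈ Z, v ≠ 1 → centralizer ({v} : Set G) ⊓ centralizer (o2 (centralizer ({v} : Set G)) : Set G) ≤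
      o2 (centralizer ({v} : Set G))) :
    BN2 (normalizer (Z : Set G) ⊔ normalizer (V : Set G) : Subgroup G) := by
  obtain ⟨n, Hh, N, t, x, y, ho⟩ := h.exists_oct hC2
  exact ho.bn2 hB

/-- **closing**: `N_G(S)` and all minimal parabolic subgroups lie in `⟨N(Z), N(V)⟩` -/
theorem known_of_par (h : Sit F H S V Z W) (hB : RootLemma.Bender.{u}) (h44 : Exits.St1144.{u}) (hG : Ctx G)
    (hC2 : ∀ v ∈ Z, v ≠ 1 → centralizer ({v} : Set G) ⊓ centralizer (o2 (centralizer ({v} : Set G)) : Set G) ≤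
      o2 (centralizer ({v} : Set G)))
    {T : Sylow 2 G} (hF : Full (T : Subgroup G))
    (hN : normalizer ((T : Subgroup G) : Set G) ≤ normalizer (Z : Set G) ⊔ normalizer (V : Set G))
    (hP : ∀ R : Subgroup G, IsPar (T : Subgroup G) R → R ≤ normalizer (Z : Set G) ⊔ normalizer (V : Set G)) :
    IsKnownSimple' G := by
  obtain ⟨n, Hh, N, t, x, y, ho⟩ := h.exists_oct hC2
  exact ho.known_of_par hB h44 hG hF hN hP

end Sit

end Cfsg.Agent.Omega.TwoFFour

end
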