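import Cfsg.Agent.Mrg.RankTwoClose.BN
import Cfsg.Agent.Mrg.RankTwoClose.Braid


/-!
# THEOREM 2F4, (7d): the root pair in `P₀`, the braid relation of length 8, the split BN-pair

`w = n₁ n₀ n₁`, `A⁺ = w⁻¹ A w = ker (θ χ₂ - χ₀)`, `E⁺ = w⁻¹ E w ≤ S` (regular on the chambers `≠ B` of the panel
of `P₀`), `E⁻ = n₀ E⁺ n₀⁻¹`, `K = ⟨E⁺, E⁻⟩`.
-/

set_option autoImplicit false
set_option linter.unusedSectionVars false

universe u

namespace Cfsg.Agent.Omega.TwoFFour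

open Subgroup Cfsg.Agent.Omega.BTwo Cfsg.Agent.RankTwoClose Cfsg.Agent.Omega.RootLemma

/-- Sylow's theorem for a maximal 2-subgroup `U` of `K`. -/
theorem exists_conj_le {G : Type*} [Group G] [Finite G] {K U V : Subgroup G} (hU : IsPGroup 2 U)
    (hmax : ∀ R : Subgroup G, R ≤ K → IsPGroup 2 R → U ≤ R → R ≤ U) (hUK : U ≤ K)
    (hV : IsPGroup 2 V) (hVK : V ≤ K) : ∃ k ∈ K, ∀ v ∈ V, k * v * k⁻¹ ∈ U := by
  have hp : Fact (Nat.Prime 2) := ⟨Nat.prime_two⟩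
  obtain ⟨T, hT⟩ := (hU.comap_subtype (K := K)).exists_le_sylow
  have hTU : ∀ t : K, t ∈ T → (t : G) ∈ U := by
    intro t ht
    refine hmax ((T : Subgroup K).map K.subtype) (map_subtype_le _) (T.isPGroup'.map _) ?_ ⟨t, ht, rfl⟩
    intro u hu
    exact ⟨⟨u, hUK hu⟩, hT (mem_subgroupOf.2 hu), rfl⟩
  obtain ⟨R, hR⟩ := (hV.comap_subtype (K := K)).exists_le_sylow
  obtain ⟨g, hg⟩ := MulAction.exists_smul_eq K R T
  refine ⟨g, g.2, fun v hv => ?_⟩
  have h1 : (⟨v, hVK hv⟩ : K) ∈ R := hR (mem_subgroupOf.2 hv)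
  have h2 : g * (⟨v, hVK hv⟩ : K) * g⁻¹ ∈ (T : Subgroup K) := by
    rw [← hg]
    exact smul_mem_pointwise_smul _ (MulAut.conj g) _ h1
  exact hTU _ h2

namespace Oct

variable {G : Type u} [Group G] {P Q : Bool → Subgroup G} {n : Bool → G} {B S H Z W O : Subgroup G}
  {N : ℕ} {θ : ZMod N} {x y : G → ZMod N}

section root

/-- `w = n₁ n₀ n₁`, the reflection at `u₂`. -/
def w (_ : Oct P Q n B S H Z W O θ x y) : G := n true * n false * n true

variable [Finite G] (h : Oct P Q n B S H Z W O θ x y)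
include h

/-- `A⁺` -/
def Ap : Subgroup G := cj h.w⁻¹ h.A

/-- `E⁺` -/
def Ep : Subgroup G := cj h.w⁻¹ h.E

/-- `E⁻` -/
def Em : Subgroup G := cj (n false) h.Ep

/-- `K` -/
def K : Subgroup G := h.Ep ⊔ h.Em

theorem w_norm : h.w ∈ normalizer (H : Set G) := mul_mem h.tau_norm (h.n_norm true)

theorem mem_Ap {t : G} : t ∈ h.Ap ↔ t ∈ H ∧ θ * y t = x t := by
  unfold Ap
  rw [mem_cj, inv_inv, h.mem_A]
  have e : ∀ t : G, h.w * t * h.w⁻¹ = n true * (n false * (n true * t * (n true)⁻¹) * (n false)⁻¹) *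
      (n true)⁻¹ := by
    intro t
    unfold w
    group
  constructor
  · rintro ⟨h1, h2⟩
    have ht : t ∈ H := by
      have := h.H_conj h.w_norm h1
      have e1 : h.w⁻¹ * (h.w * t * h.w⁻¹) * h.w = t := by group
      rwa [e1] at this
    refine ⟨ht, ?_⟩
    rw [e, h.x₁' (h.n_conj false (h.n_conj true ht)), h.y₀' (h.n_conj true ht), h.x₁' ht,
      h.y₁' ht] at h2
    linear_combination h2
  · rintro ⟨ht, h2⟩
    refine ⟨conj_mem_of_normalizer h.w_norm ht, ?_⟩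
    rw [e, h.x₁' (h.n_conj false (h.n_conj true ht)), h.y₀' (h.n_conj true ht), h.x₁' ht, h.y₁' ht]
    linear_combination h2

theorem cj_Ap : cj (n false) h.Ap = h.Ap := by
  ext t
  rw [mem_cj, h.mem_Ap, h.mem_Ap]
  constructor
  · rintro ⟨h1, h2⟩
    have ht : t ∈ H := by
      have := h.n_conj false h1
      have e1 : n false * ((n false)⁻¹ * t * n false) * (n false)⁻¹ = t := by group
      rwa [e1] at this
    refine ⟨ht, ?_⟩
    rw [h.x₀ t ht, h.y₀ t ht] at h2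
    linear_combination -h2 + x t * h.sq
  · rintro ⟨ht, h2⟩
    refine ⟨h.n_conj' false ht, ?_⟩
    rw [h.x₀ t ht, h.y₀ t ht]
    linear_combination -h2 + x t * h.sq

theorem Ep_cen : ∀ s ∈ h.Ep, ∀ a ∈ h.Ap, s * a = a * s := by
  intro s hs a ha
  unfold Ep at hs
  unfold Ap at ha
  rw [mem_cj] at hs ha
  have h1 := (h.mem_E.1 hs).2 _ ha
  rw [inv_inv] at h1
  have e1 : a * s = h.w⁻¹ * (h.w * a * h.w⁻¹ * (h.w * s * h.w⁻¹)) * h.w := by group
  have e2 : s * a = h.w⁻¹ * (h.w * s * h.w⁻¹ * (h.w * a * h.w⁻¹)) * h.w := by group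
  rw [e1, e2, h1]

theorem Em_cen : ∀ s ∈ h.Em, ∀ a ∈ h.Ap, s * a = a * s := by
  intro s hs a ha
  unfold Em at hs
  rw [← h.cj_Ap] at ha
  rw [mem_cj] at hs ha
  have h1 := h.Ep_cen _ hs _ ha
  have e1 : a * s = n false * (((n false)⁻¹ * a * n false) * ((n false)⁻¹ * s * n false)) * (n false)⁻¹ := by
    group
  have e2 : s * a = n false * (((n false)⁻¹ * s * n false) * ((n false)⁻¹ * a * n false)) * (n false)⁻¹ := by
    group
  rw [e1, e2, h1]

theorem K_cen : ∀ s ∈ h.K, ∀ a ∈ h.Ap, s * a = a * s := by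
  have h1 : h.K ≤ centralizer (h.Ap : Set G) := by
    refine sup_le ?_ ?_
    · intro s hs
      exact mem_centralizer_iff.2 fun a ha => (h.Ep_cen s hs a ha).symm
    · intro s hs
      exact mem_centralizer_iff.2 fun a ha => (h.Em_cen s hs a ha).symm
  intro s hs a ha
  exact (mem_centralizer_iff.1 (h1 hs) a ha).symm

theorem Ep_le_S : h.Ep ≤ S := by
  have h1 := cj_mono (g := h.w⁻¹) h.E_le₃
  have e : cj h.w⁻¹ (cj (n true * n false * n true) S) = S := cj_inv_cj h.w S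
  rwa [e] at h1

theorem Ep_inf : h.Ep ⊓ Q false = ⊥ := by
  have h1 := congrArg (cj h.w⁻¹) h.E_inf
  rw [cj_inf, h.cj_tau_Q, cj_bot] at h1
  have e : cj h.w⁻¹ (cj (n true * n false * n true) (Q false)) = Q false := cj_inv_cj h.w _
  rwa [e] at h1

theorem Ep_cov {s : G} (hs : s ∈ S) : ∃ e ∈ h.Ep, e⁻¹ * s ∈ Q false := by
  obtain ⟨e, he, heq⟩ := h.E_cov (h.w * s * h.w⁻¹) (conj_mem_cj hs)
  refine ⟨h.w⁻¹ * e * h.w, ?_, ?_⟩
  · unfold Ep
    rw [mem_cj, inv_inv]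
    have e1 : h.w * (h.w⁻¹ * e * h.w) * h.w⁻¹ = e := by group
    rwa [e1]
  · have h2 := mem_cj.1 heq
    have e1 : ∀ g : G, g⁻¹ * (e⁻¹ * (g * s * g⁻¹)) * g = (g⁻¹ * e * g)⁻¹ * s := by
      intro g; group
    have h3 : h.w⁻¹ * (e⁻¹ * (h.w * s * h.w⁻¹)) * h.w ∈ Q false := h2
    rwa [e1] at h3

theorem Ep_two : IsPGroup 2 h.Ep := h.twoS.to_le h.Ep_le_S

theorem Em_two : IsPGroup 2 h.Em := h.Ep_two.map _

theorem Ep_syl {R : Subgroup G} (hR : IsPGroup 2 R) (hRA : ∀ r ∈ R, ∀ a ∈ h.Ap, r * a = a * r)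
    (hER : h.Ep ≤ R) : R ≤ h.Ep := by
  have h1 : cj h.w R ≤ h.E := by
    refine h.E_syl (hR.map _) ?_ ?_
    · intro r hr a ha
      rw [mem_cj] at hr
      have h2 := hRA _ hr (h.w⁻¹ * a * h.w) (by
        unfold Ap
        rw [mem_cj, inv_inv]
        have e1 : h.w * (h.w⁻¹ * a * h.w) * h.w⁻¹ = a := by group
        rwa [e1])
      have e1 : r * a = h.w * (h.w⁻¹ * r * h.w * (h.w⁻¹ * a * h.w)) * h.w⁻¹ := by group
      have e2 : a * r = h.w * (h.w⁻¹ * a * h.w * (h.w⁻¹ * r * h.w)) * h.w⁻¹ := by group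
      rw [e1, e2, h2]
    · have h2 := cj_mono (g := h.w) hER
      unfold Ep at h2
      rwa [cj_cj_inv] at h2
  have h2 := cj_mono (g := h.w⁻¹) h1
  rwa [cj_inv_cj] at h2

theorem Em_le : h.Em ≤ P false := by
  unfold Em
  rw [cj_le_iff]
  intro s hs
  exact mul_mem (mul_mem (h.n_mem false) (h.B_le false (h.S_le (h.Ep_le_S hs)))) (inv_mem (h.n_mem false))

theorem K_le : h.K ≤ P false := sup_le ((h.Ep_le_S.trans h.S_le).trans (h.B_le false)) h.Em_le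

/-- `E⁺` is transitive on the chambers `≠ B`. -/
theorem Ep_tr {g : G} (hg : g ∈ P false) (hgB : g ∉ B) :
    ∃ e ∈ h.Ep, ∃ b ∈ B, g = e * n false * b := by
  rcases (h.memP false g).1 hg with h1 | ⟨s, hs, c, hc, rfl⟩
  · exact absurd h1 hgB
  · obtain ⟨e, he, hes⟩ := h.Ep_cov hs
    have h2 := h.Q_nrm false _ (inv_mem (h.n_mem false)) _ hes
    rw [inv_inv] at h2
    exact ⟨e, he, (n false)⁻¹ * (e⁻¹ * s) * n false * c,
      mul_mem (h.S_le (h.Q_le false h2)) hc, by group⟩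

/-- `E⁻` is transitive on the chambers `≠ n₀ B`. -/
theorem Em_tr {g : G} (hg : g ∈ P false) (hgB : (n false)⁻¹ * g ∉ B) :
    ∃ f ∈ h.Em, ∃ b ∈ B, g = f * b := by
  obtain ⟨e, he, b, hb, h1⟩ := h.Ep_tr (mul_mem (inv_mem (h.n_mem false)) hg) hgB
  refine ⟨n false * e * (n false)⁻¹, conj_mem_cj he, n false * n false * b,
    mul_mem (h.sq_mem false) hb, ?_⟩
  calc g = n false * ((n false)⁻¹ * g) := by group
    _ = n false * (e * n false * b) := by rw [h1]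
    _ = _ := by group

theorem exists_f : ∃ f ∈ h.Em, f ∉ B := by
  obtain ⟨s, hs, hs'⟩ := h.Q_ne false
  obtain ⟨e, he, hes⟩ := h.Ep_cov hs
  refine ⟨n false * e * (n false)⁻¹, conj_mem_cj he, fun hB => hs' ?_⟩
  have h1 : e ∈ Q false := by
    apply h.Q_max false e (h.Ep_le_S he)
    have e1 : (n false)⁻¹ * e * n false = (n false * n false)⁻¹ * (n false * e * (n false)⁻¹) *
        (n false * n false) := by group
    rw [e1]
    exact mul_mem (mul_mem (inv_mem (h.sq_mem false)) hB) (h.sq_mem false)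
  have e1 : s = e * (e⁻¹ * s) := by group
  rw [e1]
  exact mul_mem h1 hes

/-- an element of `K` interchanging `B` and `n₀ B` -/
theorem exists_k : ∃ k ∈ h.K, (n false)⁻¹ * k ∈ B ∧ k * n false ∈ B := by
  obtain ⟨f, hf, hfB⟩ := h.exists_f
  obtain ⟨e₁, he₁, b, hb, h1⟩ := h.Ep_tr (h.Em_le hf) hfB
  -- `f n₀ ∈ n₀ B`
  obtain ⟨e, he, hfe⟩ : ∃ e ∈ h.Ep, f = n false * e * (n false)⁻¹ := by
    have h2 : f ∈ cj (n false) h.Ep := hf
    exact ⟨_, mem_cj.1 h2, by group⟩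
  have heB : e ∈ B := h.S_le (h.Ep_le_S he)
  have he₁B : e₁ ∈ B := h.S_le (h.Ep_le_S he₁)
  -- `e₁⁻¹ n₀ ∉ n₀ B`
  have h3 : (n false)⁻¹ * (e₁⁻¹ * n false) ∉ B := by
    intro h4
    have h5 : e₁⁻¹ ∈ Q false := by
      apply h.Q_max false _ (inv_mem (h.Ep_le_S he₁))
      have e2 : (n false)⁻¹ * e₁⁻¹ * n false = (n false)⁻¹ * (e₁⁻¹ * n false) := by group
      rwa [e2]
    have h6 : e₁⁻¹ ∈ h.Ep ⊓ Q false := mem_inf.2 ⟨inv_mem he₁, h5⟩
    rw [h.Ep_inf, mem_bot, inv_eq_one] at h6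
    rw [h6, one_mul, hfe] at h1
    -- `n₀ e n₀⁻¹ = n₀ b`
    have h7 : (n false)⁻¹ = e⁻¹ * b := by
      have e3 : (n false)⁻¹ = e⁻¹ * ((n false)⁻¹ * (n false * e * (n false)⁻¹)) := by group
      rw [h1] at e3
      rw [e3]; group
    apply h.n_not false
    rw [← inv_mem_iff, h7]
    exact mul_mem (inv_mem heB) hb
  obtain ⟨f₂, hf₂, b₂, hb₂, h4⟩ := h.Em_tr
    (mul_mem (inv_mem (h.B_le false he₁B)) (h.n_mem false)) h3
  obtain ⟨e₂, he₂, hfe₂⟩ : ∃ e₂ ∈ h.Ep, f₂ = n false * e₂ * (n false)⁻¹ := by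
    have h2 : f₂ ∈ cj (n false) h.Ep := hf₂
    exact ⟨_, mem_cj.1 h2, by group⟩
  refine ⟨f₂⁻¹ * (e₁⁻¹ * f), ?_, ?_, ?_⟩
  · unfold K
    exact mul_mem (inv_mem (mem_sup_right hf₂)) (mul_mem (inv_mem (mem_sup_left he₁)) (mem_sup_right hf))
  · have e3 : (n false)⁻¹ * (f₂⁻¹ * (e₁⁻¹ * f)) = e₂⁻¹ * b := by
      rw [h1, hfe₂]; group
    rw [e3]
    exact mul_mem (inv_mem (h.S_le (h.Ep_le_S he₂))) hb
  · have e3 : f₂⁻¹ * (e₁⁻¹ * f) * n false = f₂⁻¹ * (e₁⁻¹ * n false) * e := by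
      rw [hfe]; group
    rw [e3, h4]
    have e4 : f₂⁻¹ * (f₂ * b₂) * e = b₂ * e := by group
    rw [e4]
    exact mul_mem hb₂ heB

theorem Q_inf_K : h.K ⊓ Q false = ⊥ := by
  rw [eq_bot_iff, ← h.Ep_inf]
  refine le_inf ?_ inf_le_right
  have h1 : IsPGroup 2 (h.K ⊓ Q false : Subgroup G) :=
    h.twoS.to_le (inf_le_right.trans (h.Q_le false))
  have hn : h.Ep ≤ normalizer ((h.K ⊓ Q false : Subgroup G) : Set G) := by
    intro e he
    refine mem_normalizer_of_conj fun q hq => mem_inf.2 ⟨?_, ?_⟩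
    · have heK : e ∈ h.K := mem_sup_left he
      exact mul_mem (mul_mem heK hq.1) (inv_mem heK)
    · exact h.Q_nrm false e (h.B_le false (h.S_le (h.Ep_le_S he))) q hq.2
  have h2 : IsPGroup 2 (h.Ep ⊔ (h.K ⊓ Q false) : Subgroup G) :=
    IsPGroup.to_sup_of_normal_right' h.Ep_two h1 hn
  have h3 := h.Ep_syl h2 (by
    have h4 : h.Ep ⊔ (h.K ⊓ Q false) ≤ h.K := sup_le le_sup_left inf_le_left
    exact fun r hr => h.K_cen r (h4 hr)) le_sup_left
  exact le_sup_right.trans h3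

theorem H_K {t k : G} (ht : t ∈ H) (hk : k ∈ h.K) : t * k * t⁻¹ ∈ h.K := by
  -- `H` normalises `E`
  have hA : ∀ {t a : G}, t ∈ H → a ∈ h.A → t * a * t⁻¹ ∈ h.A := by
    intro t a ht ha
    refine ⟨mul_mem (mul_mem ht ha.1) (inv_mem ht), ?_⟩
    rw [h.x_mul _ (mul_mem ht ha.1) _ (inv_mem ht), h.x_mul _ ht _ ha.1, h.x_inv ht, ha.2]
    ring
  have hE : ∀ {t e : G}, t ∈ H → e ∈ h.E → t * e * t⁻¹ ∈ h.E := by
    intro t e ht he
    refine h.mem_E.2 ⟨h.S_nrm t (h.H_le ht) e (h.mem_E.1 he).1, fun a ha => ?_⟩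
    have h1 := (h.mem_E.1 he).2 _ (hA (inv_mem ht) ha)
    rw [inv_inv] at h1
    have e1 : a * (t * e * t⁻¹) = t * (t⁻¹ * a * t * e) * t⁻¹ := by group
    have e2 : t * e * t⁻¹ * a = t * (e * (t⁻¹ * a * t)) * t⁻¹ := by group
    rw [e1, e2, h1]
  have tr : ∀ {g : G} {R : Subgroup G}, g ∈ normalizer (H : Set G) →
      (∀ {t e : G}, t ∈ H → e ∈ R → t * e * t⁻¹ ∈ R) → ∀ {t e : G}, t ∈ H → e ∈ cj g R →
        t * e * t⁻¹ ∈ cj g R := by
    intro g R hg hR t e ht he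
    rw [mem_cj] at he ⊢
    have h1 := hR (h.H_conj hg ht) he
    have e1 : g⁻¹ * t * g * (g⁻¹ * e * g) * (g⁻¹ * t * g)⁻¹ = g⁻¹ * (t * e * t⁻¹) * g := by group
    rwa [e1] at h1
  have hEp : ∀ {t e : G}, t ∈ H → e ∈ h.Ep → t * e * t⁻¹ ∈ h.Ep := tr (inv_mem h.w_norm) hE
  have hEm : ∀ {t e : G}, t ∈ H → e ∈ h.Em → t * e * t⁻¹ ∈ h.Em := tr (h.n_norm false) hEp
  have h1 : cj t h.K ≤ h.K := by
    unfold K
    rw [cj_sup]
    refine sup_le_sup ?_ ?_
    · rw [cj_le_iff]; exact fun e he => hEp ht he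
    · rw [cj_le_iff]; exact fun e he => hEm ht he
  exact h1 (conj_mem_cj hk)

/-- an element `k` of `K` interchanging `B` and `n₀ B` normalises `H` -/
theorem k_norm {k : G} (hk : k ∈ h.K) (h1 : (n false)⁻¹ * k ∈ B) (h2 : k * n false ∈ B) :
    k ∈ normalizer (H : Set G) := by
  refine mem_normalizer_of_conj fun t ht => ?_
  set g := (n false)⁻¹ * k with hg
  have hkg : k = n false * g := by rw [hg]; group
  have h3 : n false * g * (n false)⁻¹ ∈ B := by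
    have e : n false * g * (n false)⁻¹ = (k * n false) * (n false * n false)⁻¹ := by
      rw [hkg]; group
    rw [e]
    exact mul_mem h2 (inv_mem (h.sq_mem false))
  obtain ⟨s, hs, m, hmB, hmN, hgs⟩ := h.dec h1 h3
  set s' := n false * s * (n false)⁻¹ with hs'
  have hs'Q : s' ∈ Q false := h.Q_nrm false _ (h.n_mem false) s hs
  set t' := n false * (m * t * m⁻¹) * (n false)⁻¹ with ht'
  have ht'H : t' ∈ H := h.n_conj false (conj_mem_of_normalizer hmN ht)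
  have e1 : k * t * k⁻¹ = s' * t' * s'⁻¹ := by rw [hkg, hgs, hs', ht']; group
  set q := t'⁻¹ * (s' * t' * s'⁻¹) with hq
  have hqQ : q ∈ Q false := by
    have e2 : q = (t'⁻¹ * s' * (t'⁻¹)⁻¹) * s'⁻¹ := by rw [hq]; group
    rw [e2]
    exact mul_mem (h.Q_nrm false _ (h.B_le false (h.H_le (inv_mem ht'H))) _ hs'Q) (inv_mem hs'Q)
  -- `q ∈ K H`
  have hKn : ∀ {a b : G}, a ∈ H → b ∈ h.K → a * b * a⁻¹ ∈ h.K := fun ha hb => h.H_K ha hb
  have hqK : ∃ c ∈ h.K, ∃ r ∈ H, q = c * r := by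
    -- `q = t'⁻¹ k t k⁻¹`
    refine ⟨t'⁻¹ * k * (t'⁻¹)⁻¹ * ((t'⁻¹ * t) * k⁻¹ * (t'⁻¹ * t)⁻¹),
      mul_mem (hKn (inv_mem ht'H) hk) (hKn (mul_mem (inv_mem ht'H) ht) (inv_mem hk)),
      t'⁻¹ * t, mul_mem (inv_mem ht'H) ht, ?_⟩
    rw [hq, ← e1]; group
  obtain ⟨c, hc, r, hr, hqc⟩ := hqK
  -- powers of `c r`
  have hpow : ∀ j : ℕ, ∃ c' ∈ h.K, (c * r) ^ j = c' * r ^ j := by
    intro j
    induction j with
    | zero => exact ⟨1, one_mem _, by simp⟩
    | succ j ih =>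
      obtain ⟨c', hc', e2⟩ := ih
      refine ⟨c' * (r ^ j * c * (r ^ j)⁻¹), mul_mem hc' (hKn (pow_mem hr j) hc), ?_⟩
      rw [pow_succ, e2, pow_succ]; group
  have hqK : q ∈ h.K := by
    obtain ⟨c', hc', e2⟩ := hpow (Nat.card H)
    have e3 : r ^ Nat.card H = 1 := by
      have : (⟨r, hr⟩ : H) ^ Nat.card H = 1 := pow_card_eq_one'
      exact congrArg Subtype.val this
    obtain ⟨j, hj⟩ := h.twoS ⟨q, h.Q_le false hqQ⟩
    have hj' : q ^ 2 ^ j = 1 := congrArg Subtype.val hj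
    refine mem_of_pows h.oddH ?_ (by rw [hj']; exact one_mem _)
    rw [hqc, e2, e3, mul_one]
    exact hc'
  have hq1 : q ∈ h.K ⊓ Q false := mem_inf.2 ⟨hqK, hqQ⟩
  rw [h.Q_inf_K, mem_bot] at hq1
  have e4 : k * t * k⁻¹ = t' := by
    rw [e1]
    calc s' * t' * s'⁻¹ = t' * q := by rw [hq]; group
      _ = t' := by rw [hq1, mul_one]
  rw [e4]
  exact ht'H

/-- **(7c), (7d)**: the root pair. -/
theorem root : Root h.Ap h.Ep h.K where
  le := le_sup_left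
  comm := h.K_cen
  two := h.Ep_two
  syl R hR hRA hER := h.Ep_syl hR hRA hER
  pair := by
    obtain ⟨a, ha, b, hb, ha1, hb1, hab⟩ := h.Z_pair
    have hm : ∀ {z : G}, z ∈ Z → h.w⁻¹ * z * h.w ∈ h.Ep := by
      intro z hz
      have := conj_mem_cj (g := h.w⁻¹) (h.Z_le_E hz)
      rwa [inv_inv] at this
    have hq : ∀ {z : G}, z ∈ Z → h.w⁻¹ * z * h.w * (h.w⁻¹ * z * h.w) = 1 := by
      intro z hz
      have e : h.w⁻¹ * z * h.w * (h.w⁻¹ * z * h.w) = h.w⁻¹ * (z * z) * h.w := by group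
      rw [e, h.Z_sq z hz]; group
    refine ⟨_, hm ha, _, hm hb, hq ha, hq hb, ?_, ?_, ?_⟩
    · intro h1; apply ha1
      have : a = h.w * (h.w⁻¹ * a * h.w) * h.w⁻¹ := by group
      rw [this, h1]; group
    · intro h1; apply hb1
      have : b = h.w * (h.w⁻¹ * b * h.w) * h.w⁻¹ := by group
      rw [this, h1]; group
    · intro h1; apply hab
      have e1 : a = h.w * (h.w⁻¹ * a * h.w) * h.w⁻¹ := by group
      rw [e1, h1]; group
  cent u hu huu v hv := by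
    have hu' := mem_cj.1 hu
    have hv' := mem_cj.1 hv
    rw [inv_inv] at hu' hv'
    have h1 : h.w * u * h.w⁻¹ ∈ Z := by
      apply h.E_sq hu'
      have e : h.w * u * h.w⁻¹ * (h.w * u * h.w⁻¹) = h.w * (u * u) * h.w⁻¹ := by group
      rw [e, huu]; group
    have h2 := h.Z_cen _ h1 _ (h.mem_E.1 hv').1
    have e1 : u * v = h.w⁻¹ * (h.w * u * h.w⁻¹ * (h.w * v * h.w⁻¹)) * h.w := by group
    have e2 : v * u = h.w⁻¹ * (h.w * v * h.w⁻¹ * (h.w * u * h.w⁻¹)) * h.w := by group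
    rw [e1, e2, h2]
  norm u hu huu hu1 c hc hcA v hv := by
    have hu' := mem_cj.1 hu
    have hv' := mem_cj.1 hv
    rw [inv_inv] at hu' hv'
    have h1 := h.E_norm (c := h.w * c * h.w⁻¹) hu' (by
      have e : h.w * u * h.w⁻¹ * (h.w * u * h.w⁻¹) = h.w * (u * u) * h.w⁻¹ := by group
      rw [e, huu]; group) (by
      intro h1; apply hu1
      have : u = h.w⁻¹ * (h.w * u * h.w⁻¹) * h.w := by group
      rw [this, h1]; group) (by
      have e1 : h.w * c * h.w⁻¹ * (h.w * u * h.w⁻¹) = h.w * (c * u) * h.w⁻¹ := by group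
      have e2 : h.w * u * h.w⁻¹ * (h.w * c * h.w⁻¹) = h.w * (u * c) * h.w⁻¹ := by group
      rw [e1, e2, hc]) (by
      intro a ha
      have h2 := hcA (h.w⁻¹ * a * h.w) (by
        have := conj_mem_cj (g := h.w⁻¹) ha
        rwa [inv_inv] at this)
      have e1 : h.w * c * h.w⁻¹ * a = h.w * (c * (h.w⁻¹ * a * h.w)) * h.w⁻¹ := by group
      have e2 : a * (h.w * c * h.w⁻¹) = h.w * (h.w⁻¹ * a * h.w * c) * h.w⁻¹ := by group
      rw [e1, e2, h2]) _ hv'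
    show c * v * c⁻¹ ∈ cj h.w⁻¹ h.E
    rw [mem_cj, inv_inv]
    have e1 : h.w * (c * v * c⁻¹) * h.w⁻¹ = h.w * c * h.w⁻¹ * (h.w * v * h.w⁻¹) *
        (h.w * c * h.w⁻¹)⁻¹ := by group
    rwa [e1]
  mv := by
    by_contra hcon
    push Not at hcon
    obtain ⟨f, hf, hfB⟩ := h.exists_f
    apply hfB
    have hn : h.Em ≤ normalizer (h.Ep : Set G) := fun g hg =>
      mem_normalizer_of_conj fun v hv => hcon g (mem_sup_right hg) v hv
    have h1 : IsPGroup 2 (h.Em ⊔ h.Ep : Subgroup G) :=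
      IsPGroup.to_sup_of_normal_right' h.Em_two h.Ep_two hn
    have h2 := h.Ep_syl h1 (by
      have h4 : h.Em ⊔ h.Ep ≤ h.K := by rw [sup_comm]; exact le_rfl
      exact fun r hr => h.K_cen r (h4 hr)) le_sup_right
    exact h.S_le (h.Ep_le_S (h2 (mem_sup_left hf)))
  gen := by
    obtain ⟨k, hk, hkv⟩ := exists_conj_le (K := h.K) h.Ep_two
      (fun R hRK hR hER => h.Ep_syl hR (fun r hr => h.K_cen r (hRK hr)) hER) le_sup_left h.Em_two
      (le_sup_right : h.Em ≤ h.K)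
    refine sup_le ?_ ?_
    · intro v hv
      exact subset_closure ⟨1, one_mem _, v, hv, by simp⟩
    · intro v hv
      exact subset_closure ⟨k⁻¹, inv_mem hk, _, hkv v hv, by group⟩

/-- **The braid relation of length 8.** -/
theorem braid (hB : Bender.{u}) : h.frame.Braid 8 := by
  obtain ⟨k, hk, h1, h2⟩ := h.exists_k
  have hkN := h.k_norm hk h1 h2
  refine h.frame.braid_of_root (m := 7) (i := false) hB h.root hk ?_ h.K_le (by decide) ?_
  · exact mem_inf.2 ⟨h1, mul_mem (inv_mem (h.n_norm false)) hkN⟩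
  · intro a ha
    have ha' := h.mem_Ap.1 ha
    rw [h.mem_Ap]
    have e : (alt h.frame.n (!false) 7)⁻¹ * a * alt h.frame.n (!false) 7 =
        (n true * n false * (n true * n false) * (n true * n false) * n true)⁻¹ * a *
          (n true * n false * (n true * n false) * (n true * n false) * n true) := by
      have e1 : alt h.frame.n (!false) 7 =
          n true * n false * (n true * n false) * (n true * n false) * n true := by
        show n true * (n false * (n true * (n false * (n true * (n false * (n true * 1)))))) = _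
        group
      rw [e1]
    have N1 : n true * n false ∈ normalizer (H : Set G) := h.tau_norm
    have N2 := mul_mem N1 N1
    have N3 := mul_mem N2 N1
    rw [e]
    refine ⟨h.H_conj (mul_mem N3 (h.n_norm true)) ha'.1, ?_⟩
    rw [h.x_mul_n N3 ha'.1, h.y_mul_n N3 ha'.1, h.x_mul_tau N2 ha'.1, h.y_mul_tau N2 ha'.1,
      h.x_mul_tau N1 ha'.1, h.y_mul_tau N1 ha'.1, h.x_tau ha'.1, h.y_tau ha'.1]
    linear_combination ha'.2

theorem thick : ∀ i, ∃ b ∈ h.frame.B, h.frame.n i * b * (h.frame.n i)⁻¹ ∉ h.frame.B := by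
  intro i
  obtain ⟨s, hs, hs'⟩ := h.Q_ne i
  refine ⟨s, h.S_le hs, fun hB => hs' ?_⟩
  have hB' : n i * s * (n i)⁻¹ ∈ B := hB
  apply h.Q_max i s hs
  have e1 : (n i)⁻¹ * s * n i = (n i * n i)⁻¹ * (n i * s * (n i)⁻¹) * (n i * n i) := by group
  rw [e1]
  exact mul_mem (mul_mem (inv_mem (h.sq_mem i)) hB') (h.sq_mem i)

/-- **THEOREM 2F4, second half**: `⟨P₀, P₁⟩` has a split BN-pair of rank 2 with Borel subgroup `B`. -/
theorem exists_split (hB : Bender.{u}) {X : Subgroup G} (hX : P false ⊔ P true = X) :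
    ∃ R : Cfsg.BNPair X, R.rank = 2 ∧ R.IsSplit ∧ R.B = B.subgroupOf X ∧
      (∀ g : X, g ∈ R.N ↔ (g : G) ∈ h.frame.N) := by
  have hp : Fact (Nat.Prime 2) := ⟨Nat.prime_two⟩
  exact h.frame.exists_split_sup (m := 8) (h.braid hB) (by norm_num) h.pathTo h.thick S h.S_le
    h.S_nrm h.twoS.isNilpotent h.split hX

end root

end Oct

end Cfsg.Agent.Omega.TwoFFour
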