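import Cfsg.Agent.Mrg.Omega.TwoFFour.Syl
import Cfsg.Agent.Mrg.Omega.NatPair.Pair
import Cfsg.Agent.Mrg.Omega.NO3S.Basic
import Cfsg.Agent.S0030
import Cfsg.Agent.Mrg.RankTwoClose.BN

section


/-!
# THEOREM 2F4: the situation `Sit` from the data of NO-3S

`exists_sit` : `Hyp S P`, `V_P` natural, `|Z| = q`, critical distance 1 (points = conjugates of `Z`), `W / Z` natural for
`Sz(q)` ⟹ `Sit F H S V Z W`.
-/

set_option autoImplicit false
set_option linter.unusedSectionVars false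

namespace Cfsg.Agent.Omega.TwoFFour

open Subgroup Cfsg Cfsg.Agent.ZN Cfsg.Agent.Omega.MinPar Cfsg.Agent.Omega.Frame
open Cfsg.Agent.Omega.NoFF.Lines Cfsg.Agent.Omega.NO3S
open Cfsg.Agent.Omega.NatPair (NatMod PreMod ap)
open Cfsg.Agent.MinSimple.VModule
open Cfsg.Agent.LieRecognition.SzMatrix (Good)
open scoped Pointwise

universe u

variable {G : Type u} [Group G] [Finite G] {S : Sylow 2 G} {P : Subgroup G}

/-- `V_P` is natural for `N_G(V_P)` -/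
theorem exists_natMod (h : Hyp S P) {F : Type} [Field F] [Finite F] [CharP F 2] (hF : 4 ≤ Nat.card F)
    (M : NatP F (zl (S : Subgroup G) P) P) (hZ : Nat.card (zc (S : Subgroup G)) = Nat.card F) :
    ∃ N : NatMod F (zl (S : Subgroup G) P), N.e = M.e := by
  let M' : PreMod F (zl (S : Subgroup G) P) :=
    { e := M.e, e_add := M.e_add, e_inj := M.e_inj, mem_iff := M.mem_iff
      lift := fun A => (M.lift A).imp fun g hg => hg.2 }
  have hSP : (S : Subgroup G) ≤ P := h.star.isLoc.le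
  have hSV : (S : Subgroup G) ≤ normalizer (zl (S : Subgroup G) P : Set G) := hSP.trans (le_normalizer_zl _ _)
  rcases M'.dich S hSV (fun s hs k A hA => M.norm s (hSP hs) k A hA) with h1 | h1
  · exact ⟨PreMod.toNatMod _ h1, rfl⟩
  · exfalso
    obtain ⟨w, -, -, -, h2⟩ := h1.point
    have h3 : zc (S : Subgroup G) ≤ zl (S : Subgroup G) P ⊓ centralizer ((S : Subgroup G) : Set G) := by
      refine le_inf zc_le_zl' fun z hz => ?_
      rw [mem_centralizer_iff]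
      intro s hs
      exact ((mem_zc.1 hz).2.1 s hs)
    have h4 := Nat.card_le_card_of_injective _ (inclusion_injective h3)
    rw [hZ, h2] at h4
    omega

/-- **`Sit` from the data of NO-3S.** -/
theorem exists_sit (h : Hyp S P) {F' : Type} [Field F'] [Finite F'] [CharP F' 2] (hF' : 4 ≤ Nat.card F')
    (M : NatP F' (zl (S : Subgroup G) P) P) (hZ : Nat.card (zc (S : Subgroup G)) = Nat.card F') {y : G}
    (hc : CritN (S : Subgroup G) P 1 1 y) {F : Type*} [Field F] {θ : F →+* F} {e : ℕ} {H : Good F θ e} {m : ℕ}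
    (hm : 1 ≤ m) (hF : Nat.card F = 2 ^ (2 * m + 1)) (hFF : Nat.card F' = Nat.card F)
    (M' : SzMod H (normalizer (zc (S : Subgroup G) : Set G)) (WN (S : Subgroup G) P) (zc (S : Subgroup G))) :
    ∃ h' : Sit F H S (zl (S : Subgroup G) P) (zc (S : Subgroup G)) (WN (S : Subgroup G) P), h'.P.K = M'.K := by
  obtain ⟨N, -⟩ := exists_natMod h hF' M hZ
  have hSP : (S : Subgroup G) ≤ P := h.star.isLoc.le
  have hPV : P ≤ normalizer (zl (S : Subgroup G) P : Set G) := le_normalizer_zl _ _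
  have hVW : zl (S : Subgroup G) P ≤ WN (S : Subgroup G) P := zl_le_WW.trans WW_le_WN
  refine Sit.exists_of hm hF hFF S N zc_le_zl' (hZ.trans hFF) (hSP.trans hPV) (le_centralizer_zc _) M' hVW
    ?_ ?_ ?_ ?_ ?_
  · intro x hx y hy
    exact (mem_centralizer_iff.1 (h.WN_comm hx) y hy).symm
  · intro x hx
    rw [← pow_two]
    exact h.WN_sq x hx
  · exact (isLoc_normalizer_zc S h.ne).char2 S h.ctx.char2
  · intro R _ hR2 hR1 hR3
    exact h.nonLoc R hR2 (hPV.trans hR1) ((centralizer_le_normalizer _).trans hR3)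
  · -- the critical pair
    by_contra hcon
    push Not at hcon
    apply hc.ne
    have key : ∀ {a b : G}, Path (normalizer (zc (S : Subgroup G) : Set G)) {P} 1 a b →
        Com (zc (S : Subgroup G)) (normalizer (zc (S : Subgroup G) : Set G)) {P} a b := by
      intro a b hab
      cases hab with
      | step hg hP hp hc' =>
        cases hg with
        | zero _ hc'' =>
          rename_i p c' Q c''
          rw [Set.mem_singleton_iff.1 hP] at hp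
          have h1 : Com (zc (S : Subgroup G)) (normalizer (zc (S : Subgroup G) : Set G)) {P} 1 p := by
            unfold Com
            rw [map_one, one_smul]
            intro x hx
            rw [mem_centralizer_iff]
            intro y hy
            have hy' : p⁻¹ * y * p ∈ WN (S : Subgroup G) P := by
              have h2 := mem_pointwise_smul_iff_inv_smul_mem.1 hy
              have e2 : (MulAut.conj p)⁻¹ • y = p⁻¹ * y * p := by
                rw [← map_inv, MulAut.smul_def, MulAut.conj_apply, inv_inv]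
              rwa [e2] at h2
            have h2 := hcon p (hPV hp) x hx _ hy'
            have e1 : p * (p⁻¹ * y * p) * p⁻¹ = y := by group
            rw [e1] at h2
            exact h2.symm
          have h2 := (com_mul_left (g := a * c'')).2 h1
          rw [mul_one] at h2
          unfold Com at h2 ⊢
          rwa [W_mul hc', ← W_mul (g := a) hc'']
    exact key hc.path

end Cfsg.Agent.Omega.TwoFFour

end

section


/-!
# THEOREM 2F4, (1): `W_x` and `W_y`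

`n` interchanges the points `x`, `y` of the line `l`; `W_y = n W n⁻¹`.

* `conj_mem` : `W_y ≤ S ⊓ C(V)`;
* `bt n w` : `n w n⁻¹` acts on `W / Z` as `U 0 (bt n w)`; `bt_surj` : all of `Z(T)` is induced;
* `I` : the preimage of `M²` in `W`; `mem_I_iff` : `W ⊓ n W n⁻¹ = I`; `conj_I` : `I` is normal in `N(V)`;
* `mem_I_of_comm` : `C_W(W_y) = I`.
-/

set_option autoImplicit false
set_option linter.unusedSectionVars false

namespace Cfsg.Agent.Omega.TwoFFour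

open Subgroup Matrix
open Cfsg.Agent.ZN Cfsg.Agent.MinSimple.VModule Cfsg.Agent.Lib.SL2Mat
open Cfsg.Agent.LieRecognition.SzMatrix (Good Umat Umat_def Dmat Dmat_def)
open Cfsg.Agent.Omega.NatPair (NatMod ap ext2)

section mat

variable {F : Type*} [Field F] {θ : F →+* F} {e : ℕ} (H : Good F θ e)

theorem vec4 (v : Fin 4 → F) : v = ![v 0, v 1, v 2, v 3] := ext4 rfl rfl rfl rfl

theorem mv_U0 (b : F) (v : Fin 4 → F) : mv (H.U 0 b) v =
    ![v 0 + b * v 2 + θ b * v 3, v 1 + b * v 3, v 2, v 3] := by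
  rw [mv_U]
  apply ext4 <;> simp

end mat

variable {G : Type*} [Group G]

namespace Sit

variable {F : Type*} [Field F] {θ : F →+* F} {e : ℕ} {H : Good F θ e} {S : Sylow 2 G} {V Z W : Subgroup G}
variable (h : Sit F H S V Z W)

/-- `n w n⁻¹` acts on `W / Z` as `U 0 (bt n w)` -/
noncomputable def bt (n w : G) : F := (h.P.act (n * w * n⁻¹) ![0, 0, 1, 0]) 0

include h

theorem f_mul {x y : G} (hx : x ∈ W) (hy : y ∈ W) : h.P.f (x * y) = h.P.f x + h.P.f y := h.P.f_mul hx hy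

theorem f_one : h.P.f 1 = 0 := (h.P.f_ker (one_mem _)).2 (one_mem _)

theorem f_inv {x : G} (hx : x ∈ W) : h.P.f x⁻¹ = h.P.f x := by
  have h1 := h.f_mul hx (inv_mem hx)
  rw [mul_inv_cancel, h.f_one] at h1
  have h2 : h.P.f x + h.P.f x = 0 := funext fun i => H.add_self _
  exact (add_left_cancel (h2.trans h1)).symm

theorem conjW {g x : G} (hg : g ∈ normalizer (Z : Set G)) (hx : x ∈ W) : g * x * g⁻¹ ∈ W := h.P.conjW hg hx

theorem conjW' {g x : G} (hg : g ∈ normalizer (Z : Set G)) (hx : x ∈ W) : g⁻¹ * x * g ∈ W := by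
  have := h.P.conjW (inv_mem hg) hx
  rwa [inv_inv] at this

theorem f_conj {g x : G} (hg : g ∈ normalizer (Z : Set G)) (hx : x ∈ W) : h.P.f (g * x * g⁻¹) = h.P.act g (h.P.f x) :=
  (h.P.act_f hg hx).symm

theorem act_sub {g : G} (hg : g ∈ normalizer (Z : Set G)) (v w : Fin 4 → F) :
    h.P.act g (v - w) = h.P.act g v - h.P.act g w := by
  have := h.P.act_add hg (v - w) w
  rw [sub_add_cancel] at this
  rw [this, add_sub_cancel_right]

theorem C_normW : normalizer (Z : Set G) ≤ normalizer (W : Set G) := by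
  intro g hg
  rw [mem_normalizer_iff]
  refine fun x => ⟨h.conjW hg, fun hx => ?_⟩
  have := h.conjW' hg hx
  have e : g⁻¹ * (g * x * g⁻¹) * g = x := by group
  rwa [e] at this

theorem W_2 : IsPGroup 2 W := by
  intro x
  refine ⟨1, Subtype.ext ?_⟩
  have := h.sq x x.2
  rw [pow_one, pow_two]
  exact this

theorem C_normK : normalizer (Z : Set G) ≤ normalizer (h.P.K : Set G) := by
  have key : ∀ g ∈ normalizer (Z : Set G), ∀ x ∈ h.P.K, g * x * g⁻¹ ∈ h.P.K := by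
    intro g hg x hx
    rw [SzMod.mem_K] at hx ⊢
    refine ⟨mul_mem (mul_mem hg hx.1) (inv_mem hg), fun v => ?_⟩
    rw [h.P.act_mul (mul_mem hg hx.1) (inv_mem hg), h.P.act_mul hg hx.1, hx.2, ← h.P.act_mul hg (inv_mem hg),
      mul_inv_cancel, h.P.act_one]
  intro g hg
  rw [mem_normalizer_iff]
  refine fun x => ⟨key g hg x, fun hx => ?_⟩
  have := key g⁻¹ (inv_mem hg) _ hx
  have e : g⁻¹ * (g * x * g⁻¹) * g⁻¹⁻¹ = x := by group
  rwa [e] at this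

theorem K_le_C : h.P.K ≤ normalizer (Z : Set G) := fun _ hx => hx.1

theorem K_comm {k w : G} (hk : k ∈ h.P.K) (hw : w ∈ W) : k * w * k⁻¹ * w⁻¹ ∈ Z := by
  have h1 := h.conjW hk.1 hw
  rw [← h.P.f_ker (mul_mem h1 (inv_mem hw)), h.f_mul h1 (inv_mem hw), h.f_inv hw, h.f_conj hk.1 hw, hk.2]
  exact funext fun i => H.add_self _

/-- `K` fixes every line on `x` -/
theorem K_le_M [Finite G] : h.P.K ≤ normalizer (V : Set G) := by
  intro k hk
  refine mem_normalizer_of_map_le ?_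
  rintro _ ⟨v, hv, rfl⟩
  have h1 := h.K_comm hk (h.V_le_W hv)
  have : (MulAut.conj k).toMonoidHom v = (k * v * k⁻¹ * v⁻¹) * v := by
    show k * v * k⁻¹ = _
    group
  rw [this]
  exact mul_mem (h.Z_le_V h1) hv

theorem sylC [Finite G] : Syl2 (S : Subgroup G) (normalizer (Z : Set G)) := Syl2.of_sylow S h.S_le_C

theorem sylM [Finite G] : Syl2 (S : Subgroup G) (normalizer (V : Set G)) := Syl2.of_sylow S h.SV

theorem sylK [Finite G] : Syl2 ((S : Subgroup G) ⊓ h.P.K) h.P.K := h.sylC.inf h.K_le_C h.C_normK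

theorem sylV [Finite G] : Syl2 ((S : Subgroup G) ⊓ centralizer (V : Set G)) (centralizer (V : Set G)) :=
  h.sylM.inf h.cen_le_M h.M_normC

theorem W_le [Finite G] : W ≤ (S : Subgroup G) ⊓ centralizer (V : Set G) :=
  h.sylV.le_of_normal h.W_le_cen (h.cen_le_C.trans h.C_normW) h.W_2

variable {n : G} (hn : h.Sw n)
include hn

theorem nn_C : n * n ∈ normalizer (Z : Set G) := h.cen_le_C (h.sw_sq hn)

theorem conj_mem [Finite G] {w : G} (hw : w ∈ W) :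
    n * w * n⁻¹ ∈ (S : Subgroup G) ⊓ centralizer (V : Set G) := by
  have hM := h.sw_mem hn
  set W' : Subgroup G := W.map (MulAut.conj n).toMonoidHom with hW'
  have h1 : W' ≤ centralizer (V : Set G) := by
    rintro _ ⟨x, hx, rfl⟩
    exact h.conjC hM (h.W_le_cen hx)
  have h2 : centralizer (V : Set G) ≤ normalizer (W' : Set G) := by
    intro c hc
    refine mem_normalizer_of_map_le ?_
    rintro _ ⟨_, ⟨x, hx, rfl⟩, rfl⟩
    have h3 : n⁻¹ * c * n⁻¹⁻¹ ∈ centralizer (V : Set G) := h.conjC (inv_mem hM) hc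
    refine ⟨_, h.conjW (h.cen_le_C h3) hx, ?_⟩
    show n * (n⁻¹ * c * n⁻¹⁻¹ * x * (n⁻¹ * c * n⁻¹⁻¹)⁻¹) * n⁻¹ = c * (n * x * n⁻¹) * c⁻¹
    group
  exact h.sylV.le_of_normal h1 h2 (h.W_2.map _) ⟨w, hw, rfl⟩

theorem conj_mem_V [Finite G] {w : G} (hw : w ∈ W) : n * w * n⁻¹ ∈ centralizer (V : Set G) := (h.conj_mem hn hw).2

theorem conj_mem_C [Finite G] {w : G} (hw : w ∈ W) : n * w * n⁻¹ ∈ normalizer (Z : Set G) :=
  h.cen_le_C (h.conj_mem_V hn hw)

/-- the action of `n w n⁻¹` on `W / Z` -/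
theorem act_bt [Finite G] {w : G} (hw : w ∈ W) (v : Fin 4 → F) :
    h.P.act (n * w * n⁻¹) v = mv (H.U 0 (h.bt n w)) v := by
  obtain ⟨a, b, hab⟩ := h.Ad.exists_U _ (h.conj_mem hn hw).1
  have hC := h.conj_mem_C hn hw
  have h1 : n * w * n⁻¹ * (n * w * n⁻¹) = 1 := by
    have := h.sq w hw
    calc n * w * n⁻¹ * (n * w * n⁻¹) = n * (w * w) * n⁻¹ := by group
      _ = 1 := by rw [this]; group
  have h2 : mv (H.U a b) (mv (H.U a b) ![0, 0, 1, 0]) = ![0, 0, 1, 0] := by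
    rw [← hab, ← hab, ← h.P.act_mul hC hC, h1, h.P.act_one]
  rw [← mv_mul, H.U_mul] at h2
  have h3 := congrFun h2 0
  rw [mv_U] at h3
  simp only [Matrix.cons_val_zero, Matrix.cons_val_one, Matrix.cons_val] at h3
  have h4 : a * θ a = 0 := by
    have := H.add_self b
    linear_combination h3 - this
  have ha : a = 0 := by
    rcases mul_eq_zero.1 h4 with h5 | h5
    · exact h5
    · exact (map_eq_zero θ).1 h5
  subst ha
  have hb : h.bt n w = b := by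
    unfold bt
    rw [hab, mv_U0]
    simp
  rw [hab, hb]

theorem bt_mul [Finite G] {w w' : G} (hw : w ∈ W) (hw' : w' ∈ W) : h.bt n (w * w') = h.bt n w + h.bt n w' := by
  have h1 : n * (w * w') * n⁻¹ = n * w * n⁻¹ * (n * w' * n⁻¹) := by group
  have key : mv (H.U 0 (h.bt n (w * w'))) ![0, 0, 1, 0] = mv (H.U 0 (h.bt n w) * H.U 0 (h.bt n w')) ![0, 0, 1, 0] := by
    rw [← h.act_bt hn (mul_mem hw hw'), h1, h.P.act_mul (h.conj_mem_C hn hw) (h.conj_mem_C hn hw'), h.act_bt hn hw',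
      h.act_bt hn hw, mv_mul]
  rw [H.U_mul, add_zero, zero_mul, add_zero, mv_U0, mv_U0] at key
  have := congrFun key 0
  simpa using this

theorem bt_inv [Finite G] {w : G} (hw : w ∈ W) : h.bt n w⁻¹ = h.bt n w := by
  have : w⁻¹ = w := inv_eq_of_mul_eq_one_left (h.sq w hw)
  rw [this]

theorem bt_one [Finite G] : h.bt n 1 = 0 := by
  have := h.bt_mul hn (one_mem W) (one_mem W)
  rw [mul_one] at this
  exact left_eq_add.1 this

theorem bt_eq_zero [Finite G] {w : G} (hw : w ∈ W) : h.bt n w = 0 ↔ n * w * n⁻¹ ∈ h.P.K := by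
  rw [SzMod.mem_K]
  constructor
  · intro h1
    refine ⟨h.conj_mem_C hn hw, fun v => ?_⟩
    rw [h.act_bt hn hw, h1, mv_U0]
    rw [vec4 v]
    ext i
    fin_cases i <;> simp
  · rintro ⟨-, h1⟩
    unfold bt
    rw [h1]
    rfl

/-- `x` fixed by `Z(T)` -/
theorem f_of_comm [Finite G] {w g : G} (hw : w ∈ W) (hb : h.bt n w = 1) (hg : g ∈ W)
    (hc : n * w * n⁻¹ * g = g * (n * w * n⁻¹)) : h.P.f g 2 = 0 ∧ h.P.f g 3 = 0 := by
  have hC := h.conj_mem_C hn hw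
  have h1 : n * w * n⁻¹ * g * (n * w * n⁻¹)⁻¹ = g := by rw [hc]; group
  have h2 := h.f_conj hC hg
  rw [h1, h.act_bt hn hw, hb, mv_U0] at h2
  have h3 := congrFun h2 0
  have h4 := congrFun h2 1
  simp only [Matrix.cons_val_zero, Matrix.cons_val_one, map_one, one_mul] at h3 h4
  have h5 : h.P.f g 3 = 0 := left_eq_add.1 h4
  refine ⟨?_, h5⟩
  rw [h5, add_zero] at h3
  exact left_eq_add.1 h3

omit hn

/-- conjugates `m W m⁻¹`, `m ∈ N(V) - N(Z)`, are the `s (n W n⁻¹) s⁻¹` -/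
theorem conj_eq [Finite G] (hn : h.Sw n) {m w : G} (hm : m ∈ normalizer (V : Set G)) (hmC : m ∉ normalizer (Z : Set G))
    (hw : w ∈ W) : ∃ s ∈ S, ∃ b ∈ normalizer (V : Set G) ⊓ normalizer (Z : Set G), ∃ w' ∈ W,
      m = s * n * b ∧ w' = b * w * b⁻¹ ∧ m * w * m⁻¹ = s * (n * w' * n⁻¹) * s⁻¹ := by
  obtain ⟨s, hs, b, hb, rfl⟩ := h.decomp hn hm hmC
  exact ⟨s, hs, b, hb, _, h.conjW hb.2 hw, rfl, rfl, by group⟩

/-- `W_y` acts nontrivially on `W / Z` -/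
theorem exists_bt_ne [Finite G] (hn : h.Sw n) : ∃ w ∈ W, h.bt n w ≠ 0 := by
  by_contra hcon
  push Not at hcon
  have key : ∀ w ∈ W, ∀ x ∈ W, n * w * n⁻¹ * x * (n * w * n⁻¹)⁻¹ * x⁻¹ ∈ Z := fun w hw x hx =>
    h.K_comm ((h.bt_eq_zero hn hw).1 (hcon w hw)) hx
  have key2 : ∀ w ∈ W, ∀ x ∈ W, n * w * n⁻¹ * x = x * (n * w * n⁻¹) := by
    intro w hw x hx
    have h1 := key w hw x hx
    have h2 : n⁻¹ * (n * w * n⁻¹ * x * (n * w * n⁻¹)⁻¹ * x⁻¹) * n ∈ Z := by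
      have h3 : (n * n)⁻¹ * x * (n * n) ∈ W := h.conjW' (h.nn_C hn) hx
      have h4 := inv_mem (key _ h3 w hw)
      have h5 : (n * ((n * n)⁻¹ * x * (n * n)) * n⁻¹ * w * (n * ((n * n)⁻¹ * x * (n * n)) * n⁻¹)⁻¹ * w⁻¹)⁻¹ =
        n⁻¹ * (n * w * n⁻¹ * x * (n * w * n⁻¹)⁻¹ * x⁻¹) * n := by group
      rwa [h5] at h4
    obtain ⟨c, hc⟩ := (h.memZ _).1 h1
    rw [← hc] at h2
    have h6 := h.sw_inv hn c 0
    rw [inv_inv] at h6
    rw [h6, h.e_memZ] at h2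
    rw [h2, h.e_zero] at hc
    have h7 := hc.symm
    calc n * w * n⁻¹ * x = (n * w * n⁻¹ * x * (n * w * n⁻¹)⁻¹ * x⁻¹) * (x * (n * w * n⁻¹)) := by group
      _ = x * (n * w * n⁻¹) := by rw [h7, one_mul]
  obtain ⟨m, hm, x, hx, y, hy, hne⟩ := h.ne
  apply hne
  by_cases hmC : m ∈ normalizer (Z : Set G)
  · exact h.ab x hx _ (h.conjW hmC hy)
  · obtain ⟨s, hs, b, hb, y', hy', -, -, e⟩ := h.conj_eq hn hm hmC hy
    have hsC := h.S_le_C hs
    have h1 := key2 y' hy' _ (h.conjW' hsC hx)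
    rw [e]
    calc x * (s * (n * y' * n⁻¹) * s⁻¹) = s * ((s⁻¹ * x * s) * (n * y' * n⁻¹)) * s⁻¹ := by group
      _ = s * (n * y' * n⁻¹ * (s⁻¹ * x * s)) * s⁻¹ := by rw [h1]
      _ = s * (n * y' * n⁻¹) * s⁻¹ * x := by group

omit h in
theorem theta_surj [Finite F] (θ : F →+* F) : Function.Surjective θ :=
  Finite.surjective_of_injective θ.injective

/-- a lift of the torus element `D k` lies in `N(V)` -/
theorem exists_D [Finite G] (k : Fˣ) : ∃ g ∈ normalizer (V : Set G) ⊓ normalizer (Z : Set G),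
    ∀ v, h.P.act g v = mv (H.D k) v := by
  obtain ⟨g, hg, hgf⟩ := h.P.lift _ (H.D_mem k)
  have hact : ∀ v, h.P.act g v = mv (H.D k) v := by
    intro v
    obtain ⟨x, hx, rfl⟩ := h.P.f_surj v
    rw [h.P.act_f hg hx, hgf x hx]
  refine ⟨g, ⟨?_, hg⟩, hact⟩
  refine mem_normalizer_of_map_le ?_
  rintro _ ⟨v, hv, rfl⟩
  obtain ⟨hvW, c, hc⟩ := (h.memV v).1 hv
  refine (h.memV _).2 ⟨h.conjW hg hvW, k * c, ?_⟩
  show h.P.f (g * v * g⁻¹) = _
  rw [h.f_conj hg hvW, hact, hc, mv_D]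
  simp

/-- the image of `W_y` in `H_x` is `Z(T)` -/
theorem bt_surj [Finite G] (hn : h.Sw n) (b : F) : ∃ w ∈ W, h.bt n w = b := by
  have := h.finF
  by_cases hb0 : b = 0
  · exact ⟨1, one_mem _, by rw [h.bt_one hn, hb0]⟩
  obtain ⟨w, hw, hw0⟩ := h.exists_bt_ne hn
  obtain ⟨k, hk⟩ := theta_surj θ (b / h.bt n w)
  have hk0 : k ≠ 0 := by
    rintro rfl
    rw [map_zero] at hk
    exact div_ne_zero hb0 hw0 hk.symm
  obtain ⟨g, hg, hgD⟩ := h.exists_D (Units.mk0 k hk0)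
  have hnM := h.sw_mem hn
  have hgnC : g * n ∉ normalizer (Z : Set G) := by
    intro hc
    apply h.sw_notin hn
    have : g⁻¹ * (g * n) ∈ normalizer (Z : Set G) := Subgroup.mul_mem _ (inv_mem hg.2) hc
    rwa [inv_mul_cancel_left] at this
  obtain ⟨s, hs, b', hb', w', hw', -, -, e⟩ := h.conj_eq hn (mul_mem hg.1 hnM) hgnC hw
  refine ⟨w', hw', ?_⟩
  obtain ⟨c, d, hcd⟩ := h.Ad.exists_U s hs
  have hsC := h.S_le_C hs
  have hC := h.conj_mem_C hn hw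
  have hC' := h.conj_mem_C hn hw'
  -- compare the actions on `e₂`
  have e1 : g * (n * w * n⁻¹) * g⁻¹ = s * (n * w' * n⁻¹) * s⁻¹ := by rw [← e]; group
  have e2 : g * (n * w * n⁻¹) * (g⁻¹ * s) = s * (n * w' * n⁻¹) := by
    calc g * (n * w * n⁻¹) * (g⁻¹ * s) = g * (n * w * n⁻¹) * g⁻¹ * s := by group
      _ = s * (n * w' * n⁻¹) := by rw [e1]; group
  have e3 : ∀ v, h.P.act (g * (n * w * n⁻¹)) v = mv (H.U 0 (b / h.bt n w * h.bt n w) * H.D (Units.mk0 k hk0)) v := by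
    intro v
    rw [h.P.act_mul hg.2 hC, h.act_bt hn hw, hgD, ← mv_mul, H.D_mul_U]
    congr 3
    · rw [zero_mul, zero_mul]
    · rw [Units.val_mk0, hk]; ring
  have e4 : ∀ v, h.P.act (g * (n * w * n⁻¹)) v = h.P.act (s * (n * w' * n⁻¹) * s⁻¹ * g) v := by
    intro v
    rw [← e1, inv_mul_cancel_right]
  have hgs : g⁻¹ * s ∈ normalizer (Z : Set G) := mul_mem (inv_mem hg.2) hsC
  have e5 : ∀ v, mv (H.U 0 b * H.U c d) v = mv (H.U c d * H.U 0 (h.bt n w')) v := by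
    intro v
    have e6 : h.P.act (g * (n * w * n⁻¹) * (g⁻¹ * s)) v = h.P.act (s * (n * w' * n⁻¹)) v := by rw [e2]
    rw [h.P.act_mul (mul_mem hg.2 hC) hgs, h.P.act_mul hsC hC', hcd, h.act_bt hn hw', e3,
      div_mul_cancel₀ _ hw0, mv_mul, ← hgD, ← h.P.act_mul hg.2 hgs, mul_inv_cancel_left, hcd] at e6
    rw [mv_mul, mv_mul, e6]
  have e7 := congrFun (e5 ![0, 0, 1, 0]) 0
  rw [H.U_mul, H.U_mul, mv_U, mv_U] at e7
  simp only [Matrix.cons_val_zero, Matrix.cons_val_one, Matrix.cons_val, map_zero, zero_mul, mul_zero, add_zero,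
    zero_add, mul_one] at e7
  linear_combination -e7

/-! ### `I` -/

/-- the preimage of `M²` in `W` -/
def I : Subgroup G where
  carrier := {g | g ∈ W ∧ h.P.f g 2 = 0 ∧ h.P.f g 3 = 0}
  mul_mem' := by
    rintro x y ⟨hx, h1, h2⟩ ⟨hy, h3, h4⟩
    refine ⟨mul_mem hx hy, ?_, ?_⟩
    · rw [h.f_mul hx hy, Pi.add_apply, h1, h3, add_zero]
    · rw [h.f_mul hx hy, Pi.add_apply, h2, h4, add_zero]
  one_mem' := ⟨one_mem _, by rw [h.f_one]; rfl, by rw [h.f_one]; rfl⟩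
  inv_mem' := by
    rintro x ⟨hx, h1, h2⟩
    exact ⟨inv_mem hx, by rw [h.f_inv hx]; exact h1, by rw [h.f_inv hx]; exact h2⟩

theorem mem_I {g : G} : g ∈ h.I ↔ g ∈ W ∧ h.P.f g 2 = 0 ∧ h.P.f g 3 = 0 := Iff.rfl

theorem V_le_I : V ≤ h.I := by
  intro v hv
  obtain ⟨hvW, c, hc⟩ := (h.memV v).1 hv
  exact ⟨hvW, by rw [hc]; rfl, by rw [hc]; rfl⟩

theorem I_le_W : h.I ≤ W := fun _ hx => hx.1

theorem mem_V_iff {g : G} (hg : g ∈ h.I) : g ∈ V ↔ h.P.f g 1 = 0 := by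
  rw [h.memV]
  constructor
  · rintro ⟨-, c, hc⟩
    rw [hc]; rfl
  · intro h1
    refine ⟨hg.1, h.P.f g 0, ?_⟩
    rw [vec4 (h.P.f g), h1, hg.2.1, hg.2.2]
    rfl

/-- `W_x ⊓ W_y ≤ I` -/
theorem mem_I_of [Finite G] (hn : h.Sw n) {g : G} (hg : g ∈ W) (hg' : n⁻¹ * g * n ∈ W) : g ∈ h.I := by
  obtain ⟨w, hw, hb⟩ := h.bt_surj hn 1
  refine ⟨hg, h.f_of_comm hn hw hb hg ?_⟩
  have h1 := h.ab w hw _ hg'
  calc n * w * n⁻¹ * g = n * (w * (n⁻¹ * g * n)) * n⁻¹ := by group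
    _ = n * (n⁻¹ * g * n * w) * n⁻¹ := by rw [h1]
    _ = g * (n * w * n⁻¹) := by group

/-- `W_x` normalises `W_y` -/
theorem conj_conj_mem [Finite G] (hn : h.Sw n) {c w : G} (hc : c ∈ centralizer (V : Set G)) (hw : w ∈ W) :
    n⁻¹ * (c * (n * w * n⁻¹) * c⁻¹) * n ∈ W := by
  have h3 : n⁻¹ * c * n⁻¹⁻¹ ∈ centralizer (V : Set G) := h.conjC (inv_mem (h.sw_mem hn)) hc
  have h4 := h.conjW (h.cen_le_C h3) hw
  have : n⁻¹ * (c * (n * w * n⁻¹) * c⁻¹) * n = n⁻¹ * c * n⁻¹⁻¹ * w * (n⁻¹ * c * n⁻¹⁻¹)⁻¹ := by group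
  rwa [this]

/-- `I ≤ W_y` -/
theorem I_conj [Finite G] (hn : h.Sw n) {g : G} (hg : g ∈ h.I) : n⁻¹ * g * n ∈ W := by
  have hV : ∀ v ∈ V, n⁻¹ * v * n ∈ W := by
    intro v hv
    have := h.conjV (inv_mem (h.sw_mem hn)) hv
    rw [inv_inv] at this
    exact h.V_le_W this
  -- commutators
  have key : ∀ v : Fin 4 → F, ∀ b : F, ∃ t ∈ W, n⁻¹ * t * n ∈ W ∧
      h.P.f t = ![b * v 2 + θ b * v 3, b * v 3, 0, 0] := by
    intro v b
    obtain ⟨w, hw, rfl⟩ := h.P.f_surj v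
    obtain ⟨x, hx, hxb⟩ := h.bt_surj hn b
    have hC := h.conj_mem_C hn hx
    have hu := h.conjW hC hw
    refine ⟨n * x * n⁻¹ * w * (n * x * n⁻¹)⁻¹ * w⁻¹, mul_mem hu (inv_mem hw), ?_, ?_⟩
    · have h1 := h.conj_conj_mem hn (h.W_le_cen hw) (inv_mem hx)
      have h2 := mul_mem hx h1
      have e : x * (n⁻¹ * (w * (n * x⁻¹ * n⁻¹) * w⁻¹) * n) =
        n⁻¹ * (n * x * n⁻¹ * w * (n * x * n⁻¹)⁻¹ * w⁻¹) * n := by group
      rwa [e] at h2
    · rw [h.f_mul hu (inv_mem hw), h.f_inv hw, h.f_conj hC hw, h.act_bt hn hx, hxb, mv_U0]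
      have hs := fun i => H.add_self (h.P.f w i)
      ext i
      fin_cases i
      · simp only [Fin.zero_eta, Pi.add_apply, Matrix.cons_val_zero]
        linear_combination hs 0
      · simp only [Fin.mk_one, Pi.add_apply, Matrix.cons_val_one, Matrix.cons_val_zero]
        linear_combination hs 1
      · simp only [Pi.add_apply]
        exact hs 2
      · simp only [Pi.add_apply]
        exact hs 3
  obtain ⟨t₁, ht₁, ht₁', hf₁⟩ := key ![0, 0, 0, 1] (h.P.f g 1)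
  obtain ⟨t₂, ht₂, ht₂', hf₂⟩ := key ![0, 0, 1, 0] (h.P.f g 0 - θ (h.P.f g 1))
  have h1 : h.P.f (t₁ * t₂) = h.P.f g := by
    rw [h.f_mul ht₁ ht₂, hf₁, hf₂]
    ext i
    fin_cases i
    · simp
    · simp
    · exact (by simp [hg.2.1])
    · exact (by simp [hg.2.2])
  have h2 : g * (t₁ * t₂)⁻¹ ∈ Z := by
    rw [← h.P.f_ker (mul_mem hg.1 (inv_mem (mul_mem ht₁ ht₂))), h.f_mul hg.1 (inv_mem (mul_mem ht₁ ht₂)),
      h.f_inv (mul_mem ht₁ ht₂), h1]
    exact funext fun i => H.add_self _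
  have h3 := mul_mem (mul_mem (hV _ (h.Z_le_V h2)) ht₁') ht₂'
  have e : n⁻¹ * (g * (t₁ * t₂)⁻¹) * n * (n⁻¹ * t₁ * n) * (n⁻¹ * t₂ * n) = n⁻¹ * g * n := by group
  rwa [e] at h3

theorem I_conj' [Finite G] (hn : h.Sw n) {g : G} (hg : g ∈ h.I) : n * g * n⁻¹ ∈ W := by
  have := h.I_conj (h.sw_inv hn) hg
  rwa [inv_inv] at this

theorem S_conj_I [Finite G] {s g : G} (hs : s ∈ S) (hg : g ∈ h.I) : s * g * s⁻¹ ∈ h.I := by
  obtain ⟨a, b, hab⟩ := h.Ad.exists_U s hs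
  have hC := h.S_le_C hs
  have h1 : h.P.f (s * g * s⁻¹) = _ := (h.f_conj hC hg.1).trans (hab _)
  rw [mv_U] at h1
  refine ⟨h.conjW hC hg.1, ?_, ?_⟩
  · rw [h1, hg.2.2]
    simp [hg.2.1]
  · rw [h1]
    exact hg.2.2

/-- `n` normalises `I` -/
theorem n_conj_I [Finite G] (hn : h.Sw n) {g : G} (hg : g ∈ h.I) : n * g * n⁻¹ ∈ h.I := by
  refine h.mem_I_of hn (h.I_conj' hn hg) ?_
  have : n⁻¹ * (n * g * n⁻¹) * n = g := by group
  rw [this]
  exact hg.1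

/-- `B` normalises `I` -/
theorem B_conj_I [Finite G] {b g : G} (hb : b ∈ normalizer (V : Set G) ⊓ normalizer (Z : Set G))
    (hg : g ∈ h.I) : b * g * b⁻¹ ∈ h.I := by
  obtain ⟨n, hn⟩ := h.exists_sw
  have hbn : b * n ∉ normalizer (Z : Set G) := by
    intro hc
    apply h.sw_notin hn
    have : b⁻¹ * (b * n) ∈ normalizer (Z : Set G) := Subgroup.mul_mem _ (inv_mem hb.2) hc
    rwa [inv_mul_cancel_left] at this
  obtain ⟨s, hs, b', hb', e⟩ := h.decomp hn (mul_mem hb.1 (h.sw_mem hn)) hbn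
  have hsC := h.S_le_C hs
  have h1 := h.conjW hb.2 hg.1
  have h2 : s⁻¹ * (b * g * b⁻¹) * s ∈ h.I := by
    refine h.mem_I_of hn (h.conjW' hsC h1) ?_
    have e1 : n⁻¹ * (s⁻¹ * (b * g * b⁻¹) * s) * n = b' * (n⁻¹ * g * n) * b'⁻¹ := by
      have e2 : b = s * n * b' * n⁻¹ := by rw [← e]; group
      rw [e2]; group
    rw [e1]
    exact h.conjW hb'.2 (h.I_conj hn hg)
  have h3 := h.S_conj_I hs h2
  have e : s * (s⁻¹ * (b * g * b⁻¹) * s) * s⁻¹ = b * g * b⁻¹ := by group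
  rwa [e] at h3

/-- `I` is normal in `N(V)` -/
theorem M_conj_I [Finite G] {m g : G} (hm : m ∈ normalizer (V : Set G)) (hg : g ∈ h.I) : m * g * m⁻¹ ∈ h.I := by
  by_cases hmC : m ∈ normalizer (Z : Set G)
  · exact h.B_conj_I ⟨hm, hmC⟩ hg
  · obtain ⟨n, hn⟩ := h.exists_sw
    obtain ⟨s, hs, b, hb, rfl⟩ := h.decomp hn hm hmC
    have h1 := h.S_conj_I hs (h.n_conj_I hn (h.B_conj_I hb hg))
    have e : s * (n * (b * g * b⁻¹) * n⁻¹) * s⁻¹ = s * n * b * g * (s * n * b)⁻¹ := by group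
    rwa [e] at h1

/-- `C_W(W_y) ≤ I` -/
theorem mem_I_of_comm [Finite G] (hn : h.Sw n) {g : G} (hg : g ∈ W) (hc : ∀ w ∈ W, n * w * n⁻¹ * g = g * (n * w * n⁻¹)) :
    g ∈ h.I := by
  obtain ⟨w, hw, hb⟩ := h.bt_surj hn 1
  exact ⟨hg, h.f_of_comm hn hw hb hg (hc w hw)⟩

/-- `I` centralises `W_y` -/
theorem I_comm [Finite G] (hn : h.Sw n) {g w : G} (hg : g ∈ h.I) (hw : w ∈ W) :
    n * w * n⁻¹ * g = g * (n * w * n⁻¹) := by
  have h1 := h.ab w hw _ (h.I_conj hn hg)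
  calc n * w * n⁻¹ * g = n * (w * (n⁻¹ * g * n)) * n⁻¹ := by group
    _ = n * (n⁻¹ * g * n * w) * n⁻¹ := by rw [h1]
    _ = g * (n * w * n⁻¹) := by group

end Sit

end Cfsg.Agent.Omega.TwoFFour

end

section


/-!
# THEOREM 2F4, (4): the two field structures

* `phi` : `V / Z` in the two coordinates: `f (e (x, y)) = (phi y, 0, 0, 0)`;
* `exists_cZ_D`, `exists_cZ_W` : the elements `D k`, `W` of `Sz` are induced by elements of `C(Z)`;
* `exists_sig` : `phi (c d) = σ c * phi d` with a field automorphism `σ`;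
* `form` : the elements of `B` on `V`.
-/

set_option autoImplicit false
set_option linter.unusedSectionVars false

namespace Cfsg.Agent.Omega.TwoFFour

open Subgroup Matrix
open Cfsg.Agent.ZN Cfsg.Agent.MinSimple.VModule Cfsg.Agent.Lib.SL2Mat
open Cfsg.Agent.LieRecognition.SzMatrix (Good Umat Umat_def Dmat Dmat_def W_mul_W)
open Cfsg.Agent.Omega.NatPair (NatMod ap ext2)

variable {G : Type*} [Group G]

namespace Sit

variable {F : Type*} [Field F] {θ : F →+* F} {e : ℕ} {H : Good F θ e} {S : Sylow 2 G} {V Z W : Subgroup G}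
variable (h : Sit F H S V Z W)

/-- the coordinate of `V / Z` in `W / Z` -/
noncomputable def phi (c : F) : F := h.P.f (h.N.e ![0, c]) 0

/-- the group `B` -/
abbrev Bo (_h : Sit F H S V Z W) : Subgroup G := normalizer (V : Set G) ⊓ normalizer (Z : Set G)

include h

theorem f_e0 (c : F) : h.P.f (h.N.e ![0, c]) = ![h.phi c, 0, 0, 0] := by
  obtain ⟨-, d, hd⟩ := (h.memV _).1 (h.e_mem 0 c)
  unfold phi
  rw [hd]
  rfl

theorem f_e (x y : F) : h.P.f (h.N.e ![x, y]) = ![h.phi y, 0, 0, 0] := by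
  have h1 : h.N.e ![x, y] = h.N.e ![x, 0] * h.N.e ![0, y] := by
    rw [h.e_mul, add_zero, zero_add]
  have h2 : h.P.f (h.N.e ![x, 0]) = 0 := (h.P.f_ker (h.V_le_W (h.e_mem _ _))).2 ((h.e_memZ x 0).2 rfl)
  rw [h1, h.f_mul (h.V_le_W (h.e_mem _ _)) (h.V_le_W (h.e_mem _ _)), h2, zero_add, h.f_e0]

theorem phi_add (c d : F) : h.phi (c + d) = h.phi c + h.phi d := by
  have h1 : h.N.e ![0, c + d] = h.N.e ![0, c] * h.N.e ![0, d] := by rw [h.e_mul, add_zero]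
  unfold phi
  rw [h1, h.f_mul (h.V_le_W (h.e_mem _ _)) (h.V_le_W (h.e_mem _ _))]
  rfl

theorem phi_eq_zero {c : F} : h.phi c = 0 ↔ c = 0 := by
  rw [← h.e_memZ 0 c, ← h.P.f_ker (h.V_le_W (h.e_mem _ _)), h.f_e]
  constructor
  · intro h1
    rw [h1]
    ext i; fin_cases i <;> rfl
  · intro h1
    exact congrFun h1 0

theorem phi_zero : h.phi 0 = 0 := h.phi_eq_zero.2 rfl

theorem phi_inj : Function.Injective h.phi := by
  intro c d hcd
  have h1 : h.phi (c + d) = 0 := by rw [h.phi_add, hcd]; exact H.add_self _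
  have h2 := h.phi_eq_zero.1 h1
  have h3 := H.add_self d
  linear_combination h2 - h3

/-! ### Elements of `C(Z)` -/

theorem cZ_le : centralizer (Z : Set G) ≤ normalizer (Z : Set G) := centralizer_le_normalizer _

theorem C_norm_cZ {g c : G} (hg : g ∈ normalizer (Z : Set G)) (hc : c ∈ centralizer (Z : Set G)) :
    g * c * g⁻¹ ∈ centralizer (Z : Set G) := by
  rw [mem_centralizer_iff] at hc ⊢
  intro z hz
  have h1 := hc _ (h.conjZ (inv_mem hg) hz)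
  rw [inv_inv] at h1
  calc z * (g * c * g⁻¹) = g * ((g⁻¹ * z * g) * c) * g⁻¹ := by group
    _ = g * (c * (g⁻¹ * z * g)) * g⁻¹ := by rw [h1]
    _ = g * c * g⁻¹ * z := by group

theorem ind_U [Finite G] (a b : F) : ∃ g ∈ centralizer (Z : Set G), h.P.Ind g (H.U a b) := by
  obtain ⟨s, hs, hsU⟩ := h.Ad.surj a b
  exact ⟨s, h.SZ hs, hsU⟩

theorem ind_mul {A B : GL (Fin 4) F} (hA : ∃ g ∈ centralizer (Z : Set G), h.P.Ind g A)
    (hB : ∃ g ∈ centralizer (Z : Set G), h.P.Ind g B) : ∃ g ∈ centralizer (Z : Set G), h.P.Ind g (A * B) := by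
  obtain ⟨g, hg, hgA⟩ := hA
  obtain ⟨k, hk, hkB⟩ := hB
  exact ⟨g * k, mul_mem hg hk, hgA.mul (h.cZ_le hg) (h.cZ_le hk) hkB⟩

theorem ind_inv {A : GL (Fin 4) F} (hA : ∃ g ∈ centralizer (Z : Set G), h.P.Ind g A) :
    ∃ g ∈ centralizer (Z : Set G), h.P.Ind g A⁻¹ := by
  obtain ⟨g, hg, hgA⟩ := hA
  exact ⟨g⁻¹, inv_mem hg, hgA.inv (h.cZ_le hg)⟩

theorem ind_conj {A B : GL (Fin 4) F} (hA : ∃ g ∈ centralizer (Z : Set G), h.P.Ind g A)
    (hB : B ∈ Cfsg.Lie.Sz F e) : ∃ g ∈ centralizer (Z : Set G), h.P.Ind g (B * A * B⁻¹) := by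
  obtain ⟨g, hg, hgA⟩ := hA
  obtain ⟨k, hk, hkB⟩ := h.P.exists_ind hB
  exact ⟨k * g * k⁻¹, h.C_norm_cZ hk hg,
    SzMod.Ind.mul (mul_mem hk (h.cZ_le hg)) (inv_mem hk) (hkB.mul hk (h.cZ_le hg) hgA) (hkB.inv hk)⟩

theorem exists_cZ_aux [Finite G] : ∃ k : Fˣ, ∃ g ∈ centralizer (Z : Set G),
    h.P.Ind g (Cfsg.Agent.LieRecognition.SzMatrix.W F * H.D k) := by
  set w := Cfsg.Agent.LieRecognition.SzMatrix.W F with hw
  have hww : w * w = 1 := W_mul_W
  have hwi : w⁻¹ = w := inv_eq_of_mul_eq_one_left hww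
  have h1 := h.ind_conj (h.ind_U 0 1) H.W_mem
  rw [← hw, hwi] at h1
  have hmem : w * H.U 0 1 * w ∈ Cfsg.Lie.Sz F e := mul_mem (mul_mem H.W_mem (H.U_mem 0 1)) H.W_mem
  rcases H.bruhat hmem with ⟨a, b, k, hk⟩ | ⟨a, b, c, d, k, hk⟩
  · exfalso
    have h2 : mv (w * H.U 0 1 * w) ![1, 0, 0, 0] 2 = 1 := by
      rw [mv_mul, mv_mul, mv_W, mv_U, mv_W]
      simp
    rw [hk, mv_mul, mv_D, mv_U] at h2
    simp at h2
  · refine ⟨k, ?_⟩
    rw [hk, ← hw] at h1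
    have h3 := h.ind_mul (h.ind_inv (h.ind_U a b)) h1
    have e1 : (H.U a b)⁻¹ * (H.U a b * w * (H.U c d * H.D k)) = w * H.U c d * H.D k := by group
    rw [e1] at h3
    -- remove the middle factor: conjugate it
    obtain ⟨c', d', hcd⟩ : ∃ c' d', H.U c d * H.D k = H.D k * H.U c' d' := by
      have h4 := H.D_mul_U k⁻¹ c d
      refine ⟨c * ((k⁻¹ : Fˣ) : F) ^ 2 * (θ ((k⁻¹ : Fˣ) : F))⁻¹, d * θ ((k⁻¹ : Fˣ) : F), ?_⟩
      have h5 : H.D k * (H.D k⁻¹ * H.U c d) = H.U c d := by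
        rw [← mul_assoc, H.D_mul, mul_inv_cancel, H.D_one, one_mul]
      rw [h4] at h5
      rw [← h5, mul_assoc, mul_assoc, H.D_mul, inv_mul_cancel, H.D_one, mul_one]
    have h4 := h.ind_mul h3 (h.ind_inv (h.ind_U c' d'))
    have e2 : w * H.U c d * H.D k * (H.U c' d')⁻¹ = w * H.D k := by
      rw [mul_assoc w, hcd]; group
    rwa [e2] at h4

/-- the torus of `Sz` is induced by elements of `C(Z)` -/
theorem exists_cZ_D [Finite G] (k : Fˣ) : ∃ g ∈ centralizer (Z : Set G), h.P.Ind g (H.D k) := by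
  have := h.finF
  have := h.char_two
  obtain ⟨k₀, h1⟩ := h.exists_cZ_aux
  obtain ⟨l, hl⟩ : ∃ l : Fˣ, l⁻¹ * l⁻¹ = k := by
    have hinj : Function.Injective (fun l : Fˣ => l⁻¹ * l⁻¹) := by
      intro x y hxy
      have h2 : (x⁻¹ * y) * (x⁻¹ * y) = 1 := by
        have hxy' : x⁻¹ * x⁻¹ = y⁻¹ * y⁻¹ := hxy
        calc (x⁻¹ * y) * (x⁻¹ * y) = (x⁻¹ * x⁻¹) * (y * y) := by
              rw [mul_mul_mul_comm]
          _ = 1 := by rw [hxy']; group
      have h3 : ((x⁻¹ * y : Fˣ) : F) * ((x⁻¹ * y : Fˣ) : F) = 1 := by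
        have := congrArg Units.val h2
        simpa using this
      have h4 : (((x⁻¹ * y : Fˣ) : F) + 1) ^ 2 = 0 := by
        have := H.two
        linear_combination h3 + (((x⁻¹ * y : Fˣ) : F) + 1) * this
      have h5 : ((x⁻¹ * y : Fˣ) : F) = 1 := by
        have h6 := pow_eq_zero_iff (two_ne_zero) |>.1 h4
        have := H.two
        linear_combination h6 - this
      have h6 : x⁻¹ * y = 1 := Units.ext h5
      exact inv_mul_eq_one.1 h6
    exact Finite.surjective_of_injective hinj k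
  have h2 := h.ind_conj h1 (H.D_mem l)
  have h3 := h.ind_mul h1 h2
  have e1 : Cfsg.Agent.LieRecognition.SzMatrix.W F * H.D k₀ *
      (H.D l * (Cfsg.Agent.LieRecognition.SzMatrix.W F * H.D k₀) * (H.D l)⁻¹) = H.D k := by
    have h4 : H.D l * Cfsg.Agent.LieRecognition.SzMatrix.W F = Cfsg.Agent.LieRecognition.SzMatrix.W F * H.D l⁻¹ := by
      rw [H.W_mul_D, inv_inv]
    calc Cfsg.Agent.LieRecognition.SzMatrix.W F * H.D k₀ *
        (H.D l * (Cfsg.Agent.LieRecognition.SzMatrix.W F * H.D k₀) * (H.D l)⁻¹)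
        = Cfsg.Agent.LieRecognition.SzMatrix.W F * H.D k₀ * ((H.D l * Cfsg.Agent.LieRecognition.SzMatrix.W F) *
            H.D k₀ * (H.D l)⁻¹) := by group
      _ = (Cfsg.Agent.LieRecognition.SzMatrix.W F * H.D k₀) * Cfsg.Agent.LieRecognition.SzMatrix.W F *
            (H.D l⁻¹ * H.D k₀ * (H.D l)⁻¹) := by rw [h4]; group
      _ = H.D k := by
        rw [H.W_mul_D, H.D_inv, mul_assoc (H.D k₀⁻¹), W_mul_W, mul_one, H.D_mul, H.D_mul, H.D_mul]
        congr 1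
        rw [← hl]
        calc k₀⁻¹ * (l⁻¹ * k₀ * l⁻¹) = (k₀⁻¹ * k₀) * (l⁻¹ * l⁻¹) := by
              rw [mul_comm l⁻¹ k₀, mul_assoc k₀, mul_assoc]
          _ = _ := by rw [inv_mul_cancel, one_mul]
  rwa [e1] at h3

theorem exists_cZ_W [Finite G] : ∃ g ∈ centralizer (Z : Set G), h.P.Ind g (Cfsg.Agent.LieRecognition.SzMatrix.W F) := by
  obtain ⟨k₀, h1⟩ := h.exists_cZ_aux
  have h2 := h.ind_mul h1 (h.ind_inv (h.exists_cZ_D k₀))
  rwa [mul_inv_cancel_right] at h2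

/-! ### The elements of `B` on `V` -/

theorem mem_M_of_line [Finite G] {g : G} (hg : g ∈ normalizer (Z : Set G))
    (hl : ∀ c, ∃ d, h.P.act g ![c, 0, 0, 0] = ![d, 0, 0, 0]) : g ∈ normalizer (V : Set G) := by
  refine mem_normalizer_of_map_le ?_
  rintro _ ⟨v, hv, rfl⟩
  obtain ⟨hvW, c, hc⟩ := (h.memV v).1 hv
  obtain ⟨d, hd⟩ := hl c
  refine (h.memV _).2 ⟨h.conjW hg hvW, d, ?_⟩
  show h.P.f (g * v * g⁻¹) = _
  rw [h.f_conj hg hvW, hc, hd]

theorem form_cZ {g : G} (hg : g ∈ normalizer (V : Set G)) (hgZ : g ∈ centralizer (Z : Set G)) :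
    ∃ τ l : F, ∀ x y, g * h.N.e ![x, y] * g⁻¹ = h.N.e ![x + τ * y, l * y] := by
  have := h.finF
  obtain ⟨s, hs⟩ := h.N.exists_semi hg
  have h1 : ∀ c, h.N.act g ![c, 0] = ![c, 0] := fun c =>
    (h.N.commute_e hg).1 (mem_centralizer_iff.1 hgZ _ ((h.e_memZ c 0).2 rfl)).symm
  have h2 : ∀ c, s c = c := by
    intro c
    have h3 := hs c ![1, 0]
    rw [h1] at h3
    have h4 : (c • ![1, 0] : Fin 2 → F) = ![c, 0] := by apply ext2 <;> simp
    rw [h4, h1] at h3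
    have h5 := congrFun h3 0
    simpa using h5.symm
  refine ⟨h.N.act g ![0, 1] 0, h.N.act g ![0, 1] 1, fun x y => ?_⟩
  have e1 : (![x, y] : Fin 2 → F) = ![x, 0] + y • ![0, 1] := by apply ext2 <;> simp
  rw [← h.N.e_act hg, e1, h.N.act_add hg, h1, hs, h2]
  congr 1
  apply ext2
  · simp [mul_comm]
  · simp [mul_comm]

theorem form {g : G} (hg : g ∈ h.Bo) : ∃ (ρ : F ≃+* F) (a τ l : F),
    ∀ x y, g * h.N.e ![x, y] * g⁻¹ = h.N.e ![a * ρ x + τ * ρ y, l * ρ y] := by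
  have := h.finF
  obtain ⟨s, hs⟩ := h.N.exists_semi hg.1
  have h1 : h.N.act g ![1, 0] 1 = 0 := by
    have h2 := h.conjZ hg.2 ((h.e_memZ 1 0).2 rfl)
    rw [← h.N.e_act hg.1] at h2
    have h3 : h.N.act g ![1, 0] = ![h.N.act g ![1, 0] 0, h.N.act g ![1, 0] 1] := by apply ext2 <;> simp
    rw [h3, h.e_memZ] at h2
    exact h2
  refine ⟨s, h.N.act g ![1, 0] 0, h.N.act g ![0, 1] 0, h.N.act g ![0, 1] 1, fun x y => ?_⟩
  have e1 : (![x, y] : Fin 2 → F) = x • ![1, 0] + y • ![0, 1] := by apply ext2 <;> simp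
  rw [← h.N.e_act hg.1, e1, h.N.act_add hg.1, hs, hs]
  congr 1
  apply ext2
  · simp [mul_comm]
  · simp [h1, mul_comm]

theorem phi_one_ne : h.phi 1 ≠ 0 := fun h1 => one_ne_zero (h.phi_eq_zero.1 h1)

theorem exists_scale [Finite G] (k : Fˣ) : ∃ l : F, ∀ y, h.phi (l * y) = k * h.phi y := by
  obtain ⟨g, hg, hgD⟩ := h.exists_cZ_D k
  have hgC := h.cZ_le hg
  have hgM : g ∈ normalizer (V : Set G) := by
    refine h.mem_M_of_line hgC fun c => ⟨k * c, ?_⟩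
    rw [hgD, mv_D]
    simp
  obtain ⟨τ, l, hgl⟩ := h.form_cZ hgM hg
  refine ⟨l, fun y => ?_⟩
  have h1 := h.f_conj hgC (h.V_le_W (h.e_mem 0 y))
  rw [hgl, h.f_e, h.f_e, hgD, mv_D] at h1
  exact congrFun h1 0

/-- **The two field structures of `V / Z`.** -/
theorem exists_sig [Finite G] : ∃ σ : F ≃+* F, ∀ c d, h.phi (c * d) = σ c * h.phi d := by
  have := h.finF
  have h1 := h.phi_one_ne
  have key : ∀ c d, h.phi (c * d) = h.phi c / h.phi 1 * h.phi d := by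
    intro c d
    by_cases hc : c = 0
    · rw [hc, zero_mul, h.phi_zero, zero_div, zero_mul]
    · have hk : h.phi c / h.phi 1 ≠ 0 := div_ne_zero (fun h2 => hc (h.phi_eq_zero.1 h2)) h1
      obtain ⟨l, hl⟩ := h.exists_scale (Units.mk0 _ hk)
      have h2 := hl 1
      rw [mul_one, Units.val_mk0, div_mul_cancel₀ _ h1] at h2
      have h3 := h.phi_inj h2
      have h4 := hl d
      rw [h3, Units.val_mk0] at h4
      exact h4
  let f : F →+* F :=
    { toFun := fun c => h.phi c / h.phi 1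
      map_one' := div_self h1
      map_mul' := fun c d => by rw [key, mul_div_assoc]
      map_zero' := by rw [h.phi_zero, zero_div]
      map_add' := fun c d => by rw [h.phi_add, add_div] }
  exact ⟨RingEquiv.ofBijective f ⟨f.injective, Finite.surjective_of_injective f.injective⟩, key⟩

/-- the field automorphism -/
noncomputable def sig [Finite G] : F ≃+* F := h.exists_sig.choose

theorem phi_mul [Finite G] (c d : F) : h.phi (c * d) = h.sig c * h.phi d := h.exists_sig.choose_spec c d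

omit h in
theorem aut_theta (H : Good F θ e) (ρ : F ≃+* F) (x : F) : ρ (θ x) = θ (ρ x) := by
  rw [← H.pow, ← H.pow, map_pow]

end Sit

end Cfsg.Agent.Omega.TwoFFour

end

section


/-!
# THEOREM 2F4, (4): the torus

`Out h` : the outputs of (2), (3).
* `Tor g a l m k` : `g ∈ B` acts on `V` as `diag(a, l)` and on `W / Z` as `m · D k`;
* `Tor.rel` : `σ l = m k`; `Tor.rel2` : `m² = σ (θ a)`;
* `TT` : the group of all these elements; `exists_tor` : every pair `(a, l)` occurs.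
-/

set_option autoImplicit false
set_option linter.unusedSectionVars false

namespace Cfsg.Agent.Omega.TwoFFour

open Subgroup Matrix
open Cfsg.Agent.ZN Cfsg.Agent.MinSimple.VModule Cfsg.Agent.Lib.SL2Mat
open Cfsg.Agent.LieRecognition.SzMatrix (Good Umat Umat_def Dmat Dmat_def W_mul_W theta_ne_zero)
open Cfsg.Agent.Omega.NatPair (NatMod ap ext2)

variable {G : Type*} [Group G]

namespace Sit

variable {F : Type*} [Field F] {θ : F →+* F} {e : ℕ} {H : Good F θ e} {S : Sylow 2 G} {V Z W : Subgroup G}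

/-- The outputs of (2), (3). -/
structure Out (h : Sit F H S V Z W) : Prop where
  nrm : ∀ b ∈ h.Bo, ∀ s ∈ S, b * s * b⁻¹ ∈ S
  CV : centralizer (V : Set G) ≤ S
  KZ : h.P.K ⊓ centralizer (Z : Set G) ≤ S
  fac : ∀ s ∈ S, ∃ a ∈ S, a ∈ h.P.K ∧ a⁻¹ * s ∈ centralizer (V : Set G)

/-- `g ∈ B` acts on `V` as `diag(a, l)` and on `W / Z` as `m · D k`. -/
structure Tor (h : Sit F H S V Z W) (g : G) (a l m k : Fˣ) : Prop where
  memB : g ∈ h.Bo
  V : ∀ x y, g * h.N.e ![x, y] * g⁻¹ = h.N.e ![a * x, l * y]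
  W : ∀ v, h.P.act g v = (m : F) • mv (H.D k) v

variable {h : Sit F H S V Z W}

namespace Tor

theorem mul {g g' : G} {a l m k a' l' m' k' : Fˣ} (t : Tor h g a l m k) (t' : Tor h g' a' l' m' k') :
    Tor h (g * g') (a * a') (l * l') (m * m') (k * k') where
  memB := mul_mem t.memB t'.memB
  V x y := by
    have e1 : g * g' * h.N.e ![x, y] * (g * g')⁻¹ = g * (g' * h.N.e ![x, y] * g'⁻¹) * g⁻¹ := by group
    rw [e1, t'.V, t.V]
    congr 2
    · rw [Units.val_mul, mul_assoc]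
    · rw [Units.val_mul, mul_assoc]
  W v := by
    rw [h.P.act_mul t.memB.2 t'.memB.2, t'.W, t.W, mv_smul, ← mv_mul, H.D_mul, smul_smul, Units.val_mul]

theorem one : Tor h 1 1 1 1 1 where
  memB := one_mem _
  V x y := by simp
  W v := by rw [h.P.act_one, H.D_one, mv_one, Units.val_one, one_smul]

theorem inv {g : G} {a l m k : Fˣ} (t : Tor h g a l m k) : Tor h g⁻¹ a⁻¹ l⁻¹ m⁻¹ k⁻¹ where
  memB := inv_mem t.memB
  V x y := by
    have h1 := t.V (a⁻¹ * x) (l⁻¹ * y)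
    rw [Units.mul_inv_cancel_left, Units.mul_inv_cancel_left] at h1
    rw [← h1]
    simp only [Units.val_inv_eq_inv_val]
    group
  W v := by
    apply h.P.act_inj t.memB.2
    rw [h.P.act_act_inv t.memB.2, t.W, mv_smul, smul_smul, ← mv_mul, H.D_mul, mul_inv_cancel, H.D_one, mv_one,
      Units.val_inv_eq_inv_val, mul_inv_cancel₀ m.ne_zero, one_smul]

theorem uniq {g : G} {a l m k a' l' m' k' : Fˣ} (t : Tor h g a l m k) (t' : Tor h g a' l' m' k') :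
    a = a' ∧ l = l' := by
  have h1 := t.V 1 1
  rw [t'.V] at h1
  have h2 := h.e_inj h1
  rw [mul_one, mul_one, mul_one, mul_one] at h2
  exact ⟨Units.ext h2.1.symm, Units.ext h2.2.symm⟩

/-- the two coordinates of `V / Z` -/
theorem rel [Finite G] {g : G} {a l m k : Fˣ} (t : Tor h g a l m k) : h.sig l = m * k := by
  have h1 := h.f_conj t.memB.2 (h.V_le_W (h.e_mem 0 1))
  rw [t.V, h.f_e, h.f_e, t.W, mv_D, h.phi_mul] at h1
  have h2 := congrFun h1 0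
  have h3 : h.sig l * h.phi 1 = m * (k * h.phi 1) := h2
  exact mul_right_cancel₀ h.phi_one_ne (h3.trans (mul_assoc _ _ _).symm)

theorem cen {g : G} {m k : Fˣ} (t : Tor h g 1 1 m k) : g ∈ centralizer (V : Set G) := by
  apply h.mem_cen_of_e
  intro x y
  rw [t.V, Units.val_one, one_mul, one_mul]

theorem unip [Finite G] (o : Out h) {g : G} {m k : Fˣ} (t : Tor h g 1 1 m k) : m = 1 ∧ k = 1 := by
  have := h.char_two
  obtain ⟨a, b, hab⟩ := h.Ad.exists_U g (o.CV t.cen)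
  have h0 := congrFun (hab ![1, 0, 0, 0]) 0
  have h3 := congrFun (hab ![0, 0, 0, 1]) 3
  rw [t.W, mv_D, mv_U] at h0 h3
  have h0 : (m : F) * (k * 1) = 1 + a * 0 + b * 0 + (a * b + a ^ 2 * θ a + θ b) * 0 := h0
  have h3 : (m : F) * ((k : F)⁻¹ * 1) = 1 := h3
  simp only [mul_one, mul_zero, add_zero] at h0 h3
  have h4 : (m : F) = k := by
    field_simp at h3
    exact h3
  have h5 : (k : F) = 1 := by
    rw [h4] at h0
    have h6 : ((k : F) - 1) ^ 2 = 0 := by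
      have := H.two
      linear_combination h0 + (1 - k) * this
    exact sub_eq_zero.1 ((pow_eq_zero_iff two_ne_zero).1 h6)
  exact ⟨Units.ext (h4.trans h5), Units.ext h5⟩

end Tor

section lifts

variable [Finite G] (o : Out h)
include o

/-- `C(V)` covers `T` -/
theorem Out.cover_CV (a b : F) : ∃ c ∈ centralizer (V : Set G), h.P.Ind c (H.U a b) := by
  obtain ⟨s, hs, hsU⟩ := h.Ad.surj a b
  obtain ⟨a₀, ha, haK, hac⟩ := o.fac s hs
  refine ⟨a₀⁻¹ * s, hac, fun v => ?_⟩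
  rw [h.P.act_mul (inv_mem haK.1) (h.S_le_C hs), hsU, (inv_mem haK : a₀⁻¹ ∈ h.P.K).2]

/-- `S ⊓ K` covers `S / C_S(V)` -/
theorem Out.cover_K (a : F) : ∃ s ∈ S, s ∈ h.P.K ∧ h.Up s a := by
  obtain ⟨s, hs, hsU⟩ := h.exists_of_up a
  obtain ⟨a₀, ha, haK, hac⟩ := o.fac s hs
  refine ⟨a₀, ha, haK, ?_⟩
  have h1 := h.up_mul hsU (h.up_inv (h.up_cen hac))
  have e : s * (a₀⁻¹ * s)⁻¹ = a₀ := by group
  rwa [e, add_zero] at h1

/-- elements acting diagonally on `V` -/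
theorem Out.adjust {g : G} (hg : g ∈ h.Bo) {a l : Fˣ} (hV : ∀ x y, g * h.N.e ![x, y] * g⁻¹ = h.N.e ![a * x, l * y]) :
    ∃ c ∈ centralizer (V : Set G), ∃ m k, Tor h (c * g) a l m k := by
  have := h.finF
  have : Fintype F := Fintype.ofFinite F
  have hF : Fintype.card F = 2 ^ (2 * h.mf + 1) := by rw [← Nat.card_eq_fintype_card, h.cardF]
  have hact : ∀ y, h.P.act g ![h.phi y, 0, 0, 0] = ![h.sig l * h.phi y, 0, 0, 0] := by
    intro y
    have h1 := h.f_conj hg.2 (h.V_le_W (h.e_mem 0 y))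
    rw [hV, h.f_e, h.f_e, h.phi_mul] at h1
    exact h1.symm
  have hsurj : ∀ z, ∃ y, h.phi y = z := Finite.surjective_of_injective h.phi_inj
  have hact' : ∀ z, h.P.act g ![z, 0, 0, 0] = ![h.sig l * z, 0, 0, 0] := by
    intro z
    obtain ⟨y, rfl⟩ := hsurj z
    exact hact y
  have e1 : (Pi.single 0 1 : Fin 4 → F) = ![1, 0, 0, 0] := by
    ext i; fin_cases i <;> simp
  obtain ⟨m, a', b', k, ρ, hρ⟩ := h.P.exists_borel h.one_le hF hg.2 (by rw [e1, hact']; rfl)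
  have hρ1 : ∀ z, (m : F) * (k * ρ z) = h.sig l * z := by
    intro z
    have h1 := congrFun (hact' z) 0
    rw [hρ, mv_mul, mv_D, mv_U] at h1
    have e2 : (m : F) * ((k * ρ z) + a' * (θ k * (k : F)⁻¹ * ρ 0) + b' * (k * (θ k)⁻¹ * ρ 0) +
      (a' * b' + a' ^ 2 * θ a' + θ b') * ((k : F)⁻¹ * ρ 0)) = h.sig l * z := h1
    rw [map_zero] at e2
    linear_combination e2
  have hmk : (m : F) * k = h.sig l := by
    have := hρ1 1
    rw [map_one, mul_one, mul_one] at this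
    exact this
  have hρ2 : ∀ z, ρ z = z := by
    intro z
    have h1 := hρ1 z
    rw [← mul_assoc, hmk] at h1
    have h2 : h.sig (l : F) ≠ 0 := by
      rw [Ne, map_eq_zero_iff _ h.sig.injective]; exact l.ne_zero
    exact mul_left_cancel₀ h2 h1
  obtain ⟨c, hc, hcU⟩ := o.cover_CV a' b'
  refine ⟨c⁻¹, inv_mem hc, m, k, mul_mem ⟨h.cen_le_M (inv_mem hc), h.cen_le_C (inv_mem hc)⟩ hg, ?_, ?_⟩
  · intro x y
    have e2 : c⁻¹ * g * h.N.e ![x, y] * (c⁻¹ * g)⁻¹ = c⁻¹ * (g * h.N.e ![x, y] * g⁻¹) * c⁻¹⁻¹ := by group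
    rw [e2, hV, h.e_of_mem_cen (inv_mem hc)]
  · intro v
    rw [h.P.act_mul (h.cen_le_C (inv_mem hc)) hg.2, hcU.inv (h.cen_le_C hc)]
    have e2 : h.P.act g v = (m : F) • mv (H.U a' b' * H.D k) v := by
      rw [hρ]
      congr 2
      exact funext fun i => hρ2 _
    rw [e2, mv_smul, mv_mul, mv_inv_mv]

/-- an element of `C` acting linearly on `V / Z` and as a scalar on `Z`, modulo `S ⊓ K` -/
theorem Out.adjust_K {g : G} (hg : g ∈ h.Bo) {a l m k : Fˣ} {τ : F}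
    (hV : ∀ x y, g * h.N.e ![x, y] * g⁻¹ = h.N.e ![a * x + τ * y, l * y])
    (hW : ∀ v, h.P.act g v = (m : F) • mv (H.D k) v) :
    ∃ s ∈ S, s ∈ h.P.K ∧ Tor h (s * g) a l m k := by
  obtain ⟨s, hs, hsK, hsU⟩ := o.cover_K (τ / l)
  refine ⟨s, hs, hsK, mul_mem ⟨h.SV hs, h.S_le_C hs⟩ hg, ?_, ?_⟩
  · intro x y
    have e2 : s * g * h.N.e ![x, y] * (s * g)⁻¹ = s * (g * h.N.e ![x, y] * g⁻¹) * s⁻¹ := by group
    rw [e2, hV, hsU]
    congr 2
    have hl := l.ne_zero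
    have e3 : τ / l * (l * y) = τ * y := by field_simp
    rw [e3, add_assoc, H.add_self, add_zero]
  · intro v
    rw [h.P.act_mul hsK.1 hg.2, hW, hsK.2]

/-- the torus of `Sz` -/
theorem Out.exists_two (k : Fˣ) : ∃ g ∈ centralizer (Z : Set G), ∃ l, Tor h g 1 l 1 k := by
  obtain ⟨g, hg, hgD⟩ := h.exists_cZ_D k
  have hgC := h.cZ_le hg
  have hgM : g ∈ normalizer (V : Set G) := by
    refine h.mem_M_of_line hgC fun c => ⟨k * c, ?_⟩
    rw [hgD, mv_D]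
    simp
  obtain ⟨τ, l, hgl⟩ := h.form_cZ hgM hg
  have hl : l ≠ 0 := by
    rintro rfl
    have h1 := hgl 0 1
    rw [mul_one, zero_add, zero_mul] at h1
    have h2 : h.N.e ![0, 1] ∈ Z := by
      have h3 : g * h.N.e ![0, 1] * g⁻¹ ∈ Z := by rw [h1, h.e_memZ]
      exact (h.conj_mem_iff hgC).1 h3
    rw [h.e_memZ] at h2
    exact one_ne_zero h2
  obtain ⟨s, hs, hsK, ht⟩ := o.adjust_K (g := g) ⟨hgM, hgC⟩ (a := 1) (l := Units.mk0 l hl) (m := 1) (k := k) (τ := τ)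
    (fun x y => by rw [hgl, Units.val_one, one_mul, Units.val_mk0]) (fun v => by rw [hgD, Units.val_one, one_smul])
  exact ⟨s * g, mul_mem (h.SZ hs) hg, _, ht⟩

/-- the torus of `SL₂`, acting trivially on `I / V` -/
theorem Out.exists_one (a : Fˣ) : ∃ g, (∀ i ∈ h.I, g * i * g⁻¹ * i⁻¹ ∈ V) ∧ ∃ m k, Tor h g a a⁻¹ m k := by
  obtain ⟨n, hn⟩ := h.exists_sw
  have hnM := h.sw_mem hn
  -- the centralizer of `I / V` in `N(V)`
  let L : Subgroup G :=
    { carrier := {g | g ∈ normalizer (V : Set G) ∧ ∀ i ∈ h.I, g * i * g⁻¹ * i⁻¹ ∈ V}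
      mul_mem' := by
        rintro g g' ⟨hg, h1⟩ ⟨hg', h2⟩
        refine ⟨mul_mem hg hg', fun i hi => ?_⟩
        have h3 := h1 _ (h.M_conj_I hg' hi)
        have h4 := h2 i hi
        have e1 : g * g' * i * (g * g')⁻¹ * i⁻¹ = (g * (g' * i * g'⁻¹) * g⁻¹ * (g' * i * g'⁻¹)⁻¹) *
          (g' * i * g'⁻¹ * i⁻¹) := by group
        rw [e1]
        exact mul_mem h3 h4
      one_mem' := ⟨one_mem _, fun i hi => by simp⟩
      inv_mem' := by
        rintro g ⟨hg, h1⟩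
        refine ⟨inv_mem hg, fun i hi => ?_⟩
        have h2 := h1 _ (h.M_conj_I (inv_mem hg) hi)
        have e1 : g⁻¹ * i * g⁻¹⁻¹ * i⁻¹ = (g * (g⁻¹ * i * g⁻¹⁻¹) * g⁻¹ * (g⁻¹ * i * g⁻¹⁻¹)⁻¹)⁻¹ := by group
        rw [e1]
        exact inv_mem h2 }
  have hSL : ∀ s ∈ S, s ∈ L := by
    intro s hs
    refine ⟨h.SV hs, fun i hi => ?_⟩
    have h1 := h.S_conj_I hs hi
    rw [h.mem_V_iff (mul_mem h1 (inv_mem hi)), h.f_mul h1.1 (inv_mem hi.1), h.f_inv hi.1,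
      h.f_conj (h.S_le_C hs) hi.1]
    obtain ⟨a', b', hab⟩ := h.Ad.exists_U s hs
    rw [hab, mv_U]
    have e1 : h.P.f i 1 + θ a' * h.P.f i 2 + (b' + a' * θ a') * h.P.f i 3 + h.P.f i 1 = 0 := by
      rw [hi.2.1, hi.2.2]
      have := H.add_self (h.P.f i 1)
      linear_combination this
    exact e1
  have hnL : ∀ s ∈ L, n * s * n⁻¹ ∈ L := by
    rintro s ⟨hs, h1⟩
    refine ⟨mul_mem (mul_mem hnM hs) (inv_mem hnM), fun i hi => ?_⟩
    have h2 := h.conjV hnM (h1 _ (h.M_conj_I (inv_mem hnM) hi))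
    have e1 : n * s * n⁻¹ * i * (n * s * n⁻¹)⁻¹ * i⁻¹ =
      n * (s * (n⁻¹ * i * n⁻¹⁻¹) * s⁻¹ * (n⁻¹ * i * n⁻¹⁻¹)⁻¹) * n⁻¹ := by group
    rw [e1]
    exact h2
  have hlo : ∀ {s : G} {b : F}, h.Up s b → ∀ x y, n * s * n⁻¹ * h.N.e ![x, y] * (n * s * n⁻¹)⁻¹ =
      h.N.e ![x, y + b * x] := by
    intro s b hs x y
    have e1 : n * s * n⁻¹ * h.N.e ![x, y] * (n * s * n⁻¹)⁻¹ = n * (s * (n⁻¹ * h.N.e ![x, y] * n⁻¹⁻¹) * s⁻¹) * n⁻¹ := by
      group
    rw [e1, h.sw_inv hn, hs, hn]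
  obtain ⟨s, hs, hsU⟩ := h.exists_of_up (a : F)
  obtain ⟨r, hr, hrU⟩ := h.exists_of_up ((a⁻¹ : Fˣ) : F)
  obtain ⟨t, ht, htU⟩ := h.exists_of_up (1 : F)
  set g := s * (n * r * n⁻¹) * s * (t * (n * t * n⁻¹) * t) with hg
  have hgL : g ∈ L := mul_mem (mul_mem (mul_mem (hSL s hs) (hnL _ (hSL r hr))) (hSL s hs))
    (mul_mem (mul_mem (hSL t ht) (hnL _ (hSL t ht))) (hSL t ht))
  have hgV : ∀ x y, g * h.N.e ![x, y] * g⁻¹ = h.N.e ![a * x, ((a⁻¹ : Fˣ) : F) * y] := by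
    intro x y
    have e1 : g * h.N.e ![x, y] * g⁻¹ = s * ((n * r * n⁻¹) * (s * (t * ((n * t * n⁻¹) * (t * h.N.e ![x, y] * t⁻¹) *
      (n * t * n⁻¹)⁻¹) * t⁻¹) * s⁻¹) * (n * r * n⁻¹)⁻¹) * s⁻¹ := by rw [hg]; group
    have ha := a.ne_zero
    rw [e1, htU, hlo htU, htU, hsU, hlo hrU, hsU]
    congr 1
    have h2 := H.two
    rw [Units.val_inv_eq_inv_val]
    apply ext2
    · show x + 1 * y + 1 * (y + 1 * (x + 1 * y)) + a * (y + 1 * (x + 1 * y)) + a * (y + 1 * (x + 1 * y) +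
        (a : F)⁻¹ * (x + 1 * y + 1 * (y + 1 * (x + 1 * y)) + a * (y + 1 * (x + 1 * y)))) = a * x
      field_simp
      linear_combination (2 * x + 3 * y + 3 * y * a + x * a) * h2
    · show y + 1 * (x + 1 * y) + (a : F)⁻¹ * (x + 1 * y + 1 * (y + 1 * (x + 1 * y)) + a * (y + 1 * (x + 1 * y))) =
        (a : F)⁻¹ * y
      field_simp
      linear_combination (x + y + 2 * a * y + a * x) * h2
  have hgC : g ∈ normalizer (Z : Set G) := by
    apply h.mem_C_of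
    intro c
    rw [hgV, mul_zero, h.e_memZ]
  obtain ⟨c, hc, m, k, ht'⟩ := o.adjust (g := g) (a := a) (l := a⁻¹) ⟨hgL.1, hgC⟩ hgV
  exact ⟨c * g, (mul_mem (hSL c (o.CV hc)) hgL).2, m, k, ht'⟩

/-- every pair occurs -/
theorem Out.exists_tor (a l : Fˣ) : ∃ g m k, Tor h g a l m k ∧ (m : F) ^ 2 = h.sig (θ a) := by
  obtain ⟨g₁, hg₁, m₁, k₁, t₁⟩ := o.exists_one a
  have hne : h.sig ((a * l : Fˣ) : F) ≠ 0 := by
    rw [Ne, map_eq_zero_iff _ h.sig.injective]; exact (a * l).ne_zero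
  obtain ⟨g₂, hg₂, l₂, t₂⟩ := o.exists_two (Units.mk0 _ hne)
  have h2 := t₂.rel
  rw [Units.val_one, one_mul, Units.val_mk0] at h2
  have h3 : l₂ = a * l := Units.ext (h.sig.injective h2)
  subst h3
  have t := t₁.mul t₂
  rw [mul_one, mul_one, inv_mul_cancel_left] at t
  refine ⟨_, _, _, t, ?_⟩
  -- the relation for `g₁`
  have e1 : (m₁ : F) * (θ k₁ * (k₁ : F)⁻¹) = 1 := by
    obtain ⟨w, hw, hwf⟩ := h.P.f_surj ![0, 1, 0, 0]
    have hI : w ∈ h.I := ⟨hw, by rw [hwf]; rfl, by rw [hwf]; rfl⟩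
    have h4 := hg₁ w hI
    have h5 := h.M_conj_I t₁.memB.1 hI
    rw [h.mem_V_iff (mul_mem h5 (inv_mem hI)), h.f_mul h5.1 (inv_mem hI.1), h.f_inv hI.1,
      h.f_conj t₁.memB.2 hI.1, t₁.W, mv_D, hwf] at h4
    have h6 : (m₁ : F) * (θ k₁ * (k₁ : F)⁻¹ * 1) + 1 = 0 := h4
    have := H.two
    linear_combination h6 - this
  have e2 := t₁.rel
  have hθk := theta_ne_zero θ k₁
  have hk := k₁.ne_zero
  have hm := m₁.ne_zero
  have e3 : (m₁ : F) = k₁ * (θ k₁)⁻¹ := by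
    field_simp at e1 ⊢
    exact e1
  have e4 : h.sig (θ a) = θ (h.sig a) := aut_theta H _ _
  have e5 : h.sig (a : F) = ((k₁ : F) * (m₁ : F))⁻¹ := by
    rw [Units.val_inv_eq_inv_val, map_inv₀] at e2
    rw [mul_comm, ← e2, inv_inv]
  rw [e4, e5, map_inv₀, map_mul, e3, map_mul, map_inv₀, H.sq]
  field_simp

theorem Out.rel2 {g : G} {a l m k : Fˣ} (t : Tor h g a l m k) : (m : F) ^ 2 = h.sig (θ a) := by
  obtain ⟨g', m', k', t', h1⟩ := o.exists_tor a l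
  have h2 := t.mul t'.inv
  rw [mul_inv_cancel, mul_inv_cancel] at h2
  have h3 := (h2.unip o).1
  rw [mul_inv_eq_one] at h3
  rw [h3, h1]

end lifts

end Sit

end Cfsg.Agent.Omega.TwoFFour

end

section


/-!
# THEOREM 2F4, (3c), (4): the Hall subgroup `H` and the reflections `n₀`, `n₁`

* `TT` : the torus elements; `aOf`, `lOf` : the two characters;
* `Hall h Hh` : `Hh` is a complement of `TT ⊓ C(V)` in `TT`; `Out.exists_hall`;
* `exists_n₁` : `n₁ ∈ N(Hh)` interchanging the coordinates of `V`;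
* `exists_n₀` : `n₀ ∈ N(Hh) ⊓ C(Z)` acting as `W` on `W / Z`.
-/

set_option autoImplicit false
set_option linter.unusedSectionVars false

namespace Cfsg.Agent.Omega.TwoFFour

open Subgroup Matrix
open Cfsg.Agent.ZN Cfsg.Agent.MinSimple.VModule Cfsg.Agent.Lib.SL2Mat
open Cfsg.Agent.LieRecognition.SzMatrix (Good Umat Umat_def Dmat Dmat_def W_mul_W theta_ne_zero)
open Cfsg.Agent.Omega.NatPair (NatMod ap ext2)

open scoped Pointwise

variable {G : Type*} [Group G]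

namespace Sit

variable {F : Type*} [Field F] {θ : F →+* F} {e : ℕ} {H : Good F θ e} {S : Sylow 2 G} {V Z W : Subgroup G}

/-- the group of the torus elements -/
def TT (h : Sit F H S V Z W) : Subgroup G where
  carrier := {g | ∃ a l m k, Tor h g a l m k}
  mul_mem' := by
    rintro g g' ⟨a, l, m, k, t⟩ ⟨a', l', m', k', t'⟩
    exact ⟨_, _, _, _, t.mul t'⟩
  one_mem' := ⟨1, 1, 1, 1, Tor.one⟩
  inv_mem' := by
    rintro g ⟨a, l, m, k, t⟩
    exact ⟨_, _, _, _, t.inv⟩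

open Classical in
/-- the character on `Z` -/
noncomputable def aOf (h : Sit F H S V Z W) (g : G) : Fˣ :=
  if hg : ∃ a l m k, Tor h g a l m k then hg.choose else 1

open Classical in
/-- the character on `V / Z` -/
noncomputable def lOf (h : Sit F H S V Z W) (g : G) : Fˣ :=
  if hg : ∃ a l m k, Tor h g a l m k then hg.choose_spec.choose else 1

variable {h : Sit F H S V Z W}

theorem mem_TT {g : G} : g ∈ h.TT ↔ ∃ a l m k, Tor h g a l m k := Iff.rfl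

theorem Tor.aOf_eq {g : G} {a l m k : Fˣ} (t : Tor h g a l m k) : h.aOf g = a := by
  have hg : ∃ a l m k, Tor h g a l m k := ⟨_, _, _, _, t⟩
  obtain ⟨m', k', t'⟩ := hg.choose_spec.choose_spec
  unfold aOf
  rw [dif_pos hg]
  exact (t'.uniq t).1

theorem Tor.lOf_eq {g : G} {a l m k : Fˣ} (t : Tor h g a l m k) : h.lOf g = l := by
  have hg : ∃ a l m k, Tor h g a l m k := ⟨_, _, _, _, t⟩
  obtain ⟨m', k', t'⟩ := hg.choose_spec.choose_spec
  unfold lOf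
  rw [dif_pos hg]
  exact (t'.uniq t).2

/-- `Hh` is a complement of `TT ⊓ C(V)` in `TT` -/
structure Hall (h : Sit F H S V Z W) (Hh : Subgroup G) : Prop where
  le : Hh ≤ h.TT
  cover : ∀ g ∈ h.TT, ∃ c ∈ centralizer (V : Set G), ∃ x ∈ Hh, g = c * x
  inj : ∀ x ∈ Hh, x ∈ centralizer (V : Set G) → x = 1
  odd : Odd (Nat.card Hh)

theorem TT_le : h.TT ≤ h.Bo := by
  rintro g ⟨a, l, m, k, t⟩
  exact t.memB

theorem Tor.of_TT {g : G} (hg : g ∈ h.TT) : ∃ m k, Tor h g (h.aOf g) (h.lOf g) m k := by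
  obtain ⟨a, l, m, k, t⟩ := hg
  rw [t.aOf_eq, t.lOf_eq]
  exact ⟨m, k, t⟩

variable [Finite G]

theorem Out.exists_hall (o : Out h) : ∃ Hh, Hall h Hh := by
  have := h.finF
  have := h.char_two
  let χ : h.TT →* Fˣ × Fˣ :=
    { toFun := fun g => (h.aOf g, h.lOf g)
      map_one' := by
        have t : Tor h ((1 : h.TT) : G) 1 1 1 1 := Tor.one
        rw [t.aOf_eq, t.lOf_eq]; rfl
      map_mul' := by
        intro g g'
        obtain ⟨m, k, t⟩ := Tor.of_TT g.2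
        obtain ⟨m', k', t'⟩ := Tor.of_TT g'.2
        have t'' : Tor h ((g * g' : h.TT) : G) _ _ _ _ := t.mul t'
        rw [t''.aOf_eq, t''.lOf_eq]; rfl }
  have hker : ∀ g : h.TT, g ∈ χ.ker ↔ (g : G) ∈ centralizer (V : Set G) := by
    intro g
    obtain ⟨m, k, t⟩ := Tor.of_TT g.2
    rw [MonoidHom.mem_ker]
    constructor
    · intro h1
      have h2 : h.aOf g = 1 := congrArg Prod.fst h1
      have h3 : h.lOf g = 1 := congrArg Prod.snd h1
      rw [h2, h3] at t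
      exact t.cen
    · intro h1
      have h2 : Tor h (g : G) 1 1 m k → (h.aOf g, h.lOf g) = 1 := by
        intro t'
        rw [t'.aOf_eq, t'.lOf_eq]; rfl
      have h3 := t.V 1 1
      rw [h.e_of_mem_cen h1] at h3
      have h4 := h.e_inj h3
      rw [mul_one, mul_one] at h4
      have h5 : h.aOf (g : G) = 1 := Units.ext h4.1.symm
      have h6 : h.lOf (g : G) = 1 := Units.ext h4.2.symm
      show (h.aOf (g : G), h.lOf (g : G)) = 1
      rw [h5, h6]; rfl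
  have hoddF : Odd (Nat.card (Fˣ × Fˣ)) := by
    have h1 : Odd (Nat.card Fˣ) := by
      rw [Nat.card_units, h.cardF]
      have h2 : Even (2 ^ (2 * h.mf + 1)) := ⟨2 ^ (2 * h.mf), by rw [pow_succ]; ring⟩
      exact Nat.Even.sub_odd (Nat.one_le_two_pow) h2 odd_one
    rw [Nat.card_prod]
    exact h1.mul h1
  have hidx : Odd χ.ker.index := by
    rw [Subgroup.index_ker]
    exact Odd.of_dvd_nat hoddF (Subgroup.card_subgroup_dvd_card _)
  have hp : IsPGroup 2 χ.ker := by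
    intro g
    have h1 := o.CV ((hker g.1).1 g.2)
    obtain ⟨k, hk⟩ := S.isPGroup' ⟨_, h1⟩
    refine ⟨k, ?_⟩
    apply Subtype.ext
    apply Subtype.ext
    have h3 : ((g : h.TT) : G) ^ 2 ^ k = 1 := congrArg Subtype.val hk
    exact h3
  obtain ⟨n, hn⟩ := IsPGroup.iff_card.mp hp
  have hcop : Nat.Coprime (Nat.card χ.ker) χ.ker.index := by
    rw [hn]
    exact Nat.Coprime.pow_left n (Nat.coprime_two_left.2 hidx)
  obtain ⟨X, hX⟩ := Subgroup.exists_right_complement'_of_coprime hcop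
  refine ⟨X.map h.TT.subtype, ?_, ?_, ?_, ?_⟩
  · rintro _ ⟨x, -, rfl⟩
    exact x.2
  · intro g hg
    obtain ⟨⟨c, x⟩, hcx⟩ := hX.2 ⟨g, hg⟩
    refine ⟨_, (hker c).1 c.2, _, ⟨x, x.2, rfl⟩, ?_⟩
    exact (congrArg Subtype.val hcx).symm
  · rintro _ ⟨x, hx, rfl⟩ hc
    have h1 : x ∈ χ.ker := (hker x).2 hc
    have h2 : x ∈ χ.ker ⊓ X := ⟨h1, hx⟩
    rw [hX.disjoint.eq_bot, mem_bot] at h2
    rw [h2]; rfl
  · have h1 : Nat.card (X.map h.TT.subtype) = Nat.card X :=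
      (Nat.card_congr (X.equivMapOfInjective _ h.TT.subtype_injective).toEquiv).symm
    rw [h1]
    have h2 := hX.symm.index_eq_card
    rwa [← h2]

section refl

variable {Hh : Subgroup G} (o : Out h) (hH : Hall h Hh)
include o hH

theorem Hall.card_coprime {R : Subgroup G} (hR : IsPGroup 2 R) : (Nat.card Hh).Coprime (Nat.card R) := by
  obtain ⟨n, hn⟩ := IsPGroup.iff_card.mp hR
  rw [hn]
  exact Nat.Coprime.pow_right n (Nat.coprime_two_right.2 hH.odd)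

theorem Hall.exists_conj {R : Subgroup G} (hR : IsPGroup 2 R) (hHR : Hh ≤ normalizer (R : Set G)) {n : G}
    (hn : ∀ x ∈ Hh, ∃ r ∈ R, ∃ y ∈ Hh, n * x * n⁻¹ = r * y) : ∃ d ∈ R, d⁻¹ * n ∈ normalizer (Hh : Set G) := by
  have hsol : Group.IsSolvable R := by
    have : Group.IsNilpotent R := IsPGroup.isNilpotent hR
    infer_instance
  obtain ⟨d, hd, e1⟩ := Cfsg.Agent.S0030.exists_conj_eq Hh R (Hh.map (MulAut.conj n).toMonoidHom) hHR
    (Hall.card_coprime o hH hR) (Or.inr hsol)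
    (by
      rintro _ ⟨x, hx, rfl⟩
      obtain ⟨r, hr, y, hy, e2⟩ := hn x hx
      have e3 : (MulAut.conj n).toMonoidHom x = r * y := e2
      rw [e3]
      exact mul_mem (mem_sup_left hr) (mem_sup_right hy))
    (Nat.card_congr (Hh.equivMapOfInjective _ (MulAut.conj n).injective).toEquiv).symm
  refine ⟨d, hd, ?_⟩
  refine mem_normalizer_of_map_le ?_
  rintro _ ⟨x, hx, rfl⟩
  have h1 : n * x * n⁻¹ ∈ (MulAut.conj d • Hh : Subgroup G) := by
    rw [e1]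
    exact ⟨x, hx, rfl⟩
  rw [mem_pointwise_smul_iff_inv_smul_mem] at h1
  have e2 : (MulAut.conj d)⁻¹ • (n * x * n⁻¹) = d⁻¹ * (n * x * n⁻¹) * d := by
    rw [← map_inv, MulAut.smul_def, MulAut.conj_apply, inv_inv]
  rw [e2] at h1
  have e3 : (MulAut.conj (d⁻¹ * n)).toMonoidHom x = d⁻¹ * (n * x * n⁻¹) * d := by
    show d⁻¹ * n * x * (d⁻¹ * n)⁻¹ = _
    group
  rw [e3]
  exact h1

theorem Hall.exists_n₁ : ∃ n, h.Sw n ∧ n ∈ normalizer (Hh : Set G) := by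
  obtain ⟨n, hn⟩ := h.exists_sw
  have h2 : IsPGroup 2 (centralizer (V : Set G) : Subgroup G) := S.isPGroup'.to_le o.CV
  obtain ⟨d, hd, hdn⟩ := Hall.exists_conj o hH h2 (fun x hx => h.M_normC (TT_le (hH.le hx)).1) (n := n) (by
    intro x hx
    obtain ⟨a, l, m, k, t⟩ := hH.le hx
    have hV : ∀ x' y, n * x * n⁻¹ * h.N.e ![x', y] * (n * x * n⁻¹)⁻¹ = h.N.e ![l * x', a * y] := by
      intro x' y
      have e1 : n * x * n⁻¹ * h.N.e ![x', y] * (n * x * n⁻¹)⁻¹ = n * (x * (n⁻¹ * h.N.e ![x', y] * n⁻¹⁻¹) * x⁻¹) * n⁻¹ := by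
        group
      rw [e1, h.sw_inv hn, t.V, hn]
    have hB : n * x * n⁻¹ ∈ h.Bo := by
      refine mem_inf.2 ⟨mul_mem (mul_mem (h.sw_mem hn) t.memB.1) (inv_mem (h.sw_mem hn)), ?_⟩
      apply h.mem_C_of
      intro c
      rw [hV, mul_zero, h.e_memZ]
    obtain ⟨c, hc, m', k', t'⟩ := o.adjust hB hV
    obtain ⟨c', hc', y, hy, e2⟩ := hH.cover _ ⟨_, _, _, _, t'⟩
    refine ⟨c⁻¹ * c', mul_mem (inv_mem hc) hc', y, hy, ?_⟩
    rw [mul_assoc c⁻¹, ← e2]; group)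
  refine ⟨d⁻¹ * n, ?_, hdn⟩
  intro x y
  have e1 : d⁻¹ * n * h.N.e ![x, y] * (d⁻¹ * n)⁻¹ = d⁻¹ * (n * h.N.e ![x, y] * n⁻¹) * d⁻¹⁻¹ := by group
  rw [e1, hn, h.e_of_mem_cen (inv_mem hd)]

theorem Hall.exists_n₀ : ∃ n ∈ centralizer (Z : Set G), h.P.Ind n (Cfsg.Agent.LieRecognition.SzMatrix.W F) ∧
    n ∈ normalizer (Hh : Set G) := by
  obtain ⟨n, hn, hnW⟩ := h.exists_cZ_W
  have hnC := h.cZ_le hn
  set R : Subgroup G := h.P.K ⊓ centralizer (Z : Set G) with hR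
  have h2 : IsPGroup 2 R := S.isPGroup'.to_le o.KZ
  have hCR : normalizer (Z : Set G) ≤ normalizer (R : Set G) := by
    intro g hg
    refine mem_normalizer_of_map_le ?_
    rintro _ ⟨x, ⟨hx, hx'⟩, rfl⟩
    exact ⟨h.P.conj_mem_K hg hx, h.C_norm_cZ hg hx'⟩
  obtain ⟨d, hd, hdn⟩ := Hall.exists_conj o hH h2 (fun x hx => hCR (TT_le (hH.le hx)).2) (n := n) (by
    intro x hx
    obtain ⟨a, l, m, k, t⟩ := hH.le hx
    set g := n * x * n⁻¹ with hg
    have hgC : g ∈ normalizer (Z : Set G) := mul_mem (mul_mem hnC t.memB.2) (inv_mem hnC)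
    have hgW : ∀ v, h.P.act g v = (m : F) • mv (H.D k⁻¹) v := by
      intro v
      rw [hg, h.P.act_mul (mul_mem hnC t.memB.2) (inv_mem hnC), h.P.act_mul hnC t.memB.2, t.W, hnW,
        hnW.inv hnC, mv_smul, ← mv_mul, ← mv_mul, H.W_mul_D, mul_inv_cancel_right]
    have hgM : g ∈ normalizer (V : Set G) := by
      refine h.mem_M_of_line hgC fun c => ⟨m * (((k⁻¹ : Fˣ) : F) * c), ?_⟩
      rw [hgW, mv_D]
      ext i; fin_cases i <;> simp
    obtain ⟨ρ, a', τ, l', hform⟩ := h.form (g := g) ⟨hgM, hgC⟩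
    have hZ : ∀ c, g * h.N.e ![c, 0] * g⁻¹ = h.N.e ![a * c, 0] := by
      intro c
      have hz : ∀ {z : G}, z ∈ Z → n * z * n⁻¹ = z := by
        intro z hz
        rw [← mem_centralizer_iff.1 hn z hz, mul_inv_cancel_right]
      have hz' : ∀ {z : G}, z ∈ Z → n⁻¹ * z * n = z := by
        intro z hz
        rw [mul_assoc, mem_centralizer_iff.1 hn z hz, inv_mul_cancel_left]
      have e1 : g * h.N.e ![c, 0] * g⁻¹ = n * (x * (n⁻¹ * h.N.e ![c, 0] * n) * x⁻¹) * n⁻¹ := by rw [hg]; group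
      rw [e1, hz' ((h.e_memZ _ _).2 rfl), t.V, mul_zero, hz ((h.e_memZ _ _).2 rfl)]
    have h3 : ∀ c, a' * ρ c = a * c := by
      intro c
      have h4 := hZ c
      rw [hform, map_zero, mul_zero, mul_zero, add_zero] at h4
      exact (h.e_inj h4).1
    have h4 : a' = a := by
      have := h3 1
      rwa [map_one, mul_one, mul_one] at this
    have h5 : ∀ c, ρ c = c := by
      intro c
      have h6 := h3 c
      rw [h4] at h6
      exact mul_left_cancel₀ a.ne_zero h6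
    have hl' : l' ≠ 0 := by
      rintro rfl
      have h6 := hform 0 1
      rw [zero_mul] at h6
      have h7 : h.N.e ![0, 1] ∈ Z := by
        have h8 : g * h.N.e ![0, 1] * g⁻¹ ∈ Z := by rw [h6, h.e_memZ]
        exact (h.conj_mem_iff hgC).1 h8
      rw [h.e_memZ] at h7
      exact one_ne_zero h7
    obtain ⟨s, hs, hsK, ht⟩ := o.adjust_K (g := g) ⟨hgM, hgC⟩ (a := a) (l := Units.mk0 l' hl') (m := m) (k := k⁻¹)
      (τ := τ) (fun x' y => by rw [hform, h5, h5, h4, Units.val_mk0]) hgW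
    obtain ⟨c', hc', y, hy, e2⟩ := hH.cover _ ⟨_, _, _, _, ht⟩
    refine ⟨s⁻¹ * c', mul_mem (inv_mem ⟨hsK, h.SZ hs⟩) ⟨?_, h.cen_le_cenZ hc'⟩, y, hy, ?_⟩
    · -- `c'` acts trivially on `W / Z`
      obtain ⟨a₁, l₁, m₁, k₁, t₁⟩ := hH.le hy
      have t₂ := ht.mul t₁.inv
      have e3 : s * g * y⁻¹ = c' := by rw [e2]; group
      rw [e3] at t₂
      have h6 := t₂.V 1 1
      rw [h.e_of_mem_cen hc'] at h6
      have h7 := h.e_inj h6
      rw [mul_one, mul_one] at h7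
      have h8 : a * a₁⁻¹ = 1 := Units.ext h7.1.symm
      have h9 : Units.mk0 l' hl' * l₁⁻¹ = 1 := Units.ext h7.2.symm
      rw [h8, h9] at t₂
      obtain ⟨h10, h11⟩ := t₂.unip o
      rw [h10, h11] at t₂
      refine ⟨t₂.memB.2, fun v => ?_⟩
      rw [t₂.W, H.D_one, mv_one, Units.val_one, one_smul]
    · rw [mul_assoc s⁻¹, ← e2]; group)
  refine ⟨d⁻¹ * n, mul_mem (inv_mem hd.2) hn, ?_, hdn⟩
  intro v
  rw [h.P.act_mul (inv_mem hd.1.1) hnC, (inv_mem hd.1 : d⁻¹ ∈ h.P.K).2, hnW]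

end refl

end Sit

end Cfsg.Agent.Omega.TwoFFour

end

section


/-!
# Natural `Sz(q)`-modules: subgroups of `C`

* `SzMod.m1`: a nontrivial elementary abelian subgroup of `T` normalised by the torus is `Z(T)`;
* `SzMod.le_K`: a normal 2-subgroup of `C` acts trivially;
* `gen_orbit`, `SzMod.gen_trans`: two opposite `Z(T)`, `Z(T')` generate a group transitive on the lines `A (F e₀)`;
* `SzMod.conj`: conjugation.
-/

set_option autoImplicit false
set_option linter.unusedSectionVars false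

namespace Cfsg.Agent.Omega.TwoFFour

open Subgroup Cfsg.Agent.LieRecognition.SzMatrix Cfsg.Agent.ThreePrime.SzRel
open Cfsg.Agent.Omega.NatPair (cj mem_cj)

variable {F : Type*} [Field F] {θ : F →+* F} {e : ℕ}

theorem add_self_vec (H : Good F θ e) (v : Fin 4 → F) : v + v = 0 := by
  funext i
  exact H.add_self (v i)

theorem U_zero_comm (H : Good F θ e) (a b c : F) : H.U a b * H.U 0 c = H.U 0 c * H.U a b := by
  rw [H.U_mul, H.U_mul, map_zero, mul_zero, zero_mul, add_zero, add_zero, zero_add, add_zero, add_comm b c]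

theorem conj_U_zero (H : Good F θ e) (a b : F) (k : Fˣ) (c : F) :
    (H.U a b * H.D k) * H.U 0 c * (H.U a b * H.D k)⁻¹ = H.U 0 (c * θ k) := by
  rw [mul_inv_eq_iff_eq_mul, mul_assoc, H.D_mul_U, zero_mul, zero_mul, ← mul_assoc, U_zero_comm, mul_assoc]

theorem U_zero_sq_iff (H : Good F θ e) (a b : F) : H.U a b * H.U a b = 1 ↔ a = 0 := by
  rw [← Std.sq_iff H a b]
  constructor
  · intro h; exact Subtype.ext h
  · intro h; exact congrArg Subtype.val h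

/-- `[M, Z(T)] = C_M(Z(T))`, already for one involution -/
theorem exists_comm (H : Good F θ e) {b : F} (hb : b ≠ 0) {v : Fin 4 → F} (h2 : v 2 = 0) (h3 : v 3 = 0) :
    ∃ w, mv (H.U 0 b) w - w = v := by
  refine ⟨![0, 0, b⁻¹ * (v 0 - θ b * (b⁻¹ * v 1)), b⁻¹ * v 1], ?_⟩
  rw [mv_U]
  apply ext4 <;> simp only [Pi.sub_apply]
  · show 0 + 0 * 0 + b * (b⁻¹ * (v 0 - θ b * (b⁻¹ * v 1))) + (0 * b + 0 ^ 2 * θ 0 + θ b) * (b⁻¹ * v 1) - 0 = v 0
    rw [← mul_assoc b b⁻¹, mul_inv_cancel₀ hb]; ring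
  · show 0 + θ 0 * (b⁻¹ * (v 0 - θ b * (b⁻¹ * v 1))) + (b + 0 * θ 0) * (b⁻¹ * v 1) - 0 = v 1
    rw [map_zero, mul_zero, add_zero, zero_mul, ← mul_assoc b b⁻¹, mul_inv_cancel₀ hb]; ring
  · show b⁻¹ * (v 0 - θ b * (b⁻¹ * v 1)) + 0 * (b⁻¹ * v 1) - b⁻¹ * (v 0 - θ b * (b⁻¹ * v 1)) = v 2
    rw [h2]; ring
  · show b⁻¹ * v 1 - b⁻¹ * v 1 = v 3
    rw [h3]; ring

theorem comm_mem (H : Good F θ e) (b : F) (w : Fin 4 → F) :
    (mv (H.U 0 b) w - w) 2 = 0 ∧ (mv (H.U 0 b) w - w) 3 = 0 := by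
  rw [mv_U]
  constructor
  · show w 2 + 0 * w 3 - w 2 = 0
    ring
  · show w 3 - w 3 = 0
    ring

theorem comm_mem' (H : Good F θ e) (a b : F) (w : Fin 4 → F) : (mv (H.U a b) w - w) 3 = 0 := by
  rw [mv_U]
  show w 3 - w 3 = 0
  ring

/-! ### Two opposite root groups are transitive on the lines -/

/-- `v` lies in a line of the orbit of `F e₀` under `L` -/
def Orb (L : Subgroup (GL (Fin 4) F)) (v : Fin 4 → F) : Prop :=
  ∃ l ∈ L, ∃ c : F, c ≠ 0 ∧ v = c • mv l (Pi.single 0 1)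

theorem Orb.mv {L : Subgroup (GL (Fin 4) F)} {v : Fin 4 → F} (h : Orb L v) {l : GL (Fin 4) F} (hl : l ∈ L) :
    Orb L (mv l v) := by
  obtain ⟨l', hl', c, hc, rfl⟩ := h
  exact ⟨l * l', mul_mem hl hl', c, hc, by rw [mv_smul, mv_mul]⟩

theorem Orb.smul {L : Subgroup (GL (Fin 4) F)} {v : Fin 4 → F} (h : Orb L v) {c : F} (hc : c ≠ 0) :
    Orb L (c • v) := by
  obtain ⟨l', hl', d, hd, rfl⟩ := h
  exact ⟨l', hl', c * d, mul_ne_zero hc hd, by rw [smul_smul]⟩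

theorem gen_orbit [Finite F] (H : Good F θ e) (L : Subgroup (GL (Fin 4) F)) (h1 : ∀ b, H.U 0 b ∈ L)
    (h2 : ∀ b, W F * H.U 0 b * W F ∈ L) {A : GL (Fin 4) F} (hA : A ∈ Cfsg.Lie.Sz F e) :
    Orb L (mv A (Pi.single 0 1)) := by
  have h0 : Orb L (Pi.single 0 1) := ⟨1, one_mem _, 1, one_ne_zero, by rw [mv_one, one_smul]⟩
  have hwu : ∀ (c : F) (v : Fin 4 → F), mv (W F * H.U 0 c * W F) v =
      ![v 0, v 1, v 2 + c * v 0, v 3 + c * v 1 + θ c * v 0] := fun c v => Std.mv_wuw H c v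
  -- points `u(a, b) e₃` with `a ≠ 0`
  have h3 : ∀ a : F, a ≠ 0 → Orb L (mv (H.U a (a * θ a)) (Pi.single 3 1)) := by
    intro a ha
    obtain ⟨k, hk⟩ := Std.exists_div H (Units.mk0 a ha)⁻¹
    have hk0 := k.ne_zero
    have hk1 := theta_ne_zero θ k
    have hk' : θ k * (k : F)⁻¹ = a⁻¹ := by
      rw [hk, Units.val_inv_eq_inv_val, Units.val_mk0]
    have hak : a * θ k = k := by
      field_simp at hk'
      linear_combination hk'
    have h4 := (h0.mv (h2 k)).smul (c := (θ k)⁻¹) (inv_ne_zero hk1)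
    have e1 : (θ k)⁻¹ • mv (W F * H.U 0 k * W F) (Pi.single 0 1) = mv (H.U a (a * θ a)) (Pi.single 3 1) := by
      have hθa : θ a * (k : F) ^ 2 = θ k := by
        have := congrArg θ hak
        rw [map_mul, H.sq] at this
        exact this
      rw [hwu, mv_U]
      apply ext4
      · simp only [Pi.smul_apply, smul_eq_mul]
        simp
        have e2 : (θ k : F)⁻¹ = θ a * a ^ 2 := by
          apply inv_eq_of_mul_eq_one_right
          have : θ (k : F) * (θ a * a ^ 2) * θ k = 1 * θ k := by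
            have e3 : θ (k : F) * (θ a * a ^ 2) * θ k = θ a * (a * θ k) ^ 2 := by ring
            rw [e3, hak, hθa, one_mul]
          exact mul_right_cancel₀ hk1 this
        rw [e2, H.sq]
        linear_combination (-(a ^ 2 * θ a)) * H.two
      · simp only [Pi.smul_apply, smul_eq_mul]
        simp
        exact (H.add_self _).symm
      · simp only [Pi.smul_apply, smul_eq_mul]
        simp
        rw [← hak]
        field_simp
        have : θ (a * θ k) = θ k := by rw [hak]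
        rw [this]
        exact div_self hk1
      · simp only [Pi.smul_apply, smul_eq_mul]
        simp
    rwa [e1] at h4
  have h4 : ∀ a b : F, a ≠ 0 → Orb L (mv (H.U a b) (Pi.single 3 1)) := by
    intro a b ha
    have h5 := (h3 a ha).mv (h1 (b + a * θ a))
    rw [← mv_mul, H.U_mul, zero_add, zero_mul, add_zero] at h5
    have e1 : b + a * θ a + a * θ a = b := by rw [add_assoc, H.add_self, add_zero]
    rwa [e1] at h5
  have h5 : Orb L (Pi.single 3 1) := by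
    have h6 := ((h4 1 0 one_ne_zero).mv (inv_mem (h2 1))).mv (inv_mem (h1 1))
    have e1 : mv (H.U 0 1)⁻¹ (mv (W F * H.U 0 1 * W F)⁻¹ (mv (H.U 1 0) (Pi.single 3 1))) = Pi.single 3 1 := by
      have e2 : mv (H.U 1 0) (Pi.single 3 1) = mv (W F * H.U 0 1 * W F) (mv (H.U 0 1) (Pi.single 3 1)) := by
        rw [hwu, mv_U, mv_U]
        apply ext4 <;> simp
        have := H.two
        linear_combination this
      rw [e2, mv_inv_mv, mv_inv_mv]
    rwa [e1] at h6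
  have h6 : ∀ a b : F, Orb L (mv (H.U a b) (Pi.single 3 1)) := by
    intro a b
    by_cases ha : a = 0
    · rw [ha]
      exact h5.mv (h1 b)
    · exact h4 a b ha
  rcases H.bruhat hA with ⟨a, b, k, rfl⟩ | ⟨a, b, c, d, k, rfl⟩
  · rw [mv_ud_zero]
    refine ⟨1, one_mem _, k, k.ne_zero, ?_⟩
    rw [mv_one]
    apply ext4 <;> simp
  · have h7 := (h6 a b).smul k.ne_zero
    rw [mv_mul, mv_ud_zero, mv_mul, ← mv_smul]  at *
    have e1 : mv (W F) (Pi.single 0 ((k : F) * 1)) = (k : F) • Pi.single 3 1 := by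
      rw [mv_W]
      apply ext4 <;> simp
    rw [e1]
    exact h7

theorem conj_U_of (H : Good F θ e) {B : GL (Fin 4) F} (hB : B ∈ Cfsg.Lie.Sz F e)
    (h3 : mv B (Pi.single 0 1) 3 ≠ 0) : ∃ a b : F, ∀ x : F, ∃ y : F,
      (H.U a b)⁻¹ * (B * H.U 0 y * B⁻¹) * H.U a b = W F * H.U 0 x * W F := by
  rcases H.bruhat hB with ⟨a, b, k, rfl⟩ | ⟨a, b, c, d, k, rfl⟩
  · exfalso
    apply h3
    rw [mv_ud_zero]
    simp
  · refine ⟨a, b, fun x => ?_⟩
    refine ⟨x * (θ k)⁻¹, ?_⟩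
    have h4 := conj_U_zero H c d k (x * (θ k)⁻¹)
    rw [inv_mul_cancel_right₀ (theta_ne_zero θ k)] at h4
    have h5 : (H.U a b)⁻¹ * (H.U a b * W F * (H.U c d * H.D k) * H.U 0 (x * (θ k)⁻¹) *
        (H.U a b * W F * (H.U c d * H.D k))⁻¹) * H.U a b =
        W F * (H.U c d * H.D k * H.U 0 (x * (θ k)⁻¹) * (H.U c d * H.D k)⁻¹) * (W F)⁻¹ := by group
    have h6 : (W F)⁻¹ = W F := inv_eq_of_mul_eq_one_right W_mul_W
    rw [h5, h4, h6]

/-- the general form: `Z(T)` and `Z(T)^B`, `B` not in the Borel subgroup -/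
theorem gen_orbit' [Finite F] (H : Good F θ e) (L : Subgroup (GL (Fin 4) F)) (h1 : ∀ b, H.U 0 b ∈ L)
    {B : GL (Fin 4) F} (hB : B ∈ Cfsg.Lie.Sz F e) (h3 : mv B (Pi.single 0 1) 3 ≠ 0)
    (h2 : ∀ b, B * H.U 0 b * B⁻¹ ∈ L) {A : GL (Fin 4) F} (hA : A ∈ Cfsg.Lie.Sz F e) :
    Orb L (mv A (Pi.single 0 1)) := by
  obtain ⟨a, b, hab⟩ := conj_U_of H hB h3
  -- `L' = U⁻¹ L U`
  let L' : Subgroup (GL (Fin 4) F) := L.comap (MulAut.conj (H.U a b)).toMonoidHom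
  have hL' : ∀ x, x ∈ L' ↔ H.U a b * x * (H.U a b)⁻¹ ∈ L := fun x => Iff.rfl
  have h4 := gen_orbit H L' (fun c => by
    rw [hL', U_zero_comm, mul_inv_cancel_right]
    exact h1 c) (fun c => by
    obtain ⟨y, hy⟩ := hab c
    rw [hL', ← hy]
    have e1 : H.U a b * ((H.U a b)⁻¹ * (B * H.U 0 y * B⁻¹) * H.U a b) * (H.U a b)⁻¹ = B * H.U 0 y * B⁻¹ := by group
    rw [e1]
    exact h2 y) (A := (H.U a b)⁻¹ * A) (mul_mem (inv_mem (H.U_mem a b)) hA)
  obtain ⟨l, hl, c, hc, h5⟩ := h4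
  refine ⟨_, (hL' l).1 hl, c, hc, ?_⟩
  have h6 : mv (H.U a b) (mv ((H.U a b)⁻¹ * A) (Pi.single 0 1)) = mv A (Pi.single 0 1) := by
    rw [← mv_mul, mul_inv_cancel_left]
  rw [← h6, h5, mv_smul, mv_mul, mv_mul]
  congr 2
  congr 1
  have h7 : mv (H.U a b)⁻¹ (Pi.single 0 1) = Pi.single 0 1 := by
    have h8 : mv (H.U a b) (Pi.single 0 1) = Pi.single 0 1 := (fix_T H).2 (by simp) a b
    conv_lhs => rw [← h8]
    rw [mv_inv_mv]
  rw [h7]

/-! ### Groups -/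

variable {G : Type*} [Group G]

namespace SzMod

variable {H : Good F θ e} {C W Z : Subgroup G} (M : SzMod H C W Z)

/-- the image of a subgroup of `C` in the matrices -/
def img (X : Subgroup G) : Subgroup (GL (Fin 4) F) where
  carrier := {A | A ∈ Cfsg.Lie.Sz F e ∧ ∃ x ∈ X, x ∈ C ∧ M.Ind x A}
  mul_mem' := by
    rintro A B ⟨hA, x, hx, hxC, hxA⟩ ⟨hB, y, hy, hyC, hyB⟩
    exact ⟨mul_mem hA hB, x * y, mul_mem hx hy, mul_mem hxC hyC, hxA.mul hxC hyC hyB⟩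
  one_mem' := ⟨one_mem _, 1, one_mem _, one_mem _, M.ind_one⟩
  inv_mem' := by
    rintro A ⟨hA, x, hx, hxC, hxA⟩
    exact ⟨inv_mem hA, x⁻¹, inv_mem hx, inv_mem hxC, hxA.inv hxC⟩

theorem mem_img {X : Subgroup G} {A : GL (Fin 4) F} :
    A ∈ M.img X ↔ A ∈ Cfsg.Lie.Sz F e ∧ ∃ x ∈ X, x ∈ C ∧ M.Ind x A := Iff.rfl

/-- **(g4)**: if `X ≤ C` induces `Z(T)` and `Z(T)^B`, `B` not in the Borel subgroup, then `X` is transitive on the lines
`g (F e₀)`, `g ∈ C`. -/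
theorem gen_trans [Fintype F] {m : ℕ} (hm : 1 ≤ m) (hF : Fintype.card F = 2 ^ (2 * m + 1)) {X : Subgroup G} (hX : X ≤ C)
    (h1 : ∀ b, ∃ x ∈ X, M.Ind x (H.U 0 b)) {B : GL (Fin 4) F} (hB : B ∈ Cfsg.Lie.Sz F e)
    (h3 : mv B (Pi.single 0 1) 3 ≠ 0) (h2 : ∀ b, ∃ x ∈ X, M.Ind x (B * H.U 0 b * B⁻¹)) {g : G} (hg : g ∈ C) :
    ∃ x ∈ X, ∀ c : F, ∃ d : F, M.act (x⁻¹ * g) (Pi.single 0 c) = Pi.single 0 d := by
  obtain ⟨mu, A, hA, σ, hγ⟩ := M.exists_semi hm hF hg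
  obtain ⟨l, ⟨-, x, hx, hxC, hxl⟩, c, hc, h4⟩ := gen_orbit' H (M.img X)
    (fun b => by
      obtain ⟨x, hx, h⟩ := h1 b
      exact ⟨H.U_mem 0 b, x, hx, hX hx, h⟩) hB h3
    (fun b => by
      obtain ⟨x, hx, h⟩ := h2 b
      exact ⟨mul_mem (mul_mem hB (H.U_mem 0 b)) (inv_mem hB), x, hx, hX hx, h⟩) hA
  refine ⟨x, hx, fun d => ⟨mu * σ d * c, ?_⟩⟩
  have h5 : (fun i => σ ((Pi.single 0 d : Fin 4 → F) i)) = σ d • Pi.single 0 1 := by
    apply ext4 <;> simp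
  rw [M.act_mul (inv_mem hxC) hg, hγ, h5, mv_smul, h4, hxl.inv hxC, mv_smul, mv_smul, mv_smul, mv_inv_mv]
  apply ext4 <;> simp [mul_assoc]

/-- **(m1)** -/
theorem m1 {S A : Subgroup G} (hM : M.Ad S) (hAS : A ≤ S) (hsq : ∀ a ∈ A, a * a ∈ M.K) (hne : ¬ A ≤ M.K)
    (hτ : ∀ k : Fˣ, ∃ g ∈ C, (∃ a b, M.Ind g (H.U a b * H.D k)) ∧ ∀ x ∈ A, ∃ y ∈ A, (g * x * g⁻¹)⁻¹ * y ∈ M.K)
    [Finite F] : (∀ a ∈ A, ∃ b, M.Ind a (H.U 0 b)) ∧ ∀ b, ∃ a ∈ A, M.Ind a (H.U 0 b) := by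
  have h1 : ∀ a ∈ A, ∃ b, M.Ind a (H.U 0 b) := by
    intro a ha
    obtain ⟨x, b, hx⟩ := hM.exists_U a (hAS ha)
    have haC := hM.le (hAS ha)
    have h2 : M.Ind (a * a) (H.U x b * H.U x b) := hx.mul haC haC hx
    have h3 : M.Ind (a * a) 1 := (M.ind_one_iff (mul_mem haC haC)).2 (hsq a ha)
    have h4 := (U_zero_sq_iff H x b).1 (h2.unique h3)
    subst h4
    exact ⟨b, hx⟩
  refine ⟨h1, ?_⟩
  obtain ⟨a, ha, haK⟩ := SetLike.not_le_iff_exists.1 hne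
  obtain ⟨b, hb⟩ := h1 a ha
  have hb0 : b ≠ 0 := by
    rintro rfl
    rw [H.U_zero, M.ind_one_iff (hM.le (hAS ha))] at hb
    exact haK hb
  intro c
  by_cases hc : c = 0
  · subst hc
    exact ⟨1, one_mem _, by rw [H.U_zero]; exact M.ind_one⟩
  obtain ⟨x, hx⟩ := Finite.surjective_of_injective θ.injective (b⁻¹ * c)
  have hx0 : x ≠ 0 := by
    rintro rfl
    rw [map_zero] at hx
    exact mul_ne_zero (inv_ne_zero hb0) hc hx.symm
  obtain ⟨g, hg, ⟨u, v, huv⟩, hgA⟩ := hτ (Units.mk0 x hx0)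
  obtain ⟨y, hy, hyK⟩ := hgA a ha
  refine ⟨y, hy, ?_⟩
  have haC := hM.le (hAS ha)
  have h2 : M.Ind (g * a * g⁻¹) (H.U 0 c) := by
    have h3 := (huv.mul hg haC hb).mul (mul_mem hg haC) (inv_mem hg) (huv.inv hg)
    rw [conj_U_zero, Units.val_mk0, hx, mul_inv_cancel_left₀ hb0] at h3
    exact h3
  have hgaC : g * a * g⁻¹ ∈ C := mul_mem (mul_mem hg haC) (inv_mem hg)
  have h3 := h2.mul hgaC hyK.1 ((M.ind_one_iff hyK.1).2 hyK)
  rw [mul_one, mul_inv_cancel_left] at h3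
  exact h3

/-- **(g5)**: a normal 2-subgroup of `C` acts trivially -/
theorem le_K [Fintype F] {m : ℕ} (hm : 1 ≤ m) (hF : Fintype.card F = 2 ^ (2 * m + 1)) {Q : Subgroup G}
    (hQ : IsPGroup 2 Q) (hQC : Q ≤ C) (hn : ∀ g ∈ C, ∀ x ∈ Q, g * x * g⁻¹ ∈ Q) : Q ≤ M.K := by
  classical
  have : Fact (Nat.Prime 2) := ⟨Nat.prime_two⟩
  have hQ0 : Q ≤ M.C0 := by
    intro s hs
    refine ⟨hQC hs, ?_⟩
    obtain ⟨n, hn⟩ := hQ ⟨s, hs⟩
    have hn' : s ^ 2 ^ n = 1 := congrArg Subtype.val hn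
    exact M.two hm hF (hQC hs) (n := n) (by rw [hn']; exact one_mem _)
  let N : Subgroup ↥(Cfsg.Lie.Sz F e) := (Q.subgroupOf M.C0).map M.toSz
  have hN2 : IsPGroup 2 N := (hQ.comap_subtype (K := M.C0)).map M.toSz
  have hNn : ∀ A : ↥(Cfsg.Lie.Sz F e), ∀ x ∈ N, A * x * A⁻¹ ∈ N := by
    rintro A _ ⟨x, hx, rfl⟩
    obtain ⟨g, rfl⟩ := M.toSz_surj A
    refine ⟨g * x * g⁻¹, ?_, by rw [map_mul, map_mul, map_inv]⟩
    exact mem_subgroupOf.2 (hn g g.2.1 x (mem_subgroupOf.1 hx))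
  let R := ofGood H
  obtain ⟨P, hP⟩ := R.exists_sylow_eq hm hF
  obtain ⟨P', hP'⟩ := hN2.exists_le_sylow
  obtain ⟨A, hA⟩ := MulAction.exists_smul_eq ↥(Cfsg.Lie.Sz F e) P' P
  have hNT : N ≤ R.T := by
    intro x hx
    have h1 := hP' (hNn A⁻¹ x hx)
    have h2 : A * (A⁻¹ * x * A⁻¹⁻¹) * A⁻¹ ∈ ((A • P' : Sylow 2 ↥(Cfsg.Lie.Sz F e)) : Subgroup _) := by
      rw [Sylow.smul_def, Sylow.pointwise_smul_def]
      exact Subgroup.smul_mem_pointwise_smul _ (MulAut.conj A) _ h1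
    rw [hA, hP] at h2
    have e1 : A * (A⁻¹ * x * A⁻¹⁻¹) * A⁻¹ = x := by group
    rwa [e1] at h2
  have hN1 : ∀ x ∈ N, x = 1 := by
    intro x hx
    obtain ⟨a, b, h1⟩ := hNT hx
    obtain ⟨c, d, h2⟩ := hNT (hNn H.w x hx)
    have h3 : H.w * H.u a b * H.w = H.u c d * H.d 1 := by
      rw [H.d_one, mul_one]
      have h4 : H.w * x * H.w⁻¹ = H.u c d := h2
      rw [H.w_inv, show x = H.u a b from h1] at h4
      exact h4
    obtain ⟨rfl, rfl⟩ := R.inter _ _ _ _ _ h3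
    rw [show x = H.u 0 0 from h1, H.u_zero]
  intro x hx
  have h1 : M.toSz ⟨x, hQ0 hx⟩ = 1 := hN1 _ (mem_map_of_mem _ (mem_subgroupOf.2 hx))
  have h2 := M.toSz_ind ⟨x, hQ0 hx⟩
  rw [h1] at h2
  exact (M.ind_one_iff (hQC hx)).1 h2

/-- conjugation -/
def conj (g : G) : SzMod H (cj g C) (cj g W) (cj g Z) where
  f x := M.f (g⁻¹ * x * g)
  f_mul {x y} hx hy := by
    have h1 := M.f_mul ((mem_cj).1 hx) ((mem_cj).1 hy)
    rw [← h1]
    congr 1
    group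
  f_surj v := by
    obtain ⟨x, hx, rfl⟩ := M.f_surj v
    refine ⟨g * x * g⁻¹, mem_cj.2 ?_, ?_⟩
    · have e1 : g⁻¹ * (g * x * g⁻¹) * g = x := by group
      rw [e1]; exact hx
    · have e1 : g⁻¹ * (g * x * g⁻¹) * g = x := by group
      rw [e1]
  f_ker {x} hx := by
    rw [mem_cj]
    exact M.f_ker (mem_cj.1 hx)
  Z_le x hx := mem_cj.2 (M.Z_le (mem_cj.1 hx))
  conjW {a x} ha hx := by
    rw [mem_cj] at *
    have e1 : g⁻¹ * (a * x * a⁻¹) * g = (g⁻¹ * a * g) * (g⁻¹ * x * g) * (g⁻¹ * a * g)⁻¹ := by group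
    rw [e1]
    exact M.conjW ha hx
  conjZ {a x} ha hx := by
    rw [mem_cj] at *
    have e1 : g⁻¹ * (a * x * a⁻¹) * g = (g⁻¹ * a * g) * (g⁻¹ * x * g) * (g⁻¹ * a * g)⁻¹ := by group
    rw [e1]
    exact M.conjZ ha hx
  lift A hA := by
    obtain ⟨a, ha, h⟩ := M.lift A hA
    refine ⟨g * a * g⁻¹, mem_cj.2 ?_, fun x hx => ?_⟩
    · have e1 : g⁻¹ * (g * a * g⁻¹) * g = a := by group
      rw [e1]; exact ha
    · rw [mem_cj] at hx
      rw [← h _ hx]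
      congr 1
      group
  norm a ha b hb A hA hbA := by
    rw [mem_cj] at ha hb
    obtain ⟨B, hB, h⟩ := M.norm _ ha _ hb A hA (fun x hx => by
      have h1 := hbA (g * x * g⁻¹) (mem_cj.2 (by
        have e1 : g⁻¹ * (g * x * g⁻¹) * g = x := by group
        rw [e1]; exact hx))
      have e1 : g⁻¹ * (g * x * g⁻¹) * g = x := by group
      rw [e1] at h1
      rw [← h1]
      congr 1
      group)
    refine ⟨B, hB, fun x hx => ?_⟩
    rw [mem_cj] at hx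
    rw [← h _ hx]
    congr 1
    group

theorem conj_f (g x : G) : (M.conj g).f x = M.f (g⁻¹ * x * g) := rfl

theorem conj_act (g : G) {a : G} (ha : a ∈ cj g C) (v : Fin 4 → F) : (M.conj g).act a v = M.act (g⁻¹ * a * g) v := by
  obtain ⟨x, hx, rfl⟩ := (M.conj g).f_surj v
  rw [(M.conj g).act_f ha hx, conj_f, conj_f, M.act_f (mem_cj.1 ha) (mem_cj.1 hx)]
  congr 1
  group

theorem mem_conj_K (g : G) {a : G} : a ∈ (M.conj g).K ↔ g⁻¹ * a * g ∈ M.K := by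
  rw [mem_K, mem_K, mem_cj]
  constructor
  · rintro ⟨h1, h2⟩
    refine ⟨h1, fun v => ?_⟩
    rw [← M.conj_act g (mem_cj.2 h1), h2]
  · rintro ⟨h1, h2⟩
    refine ⟨h1, fun v => ?_⟩
    rw [M.conj_act g (mem_cj.2 h1), h2]

end SzMod

end Cfsg.Agent.Omega.TwoFFour

end

section


/-!
# Natural `Sz(q)`-modules: torus elements

* `Semi g mu A σ`: `g` acts as `v ↦ mu • A (σ v)`; `Semi.mul`, `Semi.inv`, `Semi.unique`, `Semi.conj_ind`;
* `Tor g mu k σ`: `g` acts as `v ↦ mu • D k (σ v)`: `Tor.coord`, `Tor.mul`, `Tor.inv`, `Tor.conj_U`;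
* `exists_tor`: an element of `C` fixing `F e₀` and `F e₃` is a torus element; `exists_diag`: adapted coordinates such that
  a second line is `F e₃`.
-/

set_option autoImplicit false
set_option linter.unusedSectionVars false

namespace Cfsg.Agent.Omega.TwoFFour

open Subgroup Cfsg.Agent.LieRecognition.SzMatrix Cfsg.Agent.ThreePrime.SzRel
open Cfsg.Agent.Omega.NatPair (cj mem_cj)

variable {F : Type*} [Field F] {θ : F →+* F} {e : ℕ}

/-- a field automorphism applied to a vector -/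
def fa (σ : F ≃+* F) (v : Fin 4 → F) : Fin 4 → F := fun i => σ (v i)

theorem fa_smul (σ : F ≃+* F) (c : F) (v : Fin 4 → F) : fa σ (c • v) = σ c • fa σ v := by
  funext i
  simp [fa]

theorem fa_mul (σ τ : F ≃+* F) (v : Fin 4 → F) : fa (σ * τ) v = fa σ (fa τ v) := rfl

theorem fa_one (v : Fin 4 → F) : fa 1 v = v := rfl

theorem fa_single (σ : F ≃+* F) (i : Fin 4) (c : F) : fa σ (Pi.single i c) = Pi.single i (σ c) := by
  funext j
  unfold fa
  by_cases h : j = i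
  · subst h; simp
  · simp [h]

theorem fa_inv (σ : F ≃+* F) (v : Fin 4 → F) : fa σ⁻¹ (fa σ v) = v := by
  rw [← fa_mul, inv_mul_cancel, fa_one]

theorem fa_inv' (σ : F ≃+* F) (v : Fin 4 → F) : fa σ (fa σ⁻¹ v) = v := by
  rw [← fa_mul, mul_inv_cancel, fa_one]

theorem σθ (H : Good F θ e) (σ : F ≃+* F) (x : F) : σ (θ x) = θ (σ x) := Std.theta_comm H (σ : F →+* F) x

theorem fa_U (H : Good F θ e) (σ : F ≃+* F) (a b : F) (v : Fin 4 → F) :
    fa σ (mv (H.U a b) v) = mv (H.U (σ a) (σ b)) (fa σ v) := by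
  rw [mv_U, mv_U]
  apply ext4 <;> simp [fa, σθ H]

theorem fa_D (H : Good F θ e) (σ : F ≃+* F) (k : Fˣ) (v : Fin 4 → F) :
    fa σ (mv (H.D k) v) = mv (H.D (Units.map (σ : F →* F) k)) (fa σ v) := by
  rw [mv_D, mv_D]
  apply ext4 <;> simp [fa, σθ H]

theorem fa_W (σ : F ≃+* F) (v : Fin 4 → F) : fa σ (mv (W F) v) = mv (W F) (fa σ v) := by
  rw [mv_W, mv_W]
  apply ext4 <;> rfl

/-- field automorphisms normalise `Sz` -/
theorem fa_Sz (H : Good F θ e) (σ : F ≃+* F) {A : GL (Fin 4) F} (hA : A ∈ Cfsg.Lie.Sz F e) :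
    ∃ B ∈ Cfsg.Lie.Sz F e, ∀ v, fa σ (mv A v) = mv B (fa σ v) := by
  rcases H.bruhat hA with ⟨a, b, k, rfl⟩ | ⟨a, b, c, d, k, rfl⟩
  · refine ⟨H.U (σ a) (σ b) * H.D (Units.map (σ : F →* F) k), mul_mem (H.U_mem _ _) (H.D_mem _), fun v => ?_⟩
    rw [mv_mul, fa_U, fa_D, mv_mul]
  · refine ⟨H.U (σ a) (σ b) * W F * (H.U (σ c) (σ d) * H.D (Units.map (σ : F →* F) k)),
      mul_mem (mul_mem (H.U_mem _ _) H.W_mem) (mul_mem (H.U_mem _ _) (H.D_mem _)), fun v => ?_⟩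
    rw [mv_mul, mv_mul, mv_mul, fa_U, fa_W, fa_U, fa_D, mv_mul, mv_mul, mv_mul]

variable {G : Type*} [Group G]

namespace SzMod

variable {H : Good F θ e} {C W Z : Subgroup G} (M : SzMod H C W Z)

/-- `g` acts as `v ↦ mu • A (σ v)` -/
def Semi (g : G) (mu : Fˣ) (A : GL (Fin 4) F) (σ : F ≃+* F) : Prop :=
  ∀ v, M.act g v = (mu : F) • mv A (fa σ v)

theorem semi_iff_ind {g : G} {A : GL (Fin 4) F} : M.Semi g 1 A 1 ↔ M.Ind g A := by
  constructor
  · intro h v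
    rw [h, fa_one, Units.val_one, one_smul]
  · intro h v
    rw [h, fa_one, Units.val_one, one_smul]

theorem exists_Semi [Fintype F] {m : ℕ} (hm : 1 ≤ m) (hF : Fintype.card F = 2 ^ (2 * m + 1)) {g : G} (hg : g ∈ C) :
    ∃ mu, ∃ A ∈ Cfsg.Lie.Sz F e, ∃ σ, M.Semi g mu A σ := by
  obtain ⟨mu, A, hA, σ, h⟩ := M.exists_semi hm hF hg
  exact ⟨mu, A, hA, σ, h⟩

theorem Semi.unique {M : SzMod H C W Z} {g : G} {mu mu' : Fˣ} {A A' : GL (Fin 4) F} {σ σ' : F ≃+* F}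
    (hA : A ∈ Cfsg.Lie.Sz F e) (hA' : A' ∈ Cfsg.Lie.Sz F e) (h : M.Semi g mu A σ) (h' : M.Semi g mu' A' σ') :
    mu = mu' ∧ A = A' ∧ σ = σ' := by
  apply semi_unique H hA hA'
  intro v
  have h1 := h v
  rw [h' v] at h1
  exact h1.symm

/-- `g` acts as a scalar times a torus element times a field automorphism -/
def Tor (g : G) (mu k : Fˣ) (σ : F ≃+* F) : Prop := M.Semi g mu (H.D k) σ

/-- the scalars of `mu • D k` -/
def ct (θ : F →+* F) (mu k : Fˣ) (i : Fin 4) : F := mu * Std.ch θ k i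

theorem ct_zero (mu k : Fˣ) : ct θ mu k 0 = mu * k := rfl
theorem ct_one (mu k : Fˣ) : ct θ mu k 1 = mu * (θ k * (k : F)⁻¹) := rfl
theorem ct_two (mu k : Fˣ) : ct θ mu k 2 = mu * (k * (θ k)⁻¹) := rfl
theorem ct_three (mu k : Fˣ) : ct θ mu k 3 = mu * (k : F)⁻¹ := rfl

theorem Tor.coord {M : SzMod H C W Z} {g : G} {mu k : Fˣ} {σ : F ≃+* F} (h : M.Tor g mu k σ) (v : Fin 4 → F) (i : Fin 4) :
    M.act g v i = ct θ mu k i * σ (v i) := by
  rw [h v, mv_D]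
  fin_cases i <;> simp [ct, Std.ch, fa, mul_assoc]

theorem Tor.single {M : SzMod H C W Z} {g : G} {mu k : Fˣ} {σ : F ≃+* F} (h : M.Tor g mu k σ) (i : Fin 4) (x : F) :
    M.act g (Pi.single i x) = Pi.single i (ct θ mu k i * σ x) := by
  funext j
  rw [h.coord]
  by_cases hj : j = i
  · subst hj; simp
  · simp [hj]

theorem tor_one : M.Tor 1 1 1 1 := by
  intro v
  rw [M.act_one, H.D_one, mv_one, fa_one, Units.val_one, one_smul]

theorem Tor.mul {M : SzMod H C W Z} {g h : G} (hg : g ∈ C) (hh : h ∈ C) {mu k mu' k' : Fˣ} {σ σ' : F ≃+* F}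
    (h1 : M.Tor g mu k σ) (h2 : M.Tor h mu' k' σ') :
    M.Tor (g * h) (mu * Units.map (σ : F →* F) mu') (k * Units.map (σ : F →* F) k') (σ * σ') := by
  intro v
  rw [M.act_mul hg hh, h2, h1, fa_smul, fa_D, mv_smul, ← mv_mul, H.D_mul, fa_mul, smul_smul]
  rfl

theorem Tor.mul_lin {M : SzMod H C W Z} {g h : G} (hg : g ∈ C) (hh : h ∈ C) {mu k mu' k' : Fˣ}
    (h1 : M.Tor g mu k 1) (h2 : M.Tor h mu' k' 1) : M.Tor (g * h) (mu * mu') (k * k') 1 := by
  have h3 := h1.mul hg hh h2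
  rw [one_mul] at h3
  exact h3

theorem Tor.unique {M : SzMod H C W Z} {g : G} {mu mu' k k' : Fˣ} {σ σ' : F ≃+* F}
    (h : M.Tor g mu k σ) (h' : M.Tor g mu' k' σ') : mu = mu' ∧ k = k' ∧ σ = σ' := by
  obtain ⟨h1, h2, h3⟩ := Semi.unique (H.D_mem k) (H.D_mem k') h h'
  exact ⟨h1, H.D_inj h2, h3⟩

/-- conjugation of the elements of `T` -/
theorem Tor.conj_U {M : SzMod H C W Z} {g s : G} (hg : g ∈ C) (hs : s ∈ C) {mu k : Fˣ} {σ : F ≃+* F}
    (h : M.Tor g mu k σ) {a b : F} (hab : M.Ind s (H.U a b)) :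
    M.Ind (g * s * g⁻¹) (H.U (σ a * k ^ 2 * (θ k)⁻¹) (σ b * θ k)) := by
  intro v
  have h1 : M.act (g * s * g⁻¹) (M.act g (M.act g⁻¹ v)) =
      mv (H.U (σ a * k ^ 2 * (θ k)⁻¹) (σ b * θ k)) (M.act g (M.act g⁻¹ v)) := by
    generalize M.act g⁻¹ v = w
    rw [← M.act_mul (mul_mem (mul_mem hg hs) (inv_mem hg)) hg, inv_mul_cancel_right, M.act_mul hg hs, hab, h, h,
      fa_U, mv_smul, ← mv_mul, ← mv_mul, H.D_mul_U]
  rwa [M.act_act_inv hg] at h1

/-- an element of `C` fixing the lines `F e₀`, `F e₃` -/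
theorem exists_tor [Fintype F] {m : ℕ} (hm : 1 ≤ m) (hF : Fintype.card F = 2 ^ (2 * m + 1)) {g : G} (hg : g ∈ C)
    (h0 : M.act g (Pi.single 0 1) 3 = 0) (h3 : ∃ c, M.act g (Pi.single 3 1) = Pi.single 3 c) :
    ∃ mu k σ, M.Tor g mu k σ := by
  obtain ⟨mu, a, b, k, σ, h⟩ := M.exists_borel hm hF hg h0
  obtain ⟨c, hc⟩ := h3
  have h4 : (fun i => σ ((Pi.single 3 1 : Fin 4 → F) i)) = Pi.single 3 1 := by
    apply ext4 <;> simp
  rw [h, h4, mv_mul, mv_D, mv_U] at hc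
  have hmu := mu.ne_zero
  have hk := k.ne_zero
  have e2 := congrFun hc 2
  have e1 := congrFun hc 1
  have ha : a = 0 := by
    simp at e2
    exact e2
  subst ha
  have hb : b = 0 := by
    simp at e1
    exact e1
  subst hb
  refine ⟨mu, k, σ, fun v => ?_⟩
  rw [h, H.U_zero, one_mul]
  rfl

/-- `σ = 1` if `g` is linear on `F e₀` -/
theorem Tor.eq_one {M : SzMod H C W Z} {g : G} {mu k : Fˣ} {σ : F ≃+* F} (h : M.Tor g mu k σ) {i : Fin 4}
    (hl : ∀ c : F, M.act g (Pi.single i c) = c • M.act g (Pi.single i 1)) : σ = 1 := by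
  ext c
  have h1 := hl c
  rw [h.single, h.single] at h1
  have h2 := congrFun h1 i
  rw [Pi.smul_apply, Pi.single_eq_same, Pi.single_eq_same, map_one, mul_one, smul_eq_mul] at h2
  have h3 : ct θ mu k i ≠ 0 := by
    intro h0
    have h4 := h.single i 1
    rw [h0, zero_mul, Pi.single_zero] at h4
    -- the map is injective
    have h5 : (mu : F) • mv (H.D k) (fa σ (Pi.single i 1)) = 0 := by rw [← h]; exact h4
    rcases smul_eq_zero.1 h5 with h6 | h6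
    · exact mu.ne_zero h6
    · rw [fa_single, map_one] at h6
      refine mv_ne (H.D k) ?_ h6
      intro h7
      have := congrFun h7 i
      simp at this
  have h4 : ct θ mu k i * σ c = ct θ mu k i * c := by rw [h2, mul_comm]
  exact mul_left_cancel₀ h3 h4

/-- changing coordinates by an element of `T` -/
theorem change_ad {S : Subgroup G} (hM : M.Ad S) (a b : F) : (M.change (H.u a b)).Ad S where
  le := hM.le
  exists_U s hs := by
    obtain ⟨x, y, h⟩ := hM.exists_U s hs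
    have h1 := M.change_ind (H.u a b) (hM.le hs) h
    have h2 : H.U a b * H.U x y * (H.U a b)⁻¹ ∈ H.unip.map (Cfsg.Lie.Sz F e).subtype :=
      ⟨H.u a b * H.u x y * (H.u a b)⁻¹, mul_mem (mul_mem (H.u_mem_unip _ _) (H.u_mem_unip _ _))
        (inv_mem (H.u_mem_unip _ _)), rfl⟩
    obtain ⟨z, hz, hz'⟩ := h2
    obtain ⟨c, d, rfl⟩ := (H.mem_unip_iff z).1 hz
    exact ⟨c, d, by rw [show H.U c d = _ from hz']; exact h1⟩
  surj x y := by
    have h2 : (H.u a b)⁻¹ * H.u x y * H.u a b ∈ H.unip :=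
      mul_mem (mul_mem (inv_mem (H.u_mem_unip _ _)) (H.u_mem_unip _ _)) (H.u_mem_unip _ _)
    obtain ⟨c, d, hcd⟩ := (H.mem_unip_iff _).1 h2
    obtain ⟨s, hs, h⟩ := hM.surj c d
    refine ⟨s, hs, ?_⟩
    have h1 := M.change_ind (H.u a b) (hM.le hs) h
    have e1 : (H.u a b).1 * H.U c d * (H.u a b).1⁻¹ = H.U x y := by
      have e2 : H.u a b * H.u c d * (H.u a b)⁻¹ = H.u x y := by rw [← hcd]; group
      exact congrArg Subtype.val e2
    rwa [e1] at h1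

/-- every vector on a line `B (F e₀)` off the hyperplane `v₃ = 0` is `c • U a b e₃` -/
theorem exists_U_of (H : Good F θ e) {B : GL (Fin 4) F} (hB : B ∈ Cfsg.Lie.Sz F e) (h3 : mv B (Pi.single 0 1) 3 ≠ 0) :
    ∃ a b : F, ∃ c : F, c ≠ 0 ∧ mv B (Pi.single 0 1) = c • mv (H.U a b) (Pi.single 3 1) := by
  rcases H.bruhat hB with ⟨a, b, k, rfl⟩ | ⟨a, b, c, d, k, rfl⟩
  · exfalso
    apply h3
    rw [mv_ud_zero]
    simp
  · refine ⟨a, b, k, k.ne_zero, ?_⟩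
    rw [mv_mul, mv_ud_zero, mv_mul, ← mv_smul]
    congr 1
    rw [mv_W]
    apply ext4 <;> simp

/-- adapted coordinates in which `g (F e₀)` is `F e₃` -/
theorem exists_diag [Fintype F] {m : ℕ} (hm : 1 ≤ m) (hF : Fintype.card F = 2 ^ (2 * m + 1)) {S : Subgroup G}
    (hM : M.Ad S) {g : G} (hg : g ∈ C) (h3 : M.act g (Pi.single 0 1) 3 ≠ 0) :
    ∃ M' : SzMod H C W Z, M'.Ad S ∧ M'.K = M.K ∧ (∀ x c, M'.f x = Pi.single 0 c ↔ M.f x = Pi.single 0 c) ∧
      ∃ A ∈ Cfsg.Lie.Sz F e, (∀ x, M'.f x = mv A (M.f x)) ∧ ∀ c, ∃ d, M'.act g (Pi.single 0 c) = Pi.single 3 d := by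
  obtain ⟨mu, B, hB, σ, h⟩ := M.exists_semi hm hF hg
  have h4 : (fun i => σ ((Pi.single 0 1 : Fin 4 → F) i)) = Pi.single 0 1 := by
    apply ext4 <;> simp
  have h5 : mv B (Pi.single 0 1) 3 ≠ 0 := by
    intro h0
    apply h3
    rw [h, h4, Pi.smul_apply, h0, smul_zero]
  obtain ⟨a, b, c, hc, hBe⟩ := exists_U_of H hB h5
  -- the inverse of `U a b`
  have hfix : ∀ (x y c : F), mv (H.U x y) (Pi.single 0 c) = Pi.single 0 c := by
    intro x y c
    exact (fix_T H).2 (by simp) x y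
  refine ⟨M.change (H.u a b)⁻¹, ?_, M.change_K _, ?_, (H.U a b)⁻¹, inv_mem (H.U_mem a b), fun x => rfl, ?_⟩
  · rw [H.u_inv]
    exact M.change_ad hM _ _
  · intro x d
    show mv (H.U a b)⁻¹ (M.f x) = _ ↔ _
    constructor
    · intro h6
      rw [← mv_mv_inv (H.U a b) (M.f x), h6, hfix]
    · intro h6
      rw [h6]
      conv_lhs => rw [← hfix a b d]
      rw [mv_inv_mv]
  · intro d
    refine ⟨mu * σ d * c, ?_⟩
    rw [M.change_act _ hg]
    show mv (H.U a b)⁻¹ (M.act g (mv (H.U a b)⁻¹⁻¹ (Pi.single 0 d))) = _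
    rw [inv_inv, hfix, h]
    have h6 : (fun i => σ ((Pi.single 0 d : Fin 4 → F) i)) = σ d • Pi.single 0 1 := by
      apply ext4 <;> simp
    rw [h6, mv_smul, mv_smul, hBe, mv_smul, mv_smul, mv_inv_mv]
    apply ext4 <;> simp [mul_assoc]

end SzMod

end Cfsg.Agent.Omega.TwoFFour

end

section


/-!
# THEOREM 2F4, (4): the weights

`dl : Fˣ → ZMod N`, `N = |Fˣ|`, the discrete logarithm; `xw h g = dl (aOf g)`, `yw h g = dl (lOf g)`.
The weight fields of `Oct`: `xw_mul`, `surj`, `inj`, `x₀`, `y₀`, `x₁`, `y₁`, `triv`, `free`, `Z_x`, `fixZ`, `split`.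
-/

set_option autoImplicit false
set_option linter.unusedSectionVars false

namespace Cfsg.Agent.Omega.TwoFFour

open Subgroup Matrix
open Cfsg.Agent.ZN Cfsg.Agent.MinSimple.VModule Cfsg.Agent.Lib.SL2Mat
open Cfsg.Agent.LieRecognition.SzMatrix (Good Umat Umat_def Dmat Dmat_def W_mul_W theta_ne_zero)
open Cfsg.Agent.Omega.NatPair (NatMod ap ext2)

section dlog

variable {F : Type*} [Field F] [Finite F]

/-- the discrete logarithm -/
noncomputable def dl (u : Fˣ) : ZMod (Nat.card Fˣ) :=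
  Multiplicative.toAdd ((zmodCyclicMulEquiv (inferInstance : IsCyclic Fˣ)).symm u)

theorem dl_mul (u v : Fˣ) : dl (u * v) = dl u + dl v := by
  unfold dl
  rw [map_mul]
  rfl

theorem dl_inj {u v : Fˣ} (h : dl u = dl v) : u = v := by
  unfold dl at h
  exact (zmodCyclicMulEquiv (inferInstance : IsCyclic Fˣ)).symm.injective (Multiplicative.toAdd.injective h)

theorem dl_surj (a : ZMod (Nat.card Fˣ)) : ∃ u : Fˣ, dl u = a := by
  refine ⟨(zmodCyclicMulEquiv (inferInstance : IsCyclic Fˣ)) (Multiplicative.ofAdd a), ?_⟩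
  unfold dl
  rw [MulEquiv.symm_apply_apply]
  rfl

theorem dl_one : dl (1 : Fˣ) = 0 := by
  have h := dl_mul (1 : Fˣ) 1
  rw [mul_one] at h
  exact left_eq_add.1 h

theorem dl_eq_zero {u : Fˣ} : dl u = 0 ↔ u = 1 := by
  constructor
  · intro h
    exact dl_inj (h.trans dl_one.symm)
  · rintro rfl
    exact dl_one

theorem dl_inv (u : Fˣ) : dl u⁻¹ = -dl u := by
  have h := dl_mul u⁻¹ u
  rw [inv_mul_cancel, dl_one] at h
  exact eq_neg_of_add_eq_zero_left h.symm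

theorem dl_pow (u : Fˣ) (n : ℕ) : dl (u ^ n) = n * dl u := by
  induction n with
  | zero => rw [pow_zero, dl_one, Nat.cast_zero, zero_mul]
  | succ n ih => rw [pow_succ, dl_mul, ih, Nat.cast_succ]; ring

end dlog

section th

variable {F : Type*} [Field F] {θ : F →+* F} {e : ℕ} (H : Good F θ e)

/-- `θ` on the units -/
def thU (θ : F →+* F) : Fˣ →* Fˣ := Units.map (θ : F →* F)

theorem thU_val (u : Fˣ) : ((thU θ u : Fˣ) : F) = θ u := rfl

include H in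
theorem thU_pow (u : Fˣ) : thU θ u = u ^ e := by
  apply Units.ext
  rw [thU_val, Units.val_pow_eq_pow_val, H.pow]

include H in
theorem thU_sq (u : Fˣ) : thU θ (thU θ u) = u ^ 2 := by
  apply Units.ext
  rw [thU_val, thU_val, H.sq, Units.val_pow_eq_pow_val]

variable [Finite F]

include H in
theorem dl_th (u : Fˣ) : dl (thU θ u) = (e : ZMod (Nat.card Fˣ)) * dl u := by
  rw [thU_pow H, dl_pow]

include H in
theorem e_sq : (e : ZMod (Nat.card Fˣ)) * e = 2 := by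
  obtain ⟨u, hu⟩ := dl_surj (F := F) 1
  have h1 := dl_th H (thU θ u)
  rw [thU_sq H, dl_th H, dl_pow, hu, mul_one, mul_one] at h1
  rw [← h1]; rfl

include H in
theorem sq_inj {u v : Fˣ} (h : u ^ 2 = v ^ 2) : u = v := by
  have h2 := H.two
  have h3 : ((u : F) - v) ^ 2 = 0 := by
    have h4 : (u : F) ^ 2 = (v : F) ^ 2 := by
      have := congrArg Units.val h
      simpa using this
    linear_combination h4 + (v : F) ^ 2 * h2 - u * v * h2
  exact Units.ext (sub_eq_zero.1 ((pow_eq_zero_iff two_ne_zero).1 h3))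

end th

variable {G : Type*} [Group G]

namespace Sit

variable {F : Type*} [Field F] [Finite F] {θ : F →+* F} {e : ℕ} {H : Good F θ e} {S : Sylow 2 G} {V Z W : Subgroup G}

/-- the weight of `Z` -/
noncomputable def xw (h : Sit F H S V Z W) (g : G) : ZMod (Nat.card Fˣ) := dl (h.aOf g)

/-- the weight of `V / Z` -/
noncomputable def yw (h : Sit F H S V Z W) (g : G) : ZMod (Nat.card Fˣ) := dl (h.lOf g)

variable {h : Sit F H S V Z W}

theorem Tor.xw_eq {g : G} {a l m k : Fˣ} (t : Tor h g a l m k) : h.xw g = dl a := by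
  unfold xw; rw [t.aOf_eq]

theorem Tor.yw_eq {g : G} {a l m k : Fˣ} (t : Tor h g a l m k) : h.yw g = dl l := by
  unfold yw; rw [t.lOf_eq]

theorem Tor.toSz {g : G} {a l m k : Fˣ} (t : Tor h g a l m k) : h.P.Tor g m k 1 := by
  intro v
  rw [fa_one]
  exact t.W v

variable {Hh : Subgroup G}

theorem Hall.mul_x (hH : Hall h Hh) : ∀ g ∈ Hh, ∀ g' ∈ Hh, h.xw (g * g') = h.xw g + h.xw g' := by
  intro g hg g' hg'
  obtain ⟨a, l, m, k, t⟩ := hH.le hg
  obtain ⟨a', l', m', k', t'⟩ := hH.le hg'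
  rw [(t.mul t').xw_eq, t.xw_eq, t'.xw_eq, dl_mul]

theorem Hall.mul_y (hH : Hall h Hh) : ∀ g ∈ Hh, ∀ g' ∈ Hh, h.yw (g * g') = h.yw g + h.yw g' := by
  intro g hg g' hg'
  obtain ⟨a, l, m, k, t⟩ := hH.le hg
  obtain ⟨a', l', m', k', t'⟩ := hH.le hg'
  rw [(t.mul t').yw_eq, t.yw_eq, t'.yw_eq, dl_mul]

variable [Finite G]

/-- representatives in `Hh` -/
theorem Hall.exists_rep (o : Out h) (hH : Hall h Hh) {g : G} {a l m k : Fˣ} (t : Tor h g a l m k) :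
    ∃ c ∈ centralizer (V : Set G), ∃ x ∈ Hh, g = c * x ∧ Tor h x a l m k ∧ c ∈ h.P.K := by
  obtain ⟨c, hc, x, hx, e1⟩ := hH.cover g ⟨_, _, _, _, t⟩
  obtain ⟨a', l', m', k', t'⟩ := hH.le hx
  have t₂ := t.mul t'.inv
  have e3 : g * x⁻¹ = c := by rw [e1]; group
  rw [e3] at t₂
  have h6 := t₂.V 1 1
  rw [h.e_of_mem_cen hc] at h6
  have h7 := h.e_inj h6
  rw [mul_one, mul_one] at h7
  have h8 : a * a'⁻¹ = 1 := Units.ext h7.1.symm
  have h9 : l * l'⁻¹ = 1 := Units.ext h7.2.symm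
  rw [h8, h9] at t₂
  obtain ⟨h10, h11⟩ := t₂.unip o
  rw [h10, h11] at t₂
  rw [mul_inv_eq_one] at h8 h9 h10 h11
  subst h8 h9 h10 h11
  refine ⟨c, hc, x, hx, e1, t', t₂.memB.2, fun v => ?_⟩
  rw [t₂.W, H.D_one, mv_one, Units.val_one, one_smul]

theorem Hall.surj (o : Out h) (hH : Hall h Hh) (a b : ZMod (Nat.card Fˣ)) :
    ∃ g ∈ Hh, h.xw g = a ∧ h.yw g = b := by
  obtain ⟨a, rfl⟩ := dl_surj a
  obtain ⟨b, rfl⟩ := dl_surj b
  obtain ⟨g, m, k, t, -⟩ := o.exists_tor a b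
  obtain ⟨c, hc, x, hx, -, t', -⟩ := hH.exists_rep o t
  exact ⟨x, hx, t'.xw_eq, t'.yw_eq⟩

theorem Hall.inj' (hH : Hall h Hh) : ∀ g ∈ Hh, ∀ g' ∈ Hh, h.xw g = h.xw g' → h.yw g = h.yw g' → g = g' := by
  intro g hg g' hg' h1 h2
  obtain ⟨a, l, m, k, t⟩ := hH.le hg
  obtain ⟨a', l', m', k', t'⟩ := hH.le hg'
  rw [t.xw_eq, t'.xw_eq] at h1
  rw [t.yw_eq, t'.yw_eq] at h2
  have h3 := dl_inj h1
  have h4 := dl_inj h2
  subst h3 h4
  have t₂ := t.inv.mul t'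
  rw [inv_mul_cancel, inv_mul_cancel] at t₂
  exact inv_mul_eq_one.1 (hH.inj _ (mul_mem (inv_mem hg) hg') t₂.cen)

/-! ### The reflections -/

omit [Finite F] [Finite G] in
theorem Tor.conj₁ {g n : G} {a l m k a' l' m' k' : Fˣ} (t : Tor h g a l m k) (hn : h.Sw n)
    (t' : Tor h (n⁻¹ * g * n) a' l' m' k') : a' = l ∧ l' = a := by
  have h1 := t'.V 1 1
  have e1 : n⁻¹ * g * n * h.N.e ![1, 1] * (n⁻¹ * g * n)⁻¹ = n⁻¹ * (g * (n * h.N.e ![1, 1] * n⁻¹) * g⁻¹) * n⁻¹⁻¹ := by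
    group
  rw [e1, hn, t.V, h.sw_inv hn] at h1
  have h2 := h.e_inj h1
  rw [mul_one, mul_one, mul_one, mul_one] at h2
  exact ⟨Units.ext h2.1.symm, Units.ext h2.2.symm⟩

theorem Tor.conj₀ (o : Out h) {g n : G} {a l m k a' l' m' k' : Fˣ} (t : Tor h g a l m k)
    (hn : n ∈ centralizer (Z : Set G)) (hnW : h.P.Ind n (Cfsg.Agent.LieRecognition.SzMatrix.W F))
    (t' : Tor h (n⁻¹ * g * n) a' l' m' k') : a' = a ∧ l' * l = thU θ a := by
  have hnC := h.cZ_le hn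
  have hz : ∀ {z : G}, z ∈ Z → n * z * n⁻¹ = z := by
    intro z hz
    rw [← mem_centralizer_iff.1 hn z hz, mul_inv_cancel_right]
  have hz' : ∀ {z : G}, z ∈ Z → n⁻¹ * z * n = z := by
    intro z hz
    rw [mul_assoc, mem_centralizer_iff.1 hn z hz, inv_mul_cancel_left]
  have h1 := t'.V 1 0
  have e1 : n⁻¹ * g * n * h.N.e ![1, 0] * (n⁻¹ * g * n)⁻¹ = n⁻¹ * (g * (n * h.N.e ![1, 0] * n⁻¹) * g⁻¹) * n := by
    group
  rw [e1, hz ((h.e_memZ _ _).2 rfl), t.V, mul_zero, hz' ((h.e_memZ _ _).2 rfl), mul_zero] at h1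
  have h2 := (h.e_inj h1).1
  rw [mul_one, mul_one] at h2
  have ha : a' = a := Units.ext h2.symm
  refine ⟨ha, ?_⟩
  have h3 : (m' : F) * k' = m * (k : F)⁻¹ := by
    have h4 := t'.W ![1, 0, 0, 0]
    rw [h.P.act_mul (mul_mem (inv_mem hnC) t.memB.2) hnC, h.P.act_mul (inv_mem hnC) t.memB.2, hnW,
      hnW.inv hnC, inv_eq_of_mul_eq_one_left (W_mul_W : Cfsg.Agent.LieRecognition.SzMatrix.W F * _ = 1),
      t.W, mv_smul, mv_W, mv_D, mv_W, mv_D] at h4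
    have h5 := congrFun h4 0
    have h6 : (m : F) * ((k : F)⁻¹ * 1) = m' * (k' * 1) := h5
    rw [mul_one, mul_one] at h6
    exact h6.symm
  have h4 := t.rel
  have h5 := t'.rel
  have h6 := o.rel2 t
  have hk := k.ne_zero
  have h7 : h.sig (l' * l) = h.sig (θ a) := by
    rw [map_mul, h4, h5, h3, ← h6]
    field_simp
  exact Units.ext (h.sig.injective h7)

theorem Hall.x₁ (hH : Hall h Hh) {n : G} (hn : h.Sw n) (hnH : n ∈ normalizer (Hh : Set G)) :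
    ∀ g ∈ Hh, h.xw (n⁻¹ * g * n) = h.yw g ∧ h.yw (n⁻¹ * g * n) = h.xw g := by
  intro g hg
  obtain ⟨a, l, m, k, t⟩ := hH.le hg
  obtain ⟨a', l', m', k', t'⟩ := hH.le ((mem_normalizer_iff''.1 hnH g).1 hg)
  obtain ⟨h1, h2⟩ := t.conj₁ hn t'
  rw [t.xw_eq, t.yw_eq, t'.xw_eq, t'.yw_eq, h1, h2]
  exact ⟨rfl, rfl⟩

theorem Hall.x₀ (o : Out h) (hH : Hall h Hh) {n : G} (hn : n ∈ centralizer (Z : Set G))
    (hnW : h.P.Ind n (Cfsg.Agent.LieRecognition.SzMatrix.W F)) (hnH : n ∈ normalizer (Hh : Set G)) :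
    ∀ g ∈ Hh, h.xw (n⁻¹ * g * n) = h.xw g ∧
      h.yw (n⁻¹ * g * n) = (e : ZMod (Nat.card Fˣ)) * h.xw g - h.yw g := by
  intro g hg
  obtain ⟨a, l, m, k, t⟩ := hH.le hg
  obtain ⟨a', l', m', k', t'⟩ := hH.le ((mem_normalizer_iff''.1 hnH g).1 hg)
  obtain ⟨h1, h2⟩ := t.conj₀ o hn hnW t'
  rw [t.xw_eq, t.yw_eq, t'.xw_eq, t'.yw_eq, h1, ← dl_th H, ← h2, dl_mul, add_sub_cancel_right]
  exact ⟨rfl, rfl⟩

/-! ### The panels -/

theorem Tor.k_one_iff (o : Out h) {g : G} {a l m k : Fˣ} (t : Tor h g a l m k) : k = 1 ↔ thU θ l = a := by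
  have h4 := t.rel
  have h6 := o.rel2 t
  constructor
  · rintro rfl
    rw [Units.val_one, mul_one] at h4
    rw [← h4, ← map_pow] at h6
    have h7 : l ^ 2 = thU θ a := Units.ext (by
      rw [Units.val_pow_eq_pow_val, thU_val]
      exact h.sig.injective h6)
    apply sq_inj H
    rw [← map_pow, h7, thU_sq H]
  · intro h7
    rw [← h7, thU_val, H.sq, map_pow, h4] at h6
    have h8 : k ^ 2 = 1 := by
      apply Units.ext
      rw [Units.val_pow_eq_pow_val, Units.val_one]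
      have hm : (m : F) ^ 2 ≠ 0 := pow_ne_zero 2 m.ne_zero
      apply mul_left_cancel₀ hm
      rw [mul_one]
      linear_combination -h6
    exact sq_inj H (by rw [h8, one_pow])

theorem fr_false_iff (o : Out h) {g : G} {a l m k : Fˣ} (t : Tor h g a l m k) :
    fr (e : ZMod (Nat.card Fˣ)) h.xw h.yw false g = 0 ↔ k = 1 := by
  rw [t.k_one_iff o]
  show (e : ZMod (Nat.card Fˣ)) * h.yw g - h.xw g = 0 ↔ _
  rw [t.xw_eq, t.yw_eq, ← dl_th H, sub_eq_zero]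
  exact ⟨dl_inj, fun h => by rw [h]⟩

theorem fr_true_iff {g : G} {a l m k : Fˣ} (t : Tor h g a l m k) :
    fr (e : ZMod (Nat.card Fˣ)) h.xw h.yw true g = 0 ↔ a = l := by
  show h.xw g - h.yw g = 0 ↔ _
  rw [t.xw_eq, t.yw_eq, sub_eq_zero]
  exact ⟨dl_inj, fun h => by rw [h]⟩

omit [Finite F] [Finite G] in
theorem Tor.conj_up {g s : G} {a l m k : Fˣ} (t : Tor h g a l m k) {b : F} (hs : h.Up s b) :
    h.Up (g * s * g⁻¹) (a * b * (l : F)⁻¹) := by
  intro x y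
  have e1 : g * s * g⁻¹ * h.N.e ![x, y] * (g * s * g⁻¹)⁻¹ = g * (s * (g⁻¹ * h.N.e ![x, y] * g⁻¹⁻¹) * s⁻¹) * g⁻¹ := by
    group
  rw [e1, t.inv.V, hs, t.V]
  congr 1
  have ha := a.ne_zero
  have hl := l.ne_zero
  rw [Units.val_inv_eq_inv_val, Units.val_inv_eq_inv_val]
  apply ext2
  · show (a : F) * ((a : F)⁻¹ * x + b * ((l : F)⁻¹ * y)) = x + a * b * (l : F)⁻¹ * y
    field_simp
  · show (l : F) * ((l : F)⁻¹ * y) = y
    field_simp

theorem Tor.triv_true (o : Out h) {g : G} {a m k : Fˣ} (t : Tor h g a a m k) {s : G} (hs : s ∈ S) :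
    g * s * g⁻¹ * s⁻¹ ∈ centralizer (V : Set G) := by
  obtain ⟨b, hb⟩ := h.exists_up hs
  apply h.cen_of_up
  have h1 := h.up_mul (t.conj_up hb) (h.up_inv hb)
  have ha := a.ne_zero
  have e1 : (a : F) * b * (a : F)⁻¹ + b = 0 := by
    have := H.add_self b
    field_simp
    linear_combination this
  rwa [e1] at h1

theorem Tor.free_true {g : G} {a l m k : Fˣ} (t : Tor h g a l m k) (hne : a ≠ l) {s : G} (hs : s ∈ S)
    (hc : g * s * g⁻¹ * s⁻¹ ∈ centralizer (V : Set G)) : s ∈ centralizer (V : Set G) := by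
  obtain ⟨b, hb⟩ := h.exists_up hs
  have h1 := h.up_mul (t.conj_up hb) (h.up_inv hb)
  have h2 := h.up_inj h1 (h.up_cen hc)
  have h3 : b = 0 := by
    by_contra hb0
    apply hne
    apply Units.ext
    have hl := l.ne_zero
    have h2' := H.two
    field_simp at h2
    have h4 : b * ((a : F) + l) = 0 := by linear_combination h2
    rcases mul_eq_zero.1 h4 with h5 | h5
    · exact absurd h5 hb0
    · linear_combination h5 - l * h2'
  rw [h3] at hb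
  exact h.cen_of_up hb

theorem Tor.triv_false {g : G} {a l m : Fˣ} (t : Tor h g a l m 1) {s : G} (hs : s ∈ S) :
    g * s * g⁻¹ * s⁻¹ ∈ h.P.K := by
  obtain ⟨b, c, hb⟩ := h.Ad.exists_U s hs
  have hsC := h.S_le_C hs
  have h1 := t.toSz.conj_U t.memB.2 hsC hb
  have h2 := SzMod.Ind.mul (mul_mem (mul_mem t.memB.2 hsC) (inv_mem t.memB.2)) (inv_mem hsC) h1 (hb.inv hsC)
  have e1 : H.U ((1 : F ≃+* F) b * ((1 : Fˣ) : F) ^ 2 * (θ ((1 : Fˣ) : F))⁻¹) ((1 : F ≃+* F) c * θ ((1 : Fˣ) : F)) *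
      (H.U b c)⁻¹ = 1 := by
    have e2 : (1 : F ≃+* F) b * ((1 : Fˣ) : F) ^ 2 * (θ ((1 : Fˣ) : F))⁻¹ = b := by
      show b * _ * _ = b
      simp
    have e3 : (1 : F ≃+* F) c * θ ((1 : Fˣ) : F) = c := by
      show c * _ = c
      simp
    rw [e2, e3, mul_inv_cancel]
  rw [e1] at h2
  exact (h.P.ind_one_iff (mul_mem (mul_mem (mul_mem t.memB.2 hsC) (inv_mem t.memB.2)) (inv_mem hsC))).1 h2

theorem Tor.free_false {g : G} {a l m k : Fˣ} (t : Tor h g a l m k) (hk : k ≠ 1) {s : G} (hs : s ∈ S)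
    (hc : g * s * g⁻¹ * s⁻¹ ∈ h.P.K) : s ∈ h.P.K := by
  obtain ⟨b, c, hb⟩ := h.Ad.exists_U s hs
  have hsC := h.S_le_C hs
  have h1 := t.toSz.conj_U t.memB.2 hsC hb
  have h2 := SzMod.Ind.mul (mul_mem (mul_mem t.memB.2 hsC) (inv_mem t.memB.2)) (inv_mem hsC) h1 (hb.inv hsC)
  have h3 := h2.unique ((h.P.ind_one_iff hc.1).2 hc)
  have h4 := mul_inv_eq_one.1 h3
  obtain ⟨h5, h6⟩ := H.U_inj h4
  have h5 : b * (k : F) ^ 2 * (θ k)⁻¹ = b := h5
  have h6 : c * θ k = c := h6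
  have hk1 : θ (k : F) ≠ 1 := by
    intro h7
    apply hk
    apply Units.ext
    exact θ.injective (h7.trans (map_one θ).symm)
  have hc0 : c = 0 := by
    by_contra hc0
    exact hk1 (mul_left_cancel₀ hc0 (h6.trans (mul_one c).symm))
  have hb0 : b = 0 := by
    by_contra hb0
    have hθ := theta_ne_zero θ k
    have h7 : (k : F) ^ 2 = θ k := by
      field_simp at h5
      exact h5
    -- `k⁴ = θ(k)² = θ(k²) = θ(θ k) = k²`
    have h8 : (k : F) ^ 2 * ((k : F) ^ 2 - 1) = 0 := by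
      have h9 : θ ((k : F) ^ 2) = θ (θ k) := by rw [h7]
      rw [H.sq, map_pow, ← h7] at h9
      linear_combination h9
    rcases mul_eq_zero.1 h8 with h9 | h9
    · exact k.ne_zero ((pow_eq_zero_iff two_ne_zero).1 h9)
    · apply hk1
      rw [← h7]
      linear_combination h9
  rw [hb0, hc0, H.U_zero] at hb
  exact (h.P.ind_one_iff hsC).1 hb

omit [Finite G] in
theorem Tor.Z_x {g : G} {l m k : Fˣ} (t : Tor h g 1 l m k) {z : G} (hz : z ∈ Z) : g * z = z * g := by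
  obtain ⟨c, rfl⟩ := (h.memZ z).1 hz
  have h1 := t.V c 0
  rw [Units.val_one, one_mul, mul_zero] at h1
  exact mul_inv_eq_iff_eq_mul.1 h1

theorem Tor.fixZ {g : G} {a l m k : Fˣ} (t : Tor h g a l m k) (hne : l ≠ a) {s : G} (hs : s ∈ S)
    (hc : g * s = s * g) : s ∈ centralizer (V : Set G) := by
  refine t.free_true hne.symm hs ?_
  rw [hc, mul_inv_cancel_right, mul_inv_cancel]
  exact one_mem _

end Sit

end Cfsg.Agent.Omega.TwoFFour

end

section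


/-!
# THEOREM 2F4, (2): (F1) `S = (S ⊓ K_x) C_S(V)` and its consequences

* `exists_K_up` : every transvection `up a` of `V` is induced by an element of `S ⊓ K`;
* `S_decomp` : `S = (S ⊓ K) (S ⊓ C(V))`; `exists_cen_U` : `S ⊓ C(V)` covers `T`;
* `bt_iff` : `n w n⁻¹ ∈ K ↔ f w ∈ M³`, i.e. `W_y ⊓ K_x` is the preimage of `M_y³`;
* `comm_Z`, `comm_one`, `mem_I_of_commute` : the pairing `W_x / W_x³ × W_y³ / I → Z_x`.
-/

set_option autoImplicit false
set_option linter.unusedSectionVars false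

namespace Cfsg.Agent.Omega.TwoFFour

open Subgroup Matrix
open Cfsg.Agent.ZN Cfsg.Agent.MinSimple.VModule Cfsg.Agent.Lib.SL2Mat
open Cfsg.Agent.LieRecognition.SzMatrix (Good Umat Umat_def Dmat Dmat_def)
open Cfsg.Agent.Omega.NatPair (NatMod ap ext2)

theorem surj_theta {F : Type*} [Field F] [Finite F] (θ : F →+* F) : Function.Surjective θ :=
  Finite.surjective_of_injective θ.injective

/-- a `T`-invariant subgroup of `F⁴` not contained in `M³` contains `M³` -/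
theorem ge_three {F : Type*} [Field F] [Finite F] {θ : F →+* F} {e : ℕ} (H : Good F θ e) (X : AddSubgroup (Fin 4 → F))
    (hX : ∀ a b, ∀ v ∈ X, mv (H.U a b) v ∈ X) {v : Fin 4 → F} (hv : v ∈ X) (h3 : v 3 ≠ 0) {w : Fin 4 → F}
    (hw : w 3 = 0) : w ∈ X := by
  have s2 : ∀ y, ∃ u ∈ X, u 3 = 0 ∧ u 2 = y := by
    intro y
    refine ⟨mv (H.U (y / v 3) 0) v - v, X.sub_mem (hX _ _ _ hv) hv, ?_, ?_⟩
    · rw [mv_U]; simp
    · rw [mv_U]
      simp only [Pi.sub_apply, Matrix.cons_val]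
      field_simp
      ring
  have s1 : ∀ y, ∃ u ∈ X, u 3 = 0 ∧ u 2 = 0 ∧ u 1 = y := by
    intro y
    obtain ⟨a, ha⟩ := surj_theta θ y
    obtain ⟨u, hu, hu3, hu2⟩ := s2 1
    refine ⟨mv (H.U a 0) u - u, X.sub_mem (hX _ _ _ hu) hu, ?_, ?_, ?_⟩
    · rw [mv_U]; simp
    · rw [mv_U]; simp [hu3]
    · rw [mv_U]; simp [hu3, hu2, ha]
  have s0 : ∀ y, ∃ u ∈ X, u 3 = 0 ∧ u 2 = 0 ∧ u 1 = 0 ∧ u 0 = y := by
    intro y
    obtain ⟨u, hu, hu3, hu2, hu1⟩ := s1 1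
    refine ⟨mv (H.U y 0) u - u, X.sub_mem (hX _ _ _ hu) hu, ?_, ?_, ?_, ?_⟩
    · rw [mv_U]; simp
    · rw [mv_U]; simp [hu3]
    · rw [mv_U]; simp [hu3, hu2]
    · rw [mv_U]; simp [hu3, hu2, hu1]
  obtain ⟨u, hu, hu3, hu2⟩ := s2 (w 2)
  obtain ⟨u', hu', hu'3, hu'2, hu'1⟩ := s1 (w 1 - u 1)
  obtain ⟨u'', hu'', hu''3, hu''2, hu''1, hu''0⟩ := s0 (w 0 - u 0 - u' 0)
  have : w = u + u' + u'' := by
    apply ext4
    · simp only [Pi.add_apply, hu''0]; ring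
    · simp only [Pi.add_apply, hu''1, hu'1]; ring
    · simp only [Pi.add_apply, hu''2, hu'2, hu2]; ring
    · simp only [Pi.add_apply, hu''3, hu'3, hu3, hw]; ring
  rw [this]
  exact X.add_mem (X.add_mem hu hu') hu''

variable {G : Type*} [Group G]

namespace Sit

variable {F : Type*} [Field F] {θ : F →+* F} {e : ℕ} {H : Good F θ e} {S : Sylow 2 G} {V Z W : Subgroup G}
variable (h : Sit F H S V Z W)
include h

theorem exists_V (c : F) : ∃ v ∈ V, h.P.f v = ![c, 0, 0, 0] := by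
  obtain ⟨w, hw, hf⟩ := h.P.f_surj ![c, 0, 0, 0]
  exact ⟨w, (h.memV w).2 ⟨hw, c, hf⟩, hf⟩

theorem S_comm_Z {s z : G} (hs : s ∈ S) (hz : z ∈ Z) : s * z = z * s := (mem_centralizer_iff.1 (h.SZ hs) z hz).symm

/-- if `S ⊓ K` centralises `V` then it centralises `W` -/
theorem comm_W_of [Finite G] (hcon : ∀ q ∈ S, q ∈ h.P.K → q ∈ centralizer (V : Set G)) {q : G} (hq : q ∈ S)
    (hqK : q ∈ h.P.K) {w : G} (hw : w ∈ W) : q * w = w * q := by
  let X : AddSubgroup (Fin 4 → F) :=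
    { carrier := {v | ∃ w ∈ W, h.P.f w = v ∧ q * w = w * q}
      add_mem' := by
        rintro _ _ ⟨x, hx, rfl, hxq⟩ ⟨y, hy, rfl, hyq⟩
        refine ⟨x * y, mul_mem hx hy, h.f_mul hx hy, ?_⟩
        rw [← mul_assoc, hxq, mul_assoc, hyq, mul_assoc]
      zero_mem' := ⟨1, one_mem _, h.f_one, by rw [mul_one, one_mul]⟩
      neg_mem' := by
        rintro _ ⟨x, hx, rfl, hxq⟩
        exact ⟨x⁻¹, inv_mem hx, h.P.f_inv hx, by
          have : Commute q x := hxq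
          exact this.inv_right⟩ }
  have hX : X = ⊤ := by
    apply span_lines H
    intro A hA c
    obtain ⟨g, hg, hgA⟩ := h.P.exists_ind hA
    obtain ⟨v, hv, hvf⟩ := h.exists_V c
    refine ⟨g * v * g⁻¹, h.conjW hg (h.V_le_W hv), ?_, ?_⟩
    · rw [h.f_conj hg (h.V_le_W hv), hgA, hvf]
      congr 1
      apply ext4 <;> simp
    · -- `g⁻¹ q g` centralises `V`
      have hR : ((S : Subgroup G) ⊓ h.P.K).map (MulAut.conj g⁻¹).toMonoidHom ≤ h.P.K := by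
        rintro _ ⟨y, hy, rfl⟩
        exact h.P.conj_mem_K (inv_mem hg) hy.2
      obtain ⟨x, hx, hxR⟩ := h.sylK.exists_conj_le hR ((S.isPGroup'.to_le inf_le_left).map _)
      have h1 := hxR _ ⟨q, ⟨hq, hqK⟩, rfl⟩
      have h2 : (MulAut.conj g⁻¹).toMonoidHom q = g⁻¹ * q * g := by
        show g⁻¹ * q * g⁻¹⁻¹ = _
        rw [inv_inv]
      rw [h2] at h1
      have h3 := h.cen_comm (hcon _ h1.1 h1.2) (h.conjV (h.K_le_M hx) hv)
      calc q * (g * v * g⁻¹) = g * x⁻¹ * ((x * (g⁻¹ * q * g) * x⁻¹) * (x * v * x⁻¹)) * x * g⁻¹ := by group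
        _ = g * x⁻¹ * ((x * v * x⁻¹) * (x * (g⁻¹ * q * g) * x⁻¹)) * x * g⁻¹ := by rw [h3]
        _ = g * v * g⁻¹ * q := by group
  have h1 : h.P.f w ∈ X := by rw [hX]; exact AddSubgroup.mem_top _
  obtain ⟨w', hw', hf, hc⟩ := h1
  have h2 : w * w'⁻¹ ∈ Z := by
    rw [← h.P.f_ker (mul_mem hw (inv_mem hw')), h.f_mul hw (inv_mem hw'), h.f_inv hw', hf]
    exact funext fun i => H.add_self _
  have h3 := h.S_comm_Z hq h2
  calc q * w = q * (w * w'⁻¹) * w' := by group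
    _ = w * w'⁻¹ * q * w' := by rw [h3]
    _ = w * w'⁻¹ * (q * w') := by group
    _ = w * q := by rw [hc]; group

theorem mem_I_of_commute [Finite G] {n : G} (hn : h.Sw n) {g : G} (hg : g ∈ W)
    (hc : ∀ w ∈ W, n * g * n⁻¹ * w = w * (n * g * n⁻¹)) : g ∈ h.I := by
  refine h.mem_I_of_comm hn hg fun w hw => ?_
  have h1 := h.conjW (h.nn_C hn) hw
  have h2 := hc _ h1
  calc n * w * n⁻¹ * g = n⁻¹ * (n * n * w * (n * n)⁻¹ * (n * g * n⁻¹)) * n := by group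
    _ = n⁻¹ * (n * g * n⁻¹ * (n * n * w * (n * n)⁻¹)) * n := by rw [h2]
    _ = g * (n * w * n⁻¹) := by group

/-- **(F1)**, first step -/
theorem exists_up_ne [Finite G] : ∃ q ∈ S, q ∈ h.P.K ∧ ∃ a ≠ 0, h.Up q a := by
  have := h.finF
  by_contra hcon
  push Not at hcon
  have hcon' : ∀ q ∈ S, q ∈ h.P.K → q ∈ centralizer (V : Set G) := by
    intro q hq hqK
    obtain ⟨a, ha⟩ := h.exists_up hq
    by_cases ha0 : a = 0
    · rw [ha0] at ha
      exact h.cen_of_up ha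
    · exact absurd ha (hcon q hq hqK a ha0)
  obtain ⟨n, hn⟩ := h.exists_sw
  have hinj : Function.Injective (fun p : F × F => h.bt n (h.P.r ![0, 0, p.1, p.2])) := by
    rintro ⟨y, z⟩ ⟨y', z'⟩ he
    have he' : h.bt n (h.P.r ![0, 0, y, z]) = h.bt n (h.P.r ![0, 0, y', z']) := he
    set w := h.P.r ![0, 0, y, z] with hw
    set w' := h.P.r ![0, 0, y', z'] with hw'
    have hwW : w ∈ W := h.P.r_mem _
    have hwW' : w' ∈ W := h.P.r_mem _
    have h1 : h.bt n (w * w'⁻¹) = 0 := by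
      rw [h.bt_mul hn hwW (inv_mem hwW'), h.bt_inv hn hwW', he']
      exact H.add_self _
    have h2 := (h.bt_eq_zero hn (mul_mem hwW (inv_mem hwW'))).1 h1
    have h3 := (h.conj_mem hn (mul_mem hwW (inv_mem hwW'))).1
    have h4 : w * w'⁻¹ ∈ h.I := h.mem_I_of_commute hn (mul_mem hwW (inv_mem hwW'))
      fun x hx => h.comm_W_of hcon' h3 h2 hx
    obtain ⟨-, h5, h6⟩ := h4
    rw [h.f_mul hwW (inv_mem hwW'), h.f_inv hwW', hw, hw', h.P.f_r, h.P.f_r] at h5 h6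
    have h7 : y + y' = 0 := h5
    have h8 : z + z' = 0 := h6
    have h9 := H.add_self y'
    have h10 := H.add_self z'
    ext
    · show y = y'
      linear_combination h7 - h9
    · show z = z'
      linear_combination h8 - h10
  have h1 := Nat.card_le_card_of_injective _ hinj
  rw [Nat.card_prod] at h1
  have h2 : 1 < Nat.card F := Finite.one_lt_card
  nlinarith

/-- **(F1)** -/
theorem exists_K_up [Finite G] (a : F) : ∃ q ∈ S, q ∈ h.P.K ∧ h.Up q a := by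
  have := h.finF
  by_cases ha : a = 0
  · exact ⟨1, one_mem _, one_mem _, ha ▸ h.up_one⟩
  obtain ⟨q, hq, hqK, a₀, ha₀, hqa⟩ := h.exists_up_ne
  obtain ⟨t', ht'⟩ := surj_theta θ (a / a₀)
  obtain ⟨t, rfl⟩ := surj_theta θ t'
  rw [H.sq] at ht'
  have ht : t ≠ 0 := by
    rintro rfl
    rw [zero_pow two_ne_zero] at ht'
    exact div_ne_zero ha ha₀ ht'.symm
  obtain ⟨g, hg⟩ := h.N.lift (dg t ht)
  have hg' : ∀ x y, g * h.N.e ![x, y] * g⁻¹ = h.N.e ![t * x, t⁻¹ * y] := by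
    intro x y
    rw [hg]
    congr 1
    apply ext2 <;> simp [ap]
  have hgC : g ∈ normalizer (Z : Set G) := by
    apply h.mem_C_of
    intro c
    rw [hg', h.e_memZ, mul_zero]
  have hgi : ∀ x y, g⁻¹ * h.N.e ![x, y] * g = h.N.e ![t⁻¹ * x, t * y] := by
    intro x y
    have h1 := hg' (t⁻¹ * x) (t * y)
    rw [mul_inv_cancel_left₀ ht, inv_mul_cancel_left₀ ht] at h1
    rw [← h1]; group
  have h1 : h.Up (g * q * g⁻¹) a := by
    intro x y
    have e1 : g * q * g⁻¹ * h.N.e ![x, y] * (g * q * g⁻¹)⁻¹ = g * (q * (g⁻¹ * h.N.e ![x, y] * g) * q⁻¹) * g⁻¹ := by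
      group
    rw [e1, hgi, hqa, hg', inv_mul_cancel_left₀ ht]
    congr 2
    field_simp
    rw [ht']
    field_simp
  have hL : h.P.K ⊓ h.upGrp ≤ h.upGrp := inf_le_right
  have hQ : Syl2 ((S : Subgroup G) ⊓ h.P.K) (h.P.K ⊓ h.upGrp) :=
    h.sylK.mono (le_inf inf_le_right (inf_le_left.trans h.S_le_upGrp)) inf_le_left
  obtain ⟨s, hs, hsa, -⟩ := h.exists_of_up' hQ hL ⟨h.P.conj_mem_K hgC hqK, a, h1⟩ h1
  exact ⟨s, hs.1, hs.2, hsa⟩

/-- **(F1)** : `S = (S ⊓ K) (S ⊓ C(V))` -/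
theorem S_decomp [Finite G] {s : G} (hs : s ∈ S) : ∃ q ∈ S, q ∈ h.P.K ∧ ∃ c ∈ S, c ∈ centralizer (V : Set G) ∧ s = q * c := by
  obtain ⟨a, ha⟩ := h.exists_up hs
  obtain ⟨q, hq, hqK, hqa⟩ := h.exists_K_up a
  refine ⟨q, hq, hqK, q⁻¹ * s, mul_mem (inv_mem hq) hs, ?_, by group⟩
  apply h.cen_of_up
  have := h.up_mul (h.up_inv hqa) ha
  rwa [H.add_self] at this

/-- `S ⊓ C(V)` covers `T` -/
theorem exists_cen_U [Finite G] (a b : F) : ∃ s ∈ S, s ∈ centralizer (V : Set G) ∧ h.P.Ind s (H.U a b) := by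
  obtain ⟨s, hs, hsU⟩ := h.Ad.surj a b
  obtain ⟨q, hq, hqK, c, hc, hcV, rfl⟩ := h.S_decomp hs
  refine ⟨c, hc, hcV, fun v => ?_⟩
  rw [← hsU, h.P.act_mul (h.S_le_C hq) (h.S_le_C hc), hqK.2]

theorem W_le_K : W ≤ h.P.K := by
  intro w hw
  rw [h.P.mem_K_iff (h.W_le_C hw)]
  intro x hx
  rw [h.ab w hw x hx, mul_inv_cancel_right, mul_inv_cancel]
  exact one_mem _

theorem bt_of_I [Finite G] {n : G} (hn : h.Sw n) {g : G} (hg : g ∈ h.I) : h.bt n g = 0 :=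
  (h.bt_eq_zero hn hg.1).2 (h.W_le_K (h.I_conj' hn hg))

theorem bt_congr [Finite G] {n : G} (hn : h.Sw n) {w w' : G} (hw : w ∈ W) (hw' : w' ∈ W) (hf : h.P.f w = h.P.f w') :
    h.bt n w = h.bt n w' := by
  have h1 : w * w'⁻¹ ∈ Z := by
    rw [← h.P.f_ker (mul_mem hw (inv_mem hw')), h.f_mul hw (inv_mem hw'), h.f_inv hw', hf]
    exact funext fun i => H.add_self _
  have h2 := h.bt_of_I hn (h.V_le_I (h.Z_le_V h1))
  rw [h.bt_mul hn hw (inv_mem hw'), h.bt_inv hn hw'] at h2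
  have h3 := H.add_self (h.bt n w')
  linear_combination h2 - h3

/-- invariance of the kernel of `bt` -/
theorem bt_conj [Finite G] {n : G} (hn : h.Sw n) {g w : G} (hg : g ∈ normalizer (Z : Set G))
    (hg' : n * g * n⁻¹ ∈ normalizer (Z : Set G)) (hw : w ∈ W) (h0 : h.bt n w = 0) : h.bt n (g * w * g⁻¹) = 0 := by
  rw [h.bt_eq_zero hn hw] at h0
  rw [h.bt_eq_zero hn (h.conjW hg hw)]
  have h1 := h.P.conj_mem_K hg' h0
  have e : n * g * n⁻¹ * (n * w * n⁻¹) * (n * g * n⁻¹)⁻¹ = n * (g * w * g⁻¹) * n⁻¹ := by group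
  rwa [e] at h1

/-- elements of `B` fixing `y` acting as `U a b * D k` -/
theorem exists_D' [Finite G] {n : G} (hn : h.Sw n) (k : Fˣ) : ∃ g ∈ normalizer (Z : Set G),
    n * g * n⁻¹ ∈ normalizer (Z : Set G) ∧ g ∈ normalizer (V : Set G) ∧ ∃ a b, ∀ v, h.P.act g v = mv (H.U a b * H.D k) v := by
  obtain ⟨g, hg, hgD⟩ := h.exists_D k
  have hgn : g * n ∉ normalizer (Z : Set G) := by
    intro hc
    apply h.sw_notin hn
    have : g⁻¹ * (g * n) ∈ normalizer (Z : Set G) := Subgroup.mul_mem _ (inv_mem hg.2) hc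
    rwa [inv_mul_cancel_left] at this
  obtain ⟨s, hs, b, hb, e⟩ := h.decomp hn (mul_mem hg.1 (h.sw_mem hn)) hgn
  have hsC := h.S_le_C hs
  refine ⟨s⁻¹ * g, mul_mem (inv_mem hsC) hg.2, ?_, mul_mem (inv_mem (h.SV hs)) hg.1, ?_⟩
  · have e1 : n * (s⁻¹ * g) * n⁻¹ = n * n * b * (n * n)⁻¹ := by
      have e2 : g = s * n * b * n⁻¹ := by rw [← e]; group
      rw [e2]; group
    rw [e1]
    exact mul_mem (mul_mem (h.nn_C hn) hb.2) (inv_mem (h.nn_C hn))
  · obtain ⟨a, c, hac⟩ := h.Ad.exists_U _ (inv_mem hs)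
    refine ⟨a, c, fun v => ?_⟩
    rw [h.P.act_mul (inv_mem hsC) hg.2, hgD, hac, mv_mul]

/-- `W_y ⊓ K_x` lies over `M_y³` -/
theorem f_three_of_bt [Finite G] {n : G} (hn : h.Sw n) {w : G} (hw : w ∈ W) (h0 : h.bt n w = 0) : h.P.f w 3 = 0 := by
  have := h.finF
  by_contra h3
  let X : AddSubgroup (Fin 4 → F) :=
    { carrier := {v | ∃ w ∈ W, h.bt n w = 0 ∧ h.P.f w = v}
      add_mem' := by
        rintro _ _ ⟨x, hx, hx0, rfl⟩ ⟨y, hy, hy0, rfl⟩
        exact ⟨x * y, mul_mem hx hy, by rw [h.bt_mul hn hx hy, hx0, hy0, add_zero], h.f_mul hx hy⟩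
      zero_mem' := ⟨1, one_mem _, h.bt_one hn, h.f_one⟩
      neg_mem' := by
        rintro _ ⟨x, hx, hx0, rfl⟩
        exact ⟨x⁻¹, inv_mem hx, by rw [h.bt_inv hn hx, hx0], h.P.f_inv hx⟩ }
  have hXU : ∀ a b, ∀ v ∈ X, mv (H.U a b) v ∈ X := by
    rintro a b _ ⟨x, hx, hx0, rfl⟩
    obtain ⟨s, hs, hsV, hsU⟩ := h.exists_cen_U a b
    have hsC := h.S_le_C hs
    exact ⟨s * x * s⁻¹, h.conjW hsC hx, h.bt_conj hn hsC (h.cen_le_C (h.conjC (h.sw_mem hn) hsV)) hx hx0,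
      by rw [h.f_conj hsC hx, hsU]⟩
  have hwX : h.P.f w ∈ X := ⟨w, hw, h0, rfl⟩
  have hX : ∀ v, v ∈ X := by
    intro v
    -- an element of `X` with the same last coordinate
    obtain ⟨u, hu, hu3⟩ : ∃ u ∈ X, u 3 = v 3 := by
      by_cases hv3 : v 3 = 0
      · exact ⟨0, X.zero_mem, by rw [hv3]; rfl⟩
      · obtain ⟨g, hg, hg', -, a, b, hab⟩ := h.exists_D' hn (Units.mk0 (h.P.f w 3 / v 3) (div_ne_zero h3 hv3))
        refine ⟨h.P.f (g * w * g⁻¹), ⟨_, h.conjW hg hw, h.bt_conj hn hg hg' hw h0, rfl⟩, ?_⟩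
        rw [h.f_conj hg hw, hab, mv_mul, mv_U]
        simp only [Matrix.cons_val]
        rw [mv_D]
        simp only [Matrix.cons_val, Units.val_mk0]
        field_simp
    have h4 : v - u ∈ X := ge_three H X hXU hwX h3 (by rw [Pi.sub_apply, hu3, sub_self])
    have h5 := X.add_mem h4 hu
    rwa [sub_add_cancel] at h5
  obtain ⟨x, hx, hx1⟩ := h.bt_surj hn 1
  obtain ⟨y, hy, hy0, hyf⟩ := hX (h.P.f x)
  have h6 := h.bt_congr hn hx hy hyf.symm
  rw [hx1, hy0] at h6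
  exact one_ne_zero h6

/-- `W_y ⊓ K_x` is the preimage of `M_y³` -/
theorem bt_iff [Finite G] {n : G} (hn : h.Sw n) {w : G} (hw : w ∈ W) : h.bt n w = 0 ↔ h.P.f w 3 = 0 := by
  have := h.finF
  refine ⟨h.f_three_of_bt hn hw, fun h3 => ?_⟩
  have hch : ∀ t, ∃ w ∈ W, h.bt n w = t := h.bt_surj hn
  choose u hu hut using hch
  have hwd : ∀ x ∈ W, ∀ y ∈ W, h.bt n x = h.bt n y → h.P.f x 3 = h.P.f y 3 := by
    intro x hx y hy hxy
    have h1 := h.f_three_of_bt hn (mul_mem hx (inv_mem hy)) (by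
      rw [h.bt_mul hn hx (inv_mem hy), h.bt_inv hn hy, hxy]
      exact H.add_self _)
    rw [h.f_mul hx (inv_mem hy), h.f_inv hy, Pi.add_apply] at h1
    have h2 := H.add_self (h.P.f y 3)
    linear_combination h1 - h2
  have hsurj : Function.Surjective (fun t => h.P.f (u t) 3) := by
    intro z
    obtain ⟨x, hx, hxf⟩ := h.P.f_surj ![0, 0, 0, z]
    refine ⟨h.bt n x, ?_⟩
    show h.P.f (u (h.bt n x)) 3 = z
    rw [hwd _ (hu _) x hx (hut _), hxf]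
    rfl
  have hinj := Finite.injective_iff_surjective.2 hsurj
  have h1 : h.P.f (u (h.bt n w)) 3 = h.P.f (u 0) 3 := by
    rw [hwd _ (hu _) w hw (hut _), h3, hwd _ (hu 0) 1 (one_mem _) (by rw [hut, h.bt_one hn]), h.f_one]
    rfl
  exact hinj h1

theorem conj_mem_K_iff [Finite G] {n : G} (hn : h.Sw n) {w : G} (hw : w ∈ W) : n * w * n⁻¹ ∈ h.P.K ↔ h.P.f w 3 = 0 :=
  (h.bt_eq_zero hn hw).symm.trans (h.bt_iff hn hw)

/-- `[W_y³, W_x] ≤ Z_x` -/
theorem comm_Z [Finite G] {n : G} (hn : h.Sw n) {x w : G} (hx : x ∈ W) (hx3 : h.P.f x 3 = 0) (hw : w ∈ W) :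
    n * x * n⁻¹ * w * (n * x * n⁻¹)⁻¹ * w⁻¹ ∈ Z := h.K_comm ((h.conj_mem_K_iff hn hx).2 hx3) hw

/-- `[W_y³, W_x³] = 1` -/
theorem comm_one [Finite G] {n : G} (hn : h.Sw n) {x w : G} (hx : x ∈ W) (hx3 : h.P.f x 3 = 0) (hw : w ∈ W)
    (hw3 : h.P.f w 3 = 0) : n * x * n⁻¹ * w = w * (n * x * n⁻¹) := by
  have h1 := h.comm_Z hn hx hx3 hw
  have h2 := h.comm_Z (h.sw_inv hn) hw hw3 hx
  obtain ⟨c, hc⟩ := (h.memZ _).1 h1
  obtain ⟨d, hd⟩ := (h.memZ _).1 (inv_mem h2)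
  have h3 := hn d 0
  rw [hd] at h3
  have e : n * (n⁻¹ * w * n⁻¹⁻¹ * x * (n⁻¹ * w * n⁻¹⁻¹)⁻¹ * x⁻¹)⁻¹ * n⁻¹ =
    n * x * n⁻¹ * w * (n * x * n⁻¹)⁻¹ * w⁻¹ := by group
  rw [e, ← hc] at h3
  have h4 := (h.e_inj h3).1
  rw [h4, h.e_zero] at hc
  calc n * x * n⁻¹ * w = (n * x * n⁻¹ * w * (n * x * n⁻¹)⁻¹ * w⁻¹) * (w * (n * x * n⁻¹)) := by group
    _ = w * (n * x * n⁻¹) := by rw [← hc, one_mul]

end Sit

end Cfsg.Agent.Omega.TwoFFour

end
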